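import Mathlib

/-!
# Normal coverings by two subgroups: generic tools
-/

set_option autoImplicit false

namespace Cfsg.Agent.Lib.NormalCoverTwo

open Polynomial
open scoped Matrix

/-- `G` is the union of the conjugates of two proper subgroups. -/
def Covered (G : Type*) [Group G] : Prop :=
  ∃ H K : Subgroup G, H ≠ ⊤ ∧ K ≠ ⊤ ∧ ∀ g : G, ∃ x : G, x * g * x⁻¹ ∈ H ∨ x * g * x⁻¹ ∈ K

theorem covered_quotient {G : Type*} [Group G] (N : Subgroup G) [N.Normal] {H K : Subgroup G}
    (hH : H ≠ ⊤) (hK : K ≠ ⊤) (hNH : N ≤ H) (hNK : N ≤ K)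
    (hcov : ∀ g : G, ∃ x : G, x * g * x⁻¹ ∈ H ∨ x * g * x⁻¹ ∈ K) : Covered (G ⧸ N) := by
  have hprop : ∀ {S : Subgroup G}, S ≠ ⊤ → N ≤ S → S.map (QuotientGroup.mk' N) ≠ ⊤ := by
    intro S hS hN h
    apply hS
    have h2 := congrArg (Subgroup.comap (QuotientGroup.mk' N)) h
    rwa [Subgroup.comap_map_eq, QuotientGroup.ker_mk', Subgroup.comap_top,
      sup_eq_left.2 hN] at h2
  refine ⟨_, _, hprop hH hNH, hprop hK hNK, fun g => ?_⟩
  obtain ⟨g, rfl⟩ := QuotientGroup.mk'_surjective N g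
  obtain ⟨x, hx⟩ := hcov g
  refine ⟨QuotientGroup.mk' N x, hx.imp (fun h => ?_) (fun h => ?_)⟩ <;>
  · rw [← map_inv, ← map_mul, ← map_mul]
    exact Subgroup.mem_map_of_mem _ h

/-- The stabiliser of a subspace. -/
def subStab {G ι F : Type*} [Group G] [Fintype ι] [DecidableEq ι] [CommRing F]
    (ρ : G →* Matrix ι ι F) (W : Submodule F (ι → F)) : Subgroup G where
  carrier := {g | ∀ w, ρ g *ᵥ w ∈ W ↔ w ∈ W}
  mul_mem' {a b} ha hb := fun w => by
    rw [map_mul, ← Matrix.mulVec_mulVec]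
    exact (ha _).trans (hb w)
  one_mem' := fun w => by simp
  inv_mem' {a} ha := fun w => by
    rw [← ha (ρ a⁻¹ *ᵥ w), Matrix.mulVec_mulVec, ← map_mul, mul_inv_cancel, map_one,
      Matrix.one_mulVec]

theorem mem_subStab_iff {G ι F : Type*} [Group G] [Fintype ι] [DecidableEq ι] [Field F]
    (ρ : G →* Matrix ι ι F) (W : Submodule F (ι → F)) (g : G) :
    g ∈ subStab ρ W ↔ ∀ w ∈ W, ρ g *ᵥ w ∈ W := by
  refine ⟨fun h w hw => (h w).2 hw, fun h w => ⟨fun hgw => ?_, h w⟩⟩
  have hcancel : ∀ u v : ι → F, ρ g *ᵥ u = ρ g *ᵥ v → u = v := fun u v huv => by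
    have h2 := congrArg (fun z : ι → F => ρ g⁻¹ *ᵥ z) huv
    simpa only [Matrix.mulVec_mulVec, ← map_mul, inv_mul_cancel, map_one, Matrix.one_mulVec]
      using h2
  have hinj : Function.Injective ((ρ g).mulVecLin.restrict h) := fun x y hxy =>
    Subtype.ext (hcancel _ _ (congrArg Subtype.val hxy))
  obtain ⟨x, hx⟩ := LinearMap.injective_iff_surjective.1 hinj ⟨_, hgw⟩
  exact hcancel _ _ (congrArg Subtype.val hx) ▸ x.2

theorem mem_subStab_span_singleton_iff {G ι F : Type*} [Group G] [Fintype ι] [DecidableEq ι]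
    [Field F] (ρ : G →* Matrix ι ι F) (v : ι → F) (g : G) :
    g ∈ subStab ρ (F ∙ v) ↔ ∃ l : F, ρ g *ᵥ v = l • v := by
  rw [mem_subStab_iff]
  constructor
  · intro h
    obtain ⟨l, hl⟩ := Submodule.mem_span_singleton.1 (h v (Submodule.mem_span_singleton_self v))
    exact ⟨l, hl.symm⟩
  · rintro ⟨l, hl⟩ w hw
    obtain ⟨a, rfl⟩ := Submodule.mem_span_singleton.1 hw
    rw [Matrix.mulVec_smul, hl]
    exact Submodule.smul_mem _ _ (Submodule.smul_mem _ _ (Submodule.mem_span_singleton_self v))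

/-- Scalar elements lie in every subspace stabiliser. -/
theorem scalar_mem_subStab {G ι F : Type*} [Group G] [Fintype ι] [DecidableEq ι] [Field F]
    (ρ : G →* Matrix ι ι F) (W : Submodule F (ι → F)) {g : G} {l : F}
    (h : ∀ w, ρ g *ᵥ w = l • w) : g ∈ subStab ρ W :=
  (mem_subStab_iff ρ W g).2 fun w hw => by rw [h]; exact W.smul_mem l hw

/-- The elements whose image shifts `D` by an integer. -/
def shiftStab {G A : Type*} [Group G] [Ring A] (ρ : G →* A) (D : A) : Subgroup G where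
  carrier := {g | ∃ i : ℤ, ρ g * D = (D + (i : A)) * ρ g}
  mul_mem' {a b} := by
    rintro ⟨i, hi⟩ ⟨j, hj⟩
    refine ⟨i + j, ?_⟩
    have hc : Commute (ρ a) (j : A) := (Int.cast_commute j (ρ a)).symm
    rw [map_mul, mul_assoc, hj, ← mul_assoc, mul_add, hi, hc.eq, ← add_mul, mul_assoc,
      Int.cast_add, add_assoc]
  one_mem' := ⟨0, by simp⟩
  inv_mem' {a} := by
    rintro ⟨i, hi⟩
    refine ⟨-i, ?_⟩
    have h1 : ρ a⁻¹ * ρ a = 1 := by rw [← map_mul, inv_mul_cancel, map_one]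
    have h2 : ρ a * ρ a⁻¹ = 1 := by rw [← map_mul, mul_inv_cancel, map_one]
    have hc : Commute (ρ a) (i : A) := (Int.cast_commute i (ρ a)).symm
    have h3 : ρ a * (D - (i : A)) = D * ρ a := by rw [mul_sub, hi, hc.eq, add_mul, add_sub_cancel_right]
    calc ρ a⁻¹ * D = ρ a⁻¹ * (D * (ρ a * ρ a⁻¹)) := by rw [h2, mul_one]
      _ = ρ a⁻¹ * (ρ a * (D - (i : A)) * ρ a⁻¹) := by rw [h3, mul_assoc]
      _ = ρ a⁻¹ * ρ a * ((D - (i : A)) * ρ a⁻¹) := by rw [mul_assoc, mul_assoc]
      _ = _ := by rw [h1, one_mul, Int.cast_neg, sub_eq_add_neg]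

theorem mem_shiftStab {G A : Type*} [Group G] [Ring A] (ρ : G →* A) (D : A) (g : G) :
    g ∈ shiftStab ρ D ↔ ∃ i : ℤ, ρ g * D = (D + (i : A)) * ρ g := Iff.rfl

theorem mem_shiftStab_of_commute {G A : Type*} [Group G] [Ring A] (ρ : G →* A) (D : A) {g : G}
    (h : Commute (ρ g) D) : g ∈ shiftStab ρ D := ⟨0, by simpa using h.eq⟩

/-- A finite field has irreducible monic polynomials of every positive degree. -/
theorem exists_irreducible_natDegree (F : Type*) [Field F] [Finite F] {d : ℕ} (hd : 0 < d) :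
    ∃ p : F[X], p.Monic ∧ Irreducible p ∧ p.natDegree = d := by
  obtain ⟨ℓ, hchar⟩ := CharP.exists F
  haveI := hchar
  haveI : Fact ℓ.Prime := ⟨CharP.char_is_prime F ℓ⟩
  haveI : NeZero d := ⟨hd.ne'⟩
  obtain ⟨a, ha⟩ := Field.exists_primitive_element F (FiniteField.Extension F ℓ d)
  have hint : IsIntegral F a := Algebra.IsIntegral.isIntegral a
  refine ⟨minpoly F a, minpoly.monic hint, minpoly.irreducible hint, ?_⟩
  rw [(Field.primitive_element_iff_minpoly_natDegree_eq F a).1 ha,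
    FiniteField.finrank_extension]

/-- In a finite commutative algebra over a finite field, a polynomial with a root in every
residue field has a root. -/
theorem exists_root {F R : Type*} [Field F] [Finite F] [CommRing R] [Algebra F R] [Finite R]
    (h : F[X]) (hres : ∀ P : Ideal R, P.IsMaximal → ∃ r : R, aeval r h ∈ P) :
    ∃ ω : R, aeval ω h = 0 := by
  haveI := Fintype.ofFinite F
  choose r hr using fun I : MaximalSpectrum R => hres I.asIdeal I.isMaximal
  obtain ⟨x, hx⟩ := (IsArtinianRing.quotNilradicalEquivPi R).surjective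
    (fun I => Ideal.Quotient.mk I.asIdeal (r I))
  obtain ⟨s, rfl⟩ := Ideal.Quotient.mk_surjective x
  have hnil : IsNilpotent (aeval s h) := by
    rw [← mem_nilradical, IsArtinianRing.nilradical_eq_iInf, Submodule.mem_iInf]
    intro I
    have h1 : Ideal.Quotient.mk I.asIdeal s = Ideal.Quotient.mk I.asIdeal (r I) := by
      have := congrFun hx I
      exact this
    rw [← Ideal.Quotient.eq_zero_iff_mem, ← Ideal.Quotient.mkₐ_eq_mk F, ← aeval_algHom_apply,
      Ideal.Quotient.mkₐ_eq_mk, h1, ← Ideal.Quotient.mkₐ_eq_mk F, aeval_algHom_apply,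
      Ideal.Quotient.mkₐ_eq_mk, Ideal.Quotient.eq_zero_iff_mem]
    exact hr I
  obtain ⟨k, hk⟩ := hnil
  refine ⟨((FiniteField.frobeniusAlgHom F R) ^ k) s, ?_⟩
  rw [aeval_algHom_apply]
  have hfr : ∀ (j : ℕ) (y : R),
      (FiniteField.frobeniusAlgHom F R ^ j) y = y ^ Fintype.card F ^ j := by
    intro j
    induction j with
    | zero => simp
    | succ j ih =>
      intro y
      rw [pow_succ', AlgHom.mul_apply, ih, FiniteField.coe_frobeniusAlgHom]
      simp only [← pow_mul, ← pow_succ]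
  rw [hfr]
  exact pow_eq_zero_of_le (Nat.lt_pow_self Fintype.one_lt_card).le hk

end Cfsg.Agent.Lib.NormalCoverTwo
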