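import Mathlib

/-!
# Artin–Schreier classes in characteristic two
-/

set_option autoImplicit false

namespace Cfsg.Agent.Lib.NormalCoverTwo

/-- In a finite field of characteristic two `r ↦ r² + r` misses a value, and the sum of two missed
values is not missed. -/
theorem exists_as_two (F : Type*) [Field F] [Finite F] [CharP F 2] :
    ∃ ν : F, (∀ r : F, r * r + r ≠ ν) ∧
      ∀ x : F, (∃ r, r * r + r = x) ∨ ∃ r, r * r + r = x + ν := by
  have h2 : (2 : F) = 0 := CharTwo.two_eq_zero
  let f : F →+ F :=
    { toFun := fun r => r * r + r
      map_zero' := by simp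
      map_add' := fun a b => by linear_combination (a * b) * h2 }
  have hker : Nat.card f.ker = 2 := by
    have hset : (f.ker : Set F) = {0, 1} := by
      ext r
      simp only [SetLike.mem_coe, AddMonoidHom.mem_ker, Set.mem_insert_iff, Set.mem_singleton_iff]
      show r * r + r = 0 ↔ _
      constructor
      · intro h
        have h' : r * (r + 1) = 0 := by linear_combination h
        rcases mul_eq_zero.1 h' with h'' | h''
        · exact Or.inl h''
        · exact Or.inr (by linear_combination h'' - h2)
      · rintro (rfl | rfl)
        · ring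
        · linear_combination h2
    rw [← SetLike.coe_sort_coe, Nat.card_coe_set_eq, hset, Set.ncard_pair zero_ne_one]
  have hidx : f.range.index = 2 := by
    have h1 := f.range.card_mul_index
    have h3 := f.ker.card_mul_index
    rw [AddSubgroup.index_ker f, hker] at h3
    rw [← h3, mul_comm] at h1
    exact mul_right_cancel₀ Nat.card_pos.ne' h1
  obtain ⟨ν, hν⟩ : ∃ ν : F, ν ∉ f.range := by
    by_contra! h
    rw [(AddSubgroup.eq_top_iff' _).2 h, AddSubgroup.index_top] at hidx
    exact absurd hidx (by norm_num)
  refine ⟨ν, fun r hr => hν ⟨r, hr⟩, fun x => ?_⟩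
  by_cases hx : x ∈ f.range
  · exact Or.inl hx
  · exact Or.inr ((AddSubgroup.add_mem_iff_of_index_two hidx).2 (by simp [hx, hν]))

end Cfsg.Agent.Lib.NormalCoverTwo
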