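import Mathlib

/-!
# The Artin–Schreier cubic model in characteristic three
-/

set_option autoImplicit false

namespace Cfsg.Agent.Lib.NormalCoverTwo

open Polynomial
open scoped Matrix

variable {F : Type*} [Field F]

/-- A symmetric matrix killed by `X³ - X + c³` and shifted by the cyclic permutation. -/
def cubicM (c : F) : Matrix (Fin 3) (Fin 3) F := !![0, c, c; c, 2, c; c, c, 1]

/-- The cyclic permutation matrix. -/
def cycP (F : Type*) [Field F] : Matrix (Fin 3) (Fin 3) F := !![0, 0, 1; 1, 0, 0; 0, 1, 0]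

theorem cycP_shift (h3 : (3 : F) = 0) (c : F) :
    cycP F * cubicM c = (cubicM c + 1) * cycP F := by
  ext i j
  fin_cases i <;> fin_cases j <;>
    simp [cycP, cubicM, Matrix.mul_apply, Fin.sum_univ_three] <;>
    first | ring1 | linear_combination h3 | linear_combination -h3 | norm_num

theorem cycP_det : (cycP F).det = 1 := by simp [cycP, Matrix.det_fin_three]

theorem cubicM_cube (h3 : (3 : F) = 0) (c : F) :
    cubicM c * (cubicM c * cubicM c) = cubicM c - c ^ 3 • (1 : Matrix (Fin 3) (Fin 3) F) := by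
  ext i j
  fin_cases i <;> fin_cases j <;> simp [cubicM, Matrix.mul_apply, Fin.sum_univ_three] <;>
    first
    | linear_combination (c ^ 3 + c ^ 2) * h3
    | linear_combination (c ^ 3 + c ^ 2 + c) * h3
    | linear_combination (c ^ 3 + 3 * c ^ 2 + 2) * h3
    | linear_combination (c ^ 3 + c ^ 2 + 2 * c) * h3
    | linear_combination (c ^ 3 + 2 * c ^ 2) * h3

theorem cube_injective [CharP F 3] : Function.Injective (fun x : F => x ^ 3) := fun a b h => by
  haveI : Fact (Nat.Prime 3) := ⟨Nat.prime_three⟩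
  have h1 : (a - b) ^ 3 = 0 := by
    rw [sub_pow_char]
    exact sub_eq_zero.2 h
  exact sub_eq_zero.1 (pow_eq_zero_iff (by norm_num) |>.1 h1)

theorem cube_surjective [CharP F 3] [Finite F] : Function.Surjective (fun x : F => x ^ 3) :=
  Finite.surjective_of_injective cube_injective

/-- A parameter for which `X³ - X + c³` has no root, fixed by a given involution. -/
theorem exists_cubic_param [CharP F 3] [Finite F] (φ : F →+* F) (hφ : ∀ x, φ (φ x) = x) :
    ∃ c : F, φ c = c ∧ ∀ r : F, r * r * r - r + c ^ 3 ≠ 0 := by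
  haveI : Fact (Nat.Prime 3) := ⟨Nat.prime_three⟩
  have h3 : (3 : F) = 0 := CharP.cast_eq_zero F 3
  have h2 : (2 : F) ≠ 0 := fun h => one_ne_zero (by linear_combination h3 - h : (1 : F) = 0)
  let f : {r : F // φ r = r} → {r : F // φ r = r} := fun r =>
    ⟨r.1 - r.1 * r.1 * r.1, by rw [map_sub, map_mul, map_mul, r.2]⟩
  have hni : ¬ Function.Injective f := fun h => by
    have h1 := h (a₁ := ⟨0, map_zero φ⟩) (a₂ := ⟨1, map_one φ⟩) (Subtype.ext (by simp [f]))
    exact zero_ne_one (congrArg Subtype.val h1)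
  obtain ⟨b, hb⟩ : ∃ b, ∀ r, f r ≠ b := by
    by_contra! h
    exact hni (Finite.injective_iff_surjective.2 h)
  obtain ⟨c, hc⟩ := cube_surjective (F := F) b.1
  refine ⟨c, cube_injective ?_, fun r hr => ?_⟩
  · show φ c ^ 3 = c ^ 3
    rw [← map_pow]
    exact (congrArg φ hc).trans (b.2.trans hc.symm)
  · have hbc : φ (c ^ 3) = c ^ 3 := (congrArg φ hc).trans (b.2.trans hc.symm)
    have hr' := congrArg φ hr
    simp only [map_add, map_sub, map_mul, hbc, map_zero] at hr'
    set t := φ r - r with ht
    have ht3 : t * (t - 1) * (t + 1) = 0 := by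
      rw [ht]
      linear_combination hr' - hr + (r * r * φ r - r * φ r * φ r) * h3
    have htt : φ t = -t := by rw [ht, map_sub, hφ]; ring
    have hfix : φ t = t := by
      rcases mul_eq_zero.1 ht3 with h | h
      · rcases mul_eq_zero.1 h with h | h
        · rw [h, map_zero]
        · rw [sub_eq_zero.1 h, map_one]
      · rw [eq_neg_of_add_eq_zero_left h, map_neg, map_one]
    have ht0 : t = 0 := by
      have : 2 * t = 0 := by linear_combination htt - hfix
      exact (mul_eq_zero.1 this).resolve_left h2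
    refine hb ⟨r, sub_eq_zero.1 ht0⟩ (Subtype.ext ?_)
    show r - r * r * r = b.1
    have hc' : c ^ 3 = b.1 := hc
    linear_combination hc' - hr

/-- The polynomial `X³ - X + c³`. -/
noncomputable def cubicPoly (c : F) : F[X] := X ^ 3 - X + C (c ^ 3)

theorem cubicPoly_natDegree (c : F) : (cubicPoly c).natDegree = 3 := by
  unfold cubicPoly; compute_degree!

theorem cubicPoly_monic (c : F) : (cubicPoly c).Monic := by
  unfold cubicPoly; monicity!

theorem cubicPoly_irreducible {c : F} (hc : ∀ r : F, r * r * r - r + c ^ 3 ≠ 0) :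
    Irreducible (cubicPoly c) := by
  refine Polynomial.irreducible_of_degree_le_three_of_not_isRoot
    (by rw [cubicPoly_natDegree]; decide) fun r hr => hc r ?_
  have h := hr.eq_zero
  simp only [cubicPoly, eval_add, eval_sub, eval_pow, eval_X, eval_C] at h
  linear_combination h

theorem aeval_cubicPoly {R : Type*} [Ring R] [Algebra F R] (c : F) (x : R) :
    aeval x (cubicPoly c) = x * (x * x) - x + c ^ 3 • (1 : R) := by
  rw [cubicPoly, map_add, map_sub, map_pow, aeval_X, aeval_C, Algebra.algebraMap_eq_smul_one,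
    pow_three x]

theorem cubicPoly_cubicM (h3 : (3 : F) = 0) (c : F) : aeval (cubicM c) (cubicPoly c) = 0 := by
  rw [aeval_cubicPoly, cubicM_cube h3]; abel

/-- In a finite field with an involution every fixed element is a norm. -/
theorem exists_norm_of_fixed {L : Type*} [Field L] [Finite L] (σ : L →+* L)
    (hσ : ∀ x, σ (σ x) = x) {a₀ : L} (ha₀ : σ a₀ ≠ a₀) {b : L} (hb : σ b = b) :
    ∃ a : L, σ a * a = b := by
  rcases eq_or_ne b 0 with rfl | hb0
  · exact ⟨0, by simp⟩
  let s : Lˣ →* Lˣ := Units.map σ.toMonoidHom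
  let N : Lˣ →* Lˣ := s * MonoidHom.id Lˣ
  let D : Lˣ →* Lˣ := MonoidHom.id Lˣ / s
  have hNval : ∀ u : Lˣ, (N u : L) = σ u * u := fun u => rfl
  have hker : (N.ker : Set Lˣ) ⊆ D.range := by
    intro u hu
    have hu' : σ (u : L) * u = 1 := by rw [← hNval, MonoidHom.mem_ker.1 hu]; rfl
    obtain ⟨a, ha, hau⟩ : ∃ a : L, a ≠ 0 ∧ a = u * σ a := by
      by_cases h : (u : L) = -1
      · exact ⟨a₀ - σ a₀, sub_ne_zero.2 (Ne.symm ha₀), by rw [h, map_sub, hσ]; ring⟩
      · refine ⟨1 + u, fun h' => h (eq_neg_of_add_eq_zero_right h'), ?_⟩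
        rw [map_add, map_one, mul_add, mul_one, mul_comm (u : L) (σ u), hu', add_comm]
    refine ⟨Units.mk0 a ha, Units.ext ?_⟩
    show (Units.mk0 a ha / s (Units.mk0 a ha) : Lˣ).1 = u
    rw [Units.val_div_eq_div_val]
    show a / σ a = u
    rw [div_eq_iff ((map_ne_zero σ).2 ha)]
    exact hau
  let Fix : Subgroup Lˣ :=
    { carrier := {u | s u = u}
      mul_mem' := fun {x y} (hx : s x = x) (hy : s y = y) => by
        show s (x * y) = x * y
        rw [map_mul, hx, hy]
      one_mem' := map_one s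
      inv_mem' := fun {x} (hx : s x = x) => by
        show s x⁻¹ = x⁻¹
        rw [map_inv, hx] }
  have hD : D.ker = Fix := by
    ext u
    show u / s u = 1 ↔ s u = u
    rw [div_eq_one, eq_comm]
  have hNle : N.range ≤ Fix := by
    rintro _ ⟨u, rfl⟩
    refine Units.ext ?_
    show σ (σ (u : L) * u) = σ u * u
    rw [map_mul, hσ, mul_comm]
  have h1 := N.ker.card_mul_index
  rw [Subgroup.index_ker] at h1
  have h2 := D.ker.card_mul_index
  rw [Subgroup.index_ker, hD] at h2
  have h3 : Nat.card N.ker ≤ Nat.card D.range := Nat.card_mono (Set.toFinite _) hker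
  have h4 : Nat.card Fix ≤ Nat.card N.range := by
    refine Nat.le_of_mul_le_mul_right (c := Nat.card D.range) ?_ Nat.card_pos
    calc Nat.card Fix * Nat.card D.range = Nat.card N.ker * Nat.card N.range := h2.trans h1.symm
      _ ≤ Nat.card D.range * Nat.card N.range := Nat.mul_le_mul_right _ h3
      _ = Nat.card N.range * Nat.card D.range := mul_comm _ _
  have h5 : N.range = Fix := Subgroup.eq_of_le_of_card_ge hNle h4
  have h6 : Units.mk0 b hb0 ∈ Fix := Units.ext hb
  rw [← h5] at h6
  obtain ⟨u, hu⟩ := h6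
  exact ⟨u, by rw [← hNval, hu]; rfl⟩

end Cfsg.Agent.Lib.NormalCoverTwo
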