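import Cfsg.Prelude.Def_G2
import Cfsg.Agent.Lib.NormalCoverTwo.Basic
import Cfsg.Agent.Lib.NormalCoverTwo.Char2

/-!
# Normal coverings by two subgroups: `G₂(2^a)`
-/

set_option autoImplicit false

namespace Cfsg.Agent.Lib.NormalCoverTwo.G2

open Cfsg.Lie Module
open scoped Matrix

variable {F : Type*} [Field F]

/-- Assemble a vector matrix. -/
def mk8 (α : F) (a b : Fin 3 → F) (β : F) : Fin 8 → F :=
  ![α, a 0, a 1, a 2, b 0, b 1, b 2, β]

@[simp] theorem mk8_zero (α : F) (a b : Fin 3 → F) (β : F) : mk8 α a b β 0 = α := rfl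
@[simp] theorem mk8_seven (α : F) (a b : Fin 3 → F) (β : F) : mk8 α a b β 7 = β := rfl
@[simp] theorem zA_mk8 (α : F) (a b : Fin 3 → F) (β : F) : zA F (mk8 α a b β) = a := by
  ext i; fin_cases i <;> rfl
@[simp] theorem zB_mk8 (α : F) (a b : Fin 3 → F) (β : F) : zB F (mk8 α a b β) = b := by
  ext i; fin_cases i <;> rfl

theorem mk8_eta (x : Fin 8 → F) : mk8 (x 0) (zA F x) (zB F x) (x 7) = x := by
  ext i; fin_cases i <;> rfl

theorem zornMul_eq (x y : Fin 8 → F) :
    zornMul x y = mk8 (x 0 * y 0 + dot3 (zA F x) (zB F y))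
      (x 0 • zA F y + y 7 • zA F x - cross3 (zB F x) (zB F y))
      (y 0 • zB F x + x 7 • zB F y + cross3 (zA F x) (zA F y))
      (dot3 (zB F x) (zA F y) + x 7 * y 7) := rfl

/-- Trace. -/
def tr (x : Fin 8 → F) : F := x 0 + x 7

/-- Norm. -/
def nm (x : Fin 8 → F) : F := x 0 * x 7 - dot3 (zA F x) (zB F x)

/-- The identity of the algebra. -/
def one8 : Fin 8 → F := mk8 1 0 0 1

/-- The polar form of the norm. -/
def bf (x y : Fin 8 → F) : F :=
  x 0 * y 7 + y 0 * x 7 - dot3 (zA F x) (zB F y) - dot3 (zA F y) (zB F x)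

theorem bf_def (x y : Fin 8 → F) : bf x y = nm (x + y) - nm x - nm y := by
  simp [bf, nm, dot3]; ring

theorem zornMul_self (x : Fin 8 → F) : zornMul x x = tr x • x - nm x • one8 := by
  ext i
  fin_cases i <;> simp [zornMul, tr, nm, one8, mk8, dot3, cross3] <;> ring

theorem one_zornMul (y : Fin 8 → F) : zornMul one8 y = y := by
  ext i
  fin_cases i <;> simp [zornMul, one8, mk8, dot3, cross3]

theorem zornMul_one (y : Fin 8 → F) : zornMul y one8 = y := by
  ext i
  fin_cases i <;> simp [zornMul, one8, mk8, dot3, cross3]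

/-- Action of an element. -/
def act (g : Lie.G2 F) (x : Fin 8 → F) : Fin 8 → F := g.1.1 *ᵥ x

theorem act_mul (g h : Lie.G2 F) (x : Fin 8 → F) : act (g * h) x = act g (act h x) :=
  (Matrix.mulVec_mulVec _ _ _).symm

theorem act_one (x : Fin 8 → F) : act (1 : Lie.G2 F) x = x := Matrix.one_mulVec x

theorem act_inv_act (g : Lie.G2 F) (x : Fin 8 → F) : act g⁻¹ (act g x) = x := by
  rw [← act_mul, inv_mul_cancel, act_one]

theorem act_act_inv (g : Lie.G2 F) (x : Fin 8 → F) : act g (act g⁻¹ x) = x := by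
  rw [← act_mul, mul_inv_cancel, act_one]

theorem act_add (g : Lie.G2 F) (x y : Fin 8 → F) : act g (x + y) = act g x + act g y :=
  Matrix.mulVec_add _ _ _

theorem act_smul (g : Lie.G2 F) (c : F) (x : Fin 8 → F) : act g (c • x) = c • act g x :=
  Matrix.mulVec_smul _ _ _

theorem act_sub (g : Lie.G2 F) (x y : Fin 8 → F) : act g (x - y) = act g x - act g y :=
  Matrix.mulVec_sub _ _ _

theorem act_zornMul (g : Lie.G2 F) (x y : Fin 8 → F) :
    act g (zornMul x y) = zornMul (act g x) (act g y) := g.2 x y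

theorem act_one8 (g : Lie.G2 F) : act g one8 = (one8 : Fin 8 → F) := by
  have h := act_zornMul g one8 (act g⁻¹ one8)
  rw [one_zornMul, act_act_inv, zornMul_one] at h
  exact h.symm

theorem tr_nm_act (g : Lie.G2 F) (x : Fin 8 → F) :
    tr (act g x) = tr x ∧ nm (act g x) = nm x := by
  have h := act_zornMul g x x
  rw [zornMul_self, zornMul_self, act_sub, act_smul, act_smul, act_one8] at h
  by_cases hc : ∃ c : F, act g x = c • one8
  · obtain ⟨c, hc⟩ := hc
    have : x = c • one8 := by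
      have := congrArg (act g⁻¹) hc
      rwa [act_inv_act, act_smul, act_one8] at this
    rw [hc, ← this]
    exact ⟨rfl, rfl⟩
  · by_cases ht : tr (act g x) = tr x
    · refine ⟨ht, ?_⟩
      rw [ht, sub_right_inj] at h
      have := congrFun h 0
      simpa [one8] using this.symm
    · refine absurd ⟨(tr (act g x) - tr x)⁻¹ * (nm (act g x) - nm x), ?_⟩ hc
      have h' : (tr (act g x) - tr x) • act g x = (nm (act g x) - nm x) • one8 := by
        ext i
        have hi := congrFun h i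
        simp only [Pi.sub_apply, Pi.smul_apply, smul_eq_mul] at hi ⊢
        linear_combination -hi
      rw [mul_smul, ← h', inv_smul_smul₀ (sub_ne_zero.2 ht)]

theorem bf_act (g : Lie.G2 F) (x y : Fin 8 → F) : bf (act g x) (act g y) = bf x y := by
  rw [bf_def, bf_def, ← act_add, (tr_nm_act g _).2, (tr_nm_act g _).2, (tr_nm_act g _).2]

/-! ### Elements -/

theorem det_ne_zero_of_injective {M : Matrix (Fin 8) (Fin 8) F}
    (hM : ∀ x y : Fin 8 → F, M *ᵥ x = M *ᵥ y → x = y) : M.det ≠ 0 := by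
  intro h
  obtain ⟨v, hv, hv'⟩ := Matrix.exists_mulVec_eq_zero_iff.2 h
  exact hv (hM v 0 (by rw [hv', Matrix.mulVec_zero]))

theorem exists_elem (f : (Fin 8 → F) →ₗ[F] Fin 8 → F) (hinj : Function.Injective f)
    (hom : ∀ x y, f (zornMul x y) = zornMul (f x) (f y)) :
    ∃ g : Lie.G2 F, ∀ x, act g x = f x := by
  refine ⟨⟨Matrix.GeneralLinearGroup.mkOfDetNeZero (LinearMap.toMatrix' f)
    (det_ne_zero_of_injective fun x y h => hinj ?_), fun x y => ?_⟩, fun x => ?_⟩
  · rwa [LinearMap.toMatrix'_mulVec, LinearMap.toMatrix'_mulVec] at h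
  · show LinearMap.toMatrix' f *ᵥ _ =
      zornMul (LinearMap.toMatrix' f *ᵥ x) (LinearMap.toMatrix' f *ᵥ y)
    simp only [LinearMap.toMatrix'_mulVec, hom]
  · show LinearMap.toMatrix' f *ᵥ x = f x
    rw [LinearMap.toMatrix'_mulVec]

/-- The first shear. -/
def shearA (v : Fin 3 → F) : (Fin 8 → F) →ₗ[F] Fin 8 → F where
  toFun x := mk8 (x 0 + dot3 v (zB F x))
    (zA F x + (x 7 - x 0) • v - dot3 v (zB F x) • v)
    (zB F x + cross3 (zA F x) v) (x 7 - dot3 v (zB F x))
  map_add' x y := by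
    ext i; fin_cases i <;> simp [mk8, dot3, cross3, Matrix.vecHead, Matrix.vecTail] <;> ring
  map_smul' c x := by
    ext i; fin_cases i <;> simp [mk8, dot3, cross3, Matrix.vecHead, Matrix.vecTail] <;> ring

/-- The second shear. -/
def shearB (v : Fin 3 → F) : (Fin 8 → F) →ₗ[F] Fin 8 → F where
  toFun x := mk8 (x 0 + dot3 v (zA F x))
    (zA F x + cross3 (zB F x) v)
    (zB F x - (x 0 - x 7) • v - dot3 v (zA F x) • v) (x 7 - dot3 v (zA F x))
  map_add' x y := by
    ext i; fin_cases i <;> simp [mk8, dot3, cross3, Matrix.vecHead, Matrix.vecTail] <;> ring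
  map_smul' c x := by
    ext i; fin_cases i <;> simp [mk8, dot3, cross3, Matrix.vecHead, Matrix.vecTail] <;> ring

theorem shearA_neg (v : Fin 3 → F) (x : Fin 8 → F) : shearA (-v) (shearA v x) = x := by
  ext i; fin_cases i <;> simp [shearA, mk8, dot3, cross3, Matrix.vecHead, Matrix.vecTail] <;> ring

theorem shearB_neg (v : Fin 3 → F) (x : Fin 8 → F) : shearB (-v) (shearB v x) = x := by
  ext i; fin_cases i <;> simp [shearB, mk8, dot3, cross3, Matrix.vecHead, Matrix.vecTail] <;> ring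

theorem shearA_hom (v : Fin 3 → F) (x y : Fin 8 → F) :
    shearA v (zornMul x y) = zornMul (shearA v x) (shearA v y) := by
  ext i; fin_cases i <;> simp [shearA, zornMul, mk8, dot3, cross3, Matrix.vecHead, Matrix.vecTail] <;> ring

theorem shearB_hom (v : Fin 3 → F) (x y : Fin 8 → F) :
    shearB v (zornMul x y) = zornMul (shearB v x) (shearB v y) := by
  ext i; fin_cases i <;> simp [shearB, zornMul, mk8, dot3, cross3, Matrix.vecHead, Matrix.vecTail] <;> ring

theorem exists_shearA (v : Fin 3 → F) :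
    ∃ g : Lie.G2 F, ∀ α a b β, act g (mk8 α a b β) = mk8 (α + dot3 v b)
      (a + (β - α) • v - dot3 v b • v) (b + cross3 a v) (β - dot3 v b) := by
  obtain ⟨g, hg⟩ := exists_elem (shearA v)
    (Function.LeftInverse.injective (g := shearA (-v)) (shearA_neg v)) (shearA_hom v)
  exact ⟨g, fun α a b β => by
    rw [hg]; ext i; fin_cases i <;> simp [shearA, mk8, dot3, cross3, Matrix.vecHead, Matrix.vecTail]⟩

theorem exists_shearB (v : Fin 3 → F) :
    ∃ g : Lie.G2 F, ∀ α a b β, act g (mk8 α a b β) = mk8 (α + dot3 v a)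
      (a + cross3 b v) (b - (α - β) • v - dot3 v a • v) (β - dot3 v a) := by
  obtain ⟨g, hg⟩ := exists_elem (shearB v)
    (Function.LeftInverse.injective (g := shearB (-v)) (shearB_neg v)) (shearB_hom v)
  exact ⟨g, fun α a b β => by
    rw [hg]; ext i; fin_cases i <;> simp [shearB, mk8, dot3, cross3, Matrix.vecHead, Matrix.vecTail]⟩

/-! ### The action of `SL₃` -/

theorem dot3_eq (u v : Fin 3 → F) : dot3 u v = u ⬝ᵥ v := by
  simp [dot3, dotProduct, Fin.sum_univ_three]

theorem dot3_sl {A : Matrix (Fin 3) (Fin 3) F} (hA : A.det = 1) (a b : Fin 3 → F) :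
    dot3 (A *ᵥ a) (A.adjugateᵀ *ᵥ b) = dot3 a b := by
  rw [dot3_eq, dot3_eq, Matrix.dotProduct_mulVec, Matrix.vecMul_transpose, Matrix.mulVec_mulVec,
    Matrix.adjugate_mul, hA, one_smul, Matrix.one_mulVec]

theorem cross3_sl_left (A : Matrix (Fin 3) (Fin 3) F) (a c : Fin 3 → F) :
    cross3 (A *ᵥ a) (A *ᵥ c) = A.adjugateᵀ *ᵥ cross3 a c := by
  ext i
  fin_cases i <;> simp [cross3, Matrix.mulVec, dotProduct, Fin.sum_univ_three,
    Matrix.adjugate_fin_three] <;> ring

theorem cross3_sl_right {A : Matrix (Fin 3) (Fin 3) F} (hA : A.det = 1) (a c : Fin 3 → F) :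
    cross3 (A.adjugateᵀ *ᵥ a) (A.adjugateᵀ *ᵥ c) = A *ᵥ cross3 a c := by
  rw [cross3_sl_left, Matrix.adjugate_transpose, Matrix.transpose_transpose,
    Matrix.adjugate_adjugate _ (by simp), hA]
  simp

theorem exists_sl_elem (A : Matrix (Fin 3) (Fin 3) F) (hA : A.det = 1) :
    ∃ g : Lie.G2 F, ∀ α a b β,
      act g (mk8 α a b β) = mk8 α (A *ᵥ a) (A.adjugateᵀ *ᵥ b) β := by
  let f : (Fin 8 → F) →ₗ[F] Fin 8 → F :=
    { toFun := fun x => mk8 (x 0) (A *ᵥ zA F x) (A.adjugateᵀ *ᵥ zB F x) (x 7)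
      map_add' := fun x y => by
        ext i; fin_cases i <;> simp [mk8, Matrix.mulVec, dotProduct, Fin.sum_univ_three] <;> ring
      map_smul' := fun c x => by
        ext i; fin_cases i <;> simp [mk8, Matrix.mulVec, dotProduct, Fin.sum_univ_three] <;> ring }
  have hf : ∀ x, f x = mk8 (x 0) (A *ᵥ zA F x) (A.adjugateᵀ *ᵥ zB F x) (x 7) := fun x => rfl
  have hinj : Function.Injective f := by
    refine Function.LeftInverse.injective
      (g := fun x => mk8 (x 0) (A.adjugate *ᵥ zA F x) (Aᵀ *ᵥ zB F x) (x 7)) fun x => ?_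
    simp only [hf, mk8_zero, mk8_seven, zA_mk8, zB_mk8, Matrix.mulVec_mulVec,
      ← Matrix.transpose_mul, Matrix.adjugate_mul, hA, one_smul, Matrix.transpose_one,
      Matrix.one_mulVec, mk8_eta]
  obtain ⟨g, hg⟩ := exists_elem f hinj fun x y => by
    simp only [hf, zornMul_eq, mk8_zero, mk8_seven, zA_mk8, zB_mk8, Matrix.mulVec_add,
      Matrix.mulVec_sub, Matrix.mulVec_smul]
    rw [dot3_sl hA, cross3_sl_right hA, cross3_sl_left,
      show dot3 (A.adjugateᵀ *ᵥ zB F x) (A *ᵥ zA F y) = dot3 (zB F x) (zA F y) by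
        rw [dot3_eq, dotProduct_comm, ← dot3_eq, dot3_sl hA, dot3_eq, dot3_eq, dotProduct_comm]]
  exact ⟨g, fun α a b β => by rw [hg, hf]; simp⟩

theorem exists_row (b : Fin 3 → F) (hb : b ≠ 0) :
    ∃ A : Matrix (Fin 3) (Fin 3) F, A.det = 1 ∧ A 0 = b ∧ (b 0 = 1 → A *ᵥ ![1, 0, 0] = ![1, 0, 0]) := by
  by_cases h0 : b 0 ≠ 0
  · refine ⟨!![b 0, b 1, b 2; 0, (b 0)⁻¹, 0; 0, 0, 1], ?_, ?_, fun h => ?_⟩
    · simp [Matrix.det_fin_three, h0]
    · ext i; fin_cases i <;> rfl
    · ext i; fin_cases i <;> simp [h]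
  push Not at h0
  by_cases h1 : b 1 ≠ 0
  · refine ⟨!![b 0, b 1, b 2; -(b 1)⁻¹, 0, 0; 0, 0, 1], ?_, ?_, fun h => ?_⟩
    · simp [Matrix.det_fin_three, h1]
    · ext i; fin_cases i <;> rfl
    · rw [h0] at h
      exact absurd h zero_ne_one
  push Not at h1
  have h2 : b 2 ≠ 0 := fun h2 => hb (by ext i; fin_cases i <;> assumption)
  refine ⟨!![b 0, b 1, b 2; 0, 1, 0; -(b 2)⁻¹, 0, 0], ?_, ?_, fun h => ?_⟩
  · simp [Matrix.det_fin_three, h2]
  · ext i; fin_cases i <;> rfl
  · rw [h0] at h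
    exact absurd h zero_ne_one

/-- The normal form. -/
def stdPt (ν : F) : Fin 8 → F := mk8 0 ![-ν, 0, 0] ![1, 0, 0] 1

theorem exists_to_std [CharP F 2] (x : Fin 8 → F) (ht : tr x = 1) :
    ∃ g : Lie.G2 F, act g x = stdPt (nm x) := by
  have h2 : (2 : F) = 0 := CharTwo.two_eq_zero
  -- make `b ≠ 0`
  obtain ⟨g₁, α, a, b, β, hg₁, hb⟩ : ∃ (g : Lie.G2 F) (α : F) (a b : Fin 3 → F) (β : F),
      act g x = mk8 α a b β ∧ b ≠ 0 := by
    by_cases hb : zB F x ≠ 0
    · exact ⟨1, x 0, zA F x, zB F x, x 7, by rw [act_one, mk8_eta], hb⟩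
    push Not at hb
    obtain ⟨v, hv, hv0⟩ : ∃ v : Fin 3 → F, dot3 v (zA F x) = 0 ∧ v ≠ 0 := by
      by_cases h : zA F x 0 = 0
      · exact ⟨![1, 0, 0], by simp [dot3] at *; exact h, fun h' => one_ne_zero (congrFun h' 0)⟩
      · refine ⟨![zA F x 1, -zA F x 0, 0], by simp [dot3]; ring, fun h' => h ?_⟩
        have := congrFun h' 1
        simpa using this
    have hc : x 0 - x 7 = 1 := by
      rw [tr] at ht
      linear_combination ht - x 7 * h2
    obtain ⟨g, hg⟩ := exists_shearB v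
    refine ⟨g, x 0 + dot3 v (zA F x), zA F x + cross3 (zB F x) v,
      zB F x - (x 0 - x 7) • v - dot3 v (zA F x) • v, x 7 - dot3 v (zA F x),
      by rw [← hg, mk8_eta], ?_⟩
    rw [hv, hb, hc, zero_sub, zero_smul, sub_zero, one_smul, neg_ne_zero]
    exact hv0
  -- make `α = 0`
  obtain ⟨i, hi⟩ := Function.ne_iff.1 hb
  set v : Fin 3 → F := Pi.single i (-α * (b i)⁻¹) with hv
  have hvb : dot3 v b = -α := by
    rw [dot3_eq, single_dotProduct, mul_assoc, inv_mul_cancel₀ hi, mul_one]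
  obtain ⟨g₂, hg₂⟩ := exists_shearA v
  set a₂ := a + (β - α) • v - dot3 v b • v
  set b₂ := b + cross3 a v
  have ht₁ : α + β = 1 := by
    have h := (tr_nm_act g₁ x).1
    rw [hg₁] at h
    simpa [tr] using h.trans ht
  have hn₂ : act g₂ (mk8 α a b β) = mk8 0 a₂ b₂ 1 := by
    rw [hg₂, hvb, show α + -α = (0 : F) by ring, show β - -α = (1 : F) by linear_combination ht₁]
    simp only [a₂, b₂, hvb]
  have hb₂ : b₂ ≠ 0 := by
    intro h
    have hvz : dot3 v b₂ = dot3 v b := by
      simp [b₂, dot3, cross3, Matrix.vecHead, Matrix.vecTail]; ring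
    rw [h, hvb] at hvz
    have hα : α = 0 := by
      simpa [dot3] using hvz
    apply hb
    have hv' : v = 0 := by rw [hv, hα]; simp
    have : b = b + cross3 a v := by ext j; fin_cases j <;> simp [hv', cross3]
    rw [this]
    exact h
  -- rotate
  obtain ⟨A, hA, hA0, -⟩ := exists_row b₂ hb₂
  obtain ⟨g₃, hg₃⟩ := exists_sl_elem A hA
  have hrow : ∀ (M : Matrix (Fin 3) (Fin 3) F), M.det = 1 →
      M.adjugateᵀ *ᵥ M 0 = ![1, 0, 0] := by
    intro M hM
    have : M 0 = Mᵀ *ᵥ ![1, 0, 0] := by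
      ext j; simp [Matrix.mulVec, dotProduct, Fin.sum_univ_three]
    rw [this, Matrix.mulVec_mulVec, ← Matrix.transpose_mul, Matrix.mul_adjugate, hM, one_smul,
      Matrix.transpose_one, Matrix.one_mulVec]
  set a₃ := A *ᵥ a₂
  have hn : nm x = -(a₃ 0) := by
    have h := (tr_nm_act (g₂ * g₁) x).2
    rw [act_mul, hg₁, hn₂] at h
    rw [← h]
    simp [nm, mk8, a₃, Matrix.mulVec, dotProduct, Fin.sum_univ_three, dot3, hA0]
    ring
  have hn₃ : act g₃ (mk8 0 a₂ b₂ 1) = mk8 0 a₃ ![1, 0, 0] 1 := by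
    rw [hg₃, ← hA0, hrow A hA]
  -- kill the last two coordinates
  obtain ⟨g₄, hg₄⟩ := exists_shearA ![0, -(a₃ 1), -(a₃ 2)]
  set b₄ : Fin 3 → F := ![1, 0, 0] + cross3 a₃ ![0, -(a₃ 1), -(a₃ 2)]
  have hn₄ : act g₄ (mk8 0 a₃ ![1, 0, 0] 1) = mk8 0 ![a₃ 0, 0, 0] b₄ 1 := by
    rw [hg₄]
    ext j
    fin_cases j <;> simp [mk8, dot3, b₄, cross3, Matrix.vecHead, Matrix.vecTail]
  have hb₄0 : b₄ 0 = 1 := by simp [b₄, cross3]; ring
  have hb₄ : b₄ ≠ 0 := fun h => one_ne_zero (α := F) (by rw [← hb₄0, h]; rfl)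
  obtain ⟨A', hA', hA'0, hA'e⟩ := exists_row b₄ hb₄
  obtain ⟨g₅, hg₅⟩ := exists_sl_elem A' hA'
  refine ⟨g₅ * g₄ * g₃ * g₂ * g₁, ?_⟩
  rw [act_mul, act_mul, act_mul, act_mul, hg₁, hn₂, hn₃, hn₄, hg₅, hn, stdPt, neg_neg,
    ← hA'0, hrow A' hA']
  have : A' *ᵥ ![a₃ 0, 0, 0] = ![a₃ 0, 0, 0] := by
    have h : (![a₃ 0, 0, 0] : Fin 3 → F) = a₃ 0 • ![1, 0, 0] := by
      ext j; fin_cases j <;> simp
    rw [h, Matrix.mulVec_smul, hA'e hb₄0]
  rw [this]

/-- The stabiliser of `{x, x + 1}`. -/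
def pairStab (x : Fin 8 → F) : Subgroup (Lie.G2 F) where
  carrier := {g | ∀ y, (act g y = x ∨ act g y = x + one8) ↔ (y = x ∨ y = x + one8)}
  mul_mem' {a b} ha hb := fun y => by
    rw [act_mul]
    exact (ha _).trans (hb y)
  one_mem' := fun y => by rw [act_one]
  inv_mem' {a} ha := fun y => by
    rw [← ha (act a⁻¹ y), act_act_inv]

theorem mem_pairStab [CharP F 2] {g : Lie.G2 F} {x : Fin 8 → F}
    (h : act g x = x ∨ act g x = x + one8) : g ∈ pairStab x := by
  have h11 : (one8 : Fin 8 → F) + one8 = 0 := by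
    ext j
    exact CharTwo.add_self_eq_zero _
  have h' : act g (x + one8) = x + one8 ∨ act g (x + one8) = x := by
    rw [act_add, act_one8]
    rcases h with h | h
    · exact Or.inl (by rw [h])
    · exact Or.inr (by rw [h, add_assoc, h11, add_zero])
  intro y
  constructor
  · intro hy
    have hinj : ∀ z, act g z = act g y → z = y := fun z hz => by
      have := congrArg (act g⁻¹) hz
      rwa [act_inv_act, act_inv_act] at this
    rcases h with h | h <;> rcases h' with h' | h' <;> rcases hy with hy | hy <;>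
      first
      | exact Or.inl (hinj x (h.trans hy.symm)).symm
      | exact Or.inr (hinj _ (h'.trans hy.symm)).symm
      | (rw [act_add, h, act_one8] at h'; simp_all)
  · rintro (rfl | rfl)
    · exact h
    · exact h'.symm

theorem exists_fixed_pair [CharP F 2] (g : Lie.G2 F) :
    ∃ x : Fin 8 → F, tr x = 1 ∧ (act g x = x ∨ act g x = x + one8) := by
  classical
  have h2 : (2 : F) = 0 := CharTwo.two_eq_zero
  by_cases hex : ∃ x : Fin 8 → F, tr x = 1 ∧ act g x = x
  · obtain ⟨x, hx, hgx⟩ := hex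
    exact ⟨x, hx, Or.inl hgx⟩
  let T : Module.Dual F (Fin 8 → F) :=
    { toFun := tr
      map_add' := fun x y => by simp [tr]; ring
      map_smul' := fun c x => by simp [tr]; ring }
  let Λ : (Fin 8 → F) →ₗ[F] Fin 8 → F := g.1.1.mulVecLin - LinearMap.id
  have hΛ : ∀ x, Λ x = act g x - x := fun x => rfl
  have hT : T ∈ (LinearMap.ker Λ).dualAnnihilator := by
    rw [Submodule.mem_dualAnnihilator]
    intro x hx
    rw [LinearMap.mem_ker, hΛ, sub_eq_zero] at hx
    by_contra h0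
    have h0' : tr x ≠ 0 := h0
    refine hex ⟨(tr x)⁻¹ • x, ?_, by rw [act_smul, hx]⟩
    simp only [tr, Pi.smul_apply, smul_eq_mul] at h0' ⊢
    rw [← mul_add, inv_mul_cancel₀ h0']
  rw [← LinearMap.range_dualMap_eq_dualAnnihilator_ker] at hT
  obtain ⟨φ, hφ⟩ := hT
  set f : Fin 8 → F := ![φ (Pi.single 7 1), -φ (Pi.single 4 1), -φ (Pi.single 5 1),
    -φ (Pi.single 6 1), -φ (Pi.single 1 1), -φ (Pi.single 2 1), -φ (Pi.single 3 1),
    φ (Pi.single 0 1)] with hf
  have hbf : ∀ y, bf f y = φ y := by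
    intro y
    conv_rhs => rw [pi_eq_sum_univ' y, map_sum]
    simp only [map_smul, smul_eq_mul, Fin.sum_univ_eight]
    simp [bf, hf, dot3]
    ring
  have hgf : act g⁻¹ f - f = one8 := by
    have key : ∀ y, bf (act g⁻¹ f - f) y = bf (one8 : Fin 8 → F) y := by
      intro y
      have h := LinearMap.congr_fun hφ y
      rw [LinearMap.dualMap_apply, hΛ, ← hbf] at h
      have e1 : ∀ u v w : Fin 8 → F, bf (u - v) w = bf u w - bf v w := fun u v w => by
        simp [bf, dot3]; ring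
      have e2 : ∀ u v w : Fin 8 → F, bf u (v - w) = bf u v - bf u w := fun u v w => by
        simp [bf, dot3]; ring
      have e3 : bf (one8 : Fin 8 → F) y = tr y := by simp [bf, one8, tr, dot3, mk8]; ring
      have e4 : bf (act g⁻¹ f) y = bf f (act g y) := by
        rw [← bf_act g (act g⁻¹ f) y, act_act_inv]
      rw [e1, e3, e4, ← e2]
      exact h
    ext j
    have k0 := key (Pi.single 0 1)
    have k1 := key (Pi.single 1 1)
    have k2 := key (Pi.single 2 1)
    have k3 := key (Pi.single 3 1)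
    have k4 := key (Pi.single 4 1)
    have k5 := key (Pi.single 5 1)
    have k6 := key (Pi.single 6 1)
    have k7 := key (Pi.single 7 1)
    simp [bf, dot3, mk8, one8] at k0 k1 k2 k3 k4 k5 k6 k7
    fin_cases j <;> simp [one8, mk8] <;>
      first
      | assumption
      | linear_combination -k1
      | linear_combination -k2
      | linear_combination -k3
      | linear_combination -k4
      | linear_combination -k5
      | linear_combination -k6
  have hgf' : act g f = f + one8 := by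
    have := congrArg (act g) hgf
    rw [act_sub, act_act_inv, act_one8, sub_eq_iff_eq_add] at this
    ext j
    have hj := congrFun this j
    simp only [Pi.add_apply] at hj ⊢
    linear_combination -hj - (one8 (F := F) j) * h2
  refine ⟨f, ?_, Or.inr hgf'⟩
  have h := (tr_nm_act g f).2
  rw [hgf'] at h
  simp [nm, one8, tr, dot3, mk8, Matrix.vecHead, Matrix.vecTail] at h ⊢
  linear_combination h - h2

theorem covered_G2 [Finite F] [CharP F 2] (hF : 4 ≤ Nat.card F) : Covered (Lie.G2 F) := by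
  haveI := Fintype.ofFinite F
  classical
  obtain ⟨ν, -, hν⟩ := exists_as_two F
  have h2 : (2 : F) = 0 := CharTwo.two_eq_zero
  have hproper : ∀ μ : F, pairStab (stdPt μ) ≠ ⊤ := by
    intro μ h
    obtain ⟨c, hc0, hc1⟩ : ∃ c : F, c ≠ 0 ∧ c ≠ 1 := by
      by_contra! hcon
      have : (Finset.univ : Finset F) ⊆ {0, 1} := fun c _ => by
        rcases eq_or_ne c 0 with hc | hc
        · simp [hc]
        · simp [hcon c hc]
      have := (Finset.card_le_card this).trans Finset.card_le_two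
      rw [Finset.card_univ, ← Nat.card_eq_fintype_card] at this
      omega
    obtain ⟨g, hg⟩ := exists_shearA ![c, 0, 0]
    have h1 := ((Subgroup.eq_top_iff' _).1 h g (stdPt μ)).2 (Or.inl rfl)
    rw [stdPt, hg] at h1
    rcases h1 with h1 | h1 <;> have h1' := congrFun h1 0
    · simp [dot3] at h1'
      exact hc0 h1'
    · simp [dot3, one8] at h1'
      exact hc1 h1'
  refine ⟨pairStab (stdPt 0), pairStab (stdPt ν), hproper 0, hproper ν, fun g => ?_⟩
  obtain ⟨x, hx, hgx⟩ := exists_fixed_pair g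
  -- shift `x` by a multiple of the identity
  have key : ∀ μ r : F, r * r + r = nm x + μ → ∃ y : Lie.G2 F, y * g * y⁻¹ ∈ pairStab (stdPt μ) := by
    intro μ r hr
    have ht : tr (x + r • one8) = 1 := by
      simp only [tr, one8, Pi.add_apply, Pi.smul_apply, mk8_zero, mk8_seven, smul_eq_mul] at hx ⊢
      linear_combination hx + r * h2
    have hn : nm (x + r • one8) = μ := by
      simp [nm, tr, one8, dot3, mk8, Matrix.vecHead, Matrix.vecTail] at hx hr ⊢
      linear_combination r * hx + hr + (x 0 * x 7 - x 1 * x 4 - x 2 * x 5 - x 3 * x 6) * h2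
    obtain ⟨y, hy⟩ := exists_to_std _ ht
    rw [hn] at hy
    refine ⟨y, mem_pairStab ?_⟩
    rw [act_mul, act_mul, ← hy, act_inv_act, act_add, act_smul, act_one8]
    rcases hgx with h | h
    · exact Or.inl (by rw [h])
    · right
      rw [h, add_right_comm, act_add, act_one8]
  rcases hν (nm x) with ⟨r, hr⟩ | ⟨r, hr⟩
  · obtain ⟨y, hy⟩ := key 0 r (by rw [hr, add_zero])
    exact ⟨y, Or.inl hy⟩
  · obtain ⟨y, hy⟩ := key ν r hr
    exact ⟨y, Or.inr hy⟩

end Cfsg.Agent.Lib.NormalCoverTwo.G2
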