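import Cfsg.Prelude.Def_Classical
import Cfsg.Agent.Lib.NormalCoverTwo.Basic

/-!
# Normal coverings by two subgroups: `PSL_n`, `n = 2, 3, 4`
-/

set_option autoImplicit false

namespace Cfsg.Agent.Lib.NormalCoverTwo

open Polynomial Module
open scoped Matrix

variable {F : Type*} [Field F]

theorem exists_eigvec_of_isRoot {n : ℕ} {A : Matrix (Fin n) (Fin n) F} {x : F}
    (h : A.charpoly.IsRoot x) : ∃ v : Fin n → F, v ≠ 0 ∧ A *ᵥ v = x • v := by
  rw [IsRoot.def, Matrix.eval_charpoly] at h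
  obtain ⟨v, hv0, hv⟩ := Matrix.exists_mulVec_eq_zero_iff.2 h
  refine ⟨v, hv0, ?_⟩
  rw [Matrix.sub_mulVec, sub_eq_zero] at hv
  rw [← hv]
  ext i
  simp [Matrix.mulVec_diagonal]

/-- Degrees of irreducible factors of the characteristic polynomial without eigenvectors. -/
theorem factor_degree {n : ℕ} {A : Matrix (Fin n) (Fin n) F}
    (h : ∀ (v : Fin n → F) (l : F), A *ᵥ v = l • v → v = 0) {r : F[X]} (hr : Irreducible r)
    (hd : r ∣ A.charpoly) : 2 ≤ r.natDegree ∧ r.natDegree ≤ n ∧ r.natDegree + 1 ≠ n := by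
  have hroot : ∀ s : F[X], s ∣ A.charpoly → s.natDegree ≠ 1 := by
    intro s hs h1
    have hs0 : s ≠ 0 := fun h0 => by simp [h0] at h1
    obtain ⟨x, hx⟩ := exists_root_of_degree_eq_one
      (show s.degree = 1 by rw [degree_eq_natDegree hs0, h1]; rfl)
    obtain ⟨v, hv0, hv⟩ := exists_eigvec_of_isRoot (hx.dvd hs)
    exact hv0 (h v x hv)
  have hn : A.charpoly.natDegree = n := by rw [Matrix.charpoly_natDegree_eq_dim, Fintype.card_fin]
  have hmon := A.charpoly_monic
  refine ⟨?_, hn ▸ natDegree_le_of_dvd hd hmon.ne_zero, fun he => ?_⟩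
  · have := hr.natDegree_pos
    have := hroot r hd
    omega
  · obtain ⟨s, hs⟩ := hd
    have hs0 : s ≠ 0 := fun h0 => hmon.ne_zero (by rw [hs, h0, mul_zero])
    refine hroot s (hs ▸ dvd_mul_left s r) ?_
    have h2 := natDegree_mul hr.ne_zero hs0
    rw [← hs, hn] at h2
    omega

theorem exists_SL_line {n : ℕ} (hn : 0 < n) {v : Fin n → F} (hv : v ≠ 0) :
    ∃ (y : Matrix.SpecialLinearGroup (Fin n) F) (D : F), D ≠ 0 ∧
      y.1 *ᵥ Pi.single ⟨0, hn⟩ 1 = D • v := by
  obtain ⟨i, hi⟩ := Function.ne_iff.1 hv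
  set k : Fin n := ⟨0, hn⟩ with hk
  set M : Matrix (Fin n) (Fin n) F :=
    ((1 : Matrix (Fin n) (Fin n) F).updateCol i v).submatrix id (Equiv.swap k i)
  have hMk : ∀ j, M j k = v j := fun j => by simp [M]
  have hMu : M.updateCol k v = M := by
    ext a b
    rcases eq_or_ne b k with rfl | hb
    · rw [Matrix.updateCol_self, hMk]
    · rw [Matrix.updateCol_ne hb]
  have hdet : M.det ≠ 0 := by
    simp only [M, Matrix.det_permute']
    refine mul_ne_zero ?_ ?_
    · rcases Int.units_eq_one_or (Equiv.Perm.sign (Equiv.swap k i)) with h | h <;> simp [h]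
    · have : ((1 : Matrix (Fin n) (Fin n) F).updateCol i v).det = v i := by
        rw [← Matrix.cramer_apply, Matrix.cramer_one]
        rfl
      rw [this]
      simpa using hi
  refine ⟨⟨M.updateCol k (M.det⁻¹ • v), ?_⟩, M.det⁻¹, inv_ne_zero hdet, ?_⟩
  · rw [Matrix.det_updateCol_smul, hMu, inv_mul_cancel₀ hdet]
  · ext j
    simp [Matrix.mulVec_single_one, Matrix.updateCol_self]

/-- The elements commuting with a given matrix. -/
def commStab {G A : Type*} [Group G] [Monoid A] (ρ : G →* A) (D : A) : Subgroup G where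
  carrier := {g | Commute (ρ g) D}
  mul_mem' {a b} ha hb := by
    show Commute (ρ (a * b)) D
    rw [map_mul]
    exact Commute.mul_left ha hb
  one_mem' := by
    show Commute (ρ 1) D
    rw [map_one]
    exact Commute.one_left D
  inv_mem' {a} ha := by
    let u : Aˣ := (Units.map ρ) (toUnits a)
    have h : Commute (u : A) D := ha
    exact h.units_inv_left

section Model

variable [Finite F] {L : Type*} [Field L] [Algebra F L] [Finite L]

theorem exists_module_equiv {n r : ℕ} (hnr : finrank F L * r = n)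
    (σ : L →ₐ[F] Matrix (Fin n) (Fin n) F) :
    ∃ e : (Fin r → L) ≃ₗ[F] (Fin n → F), ∀ (l : L) (w : Fin r → L),
      e (l • w) = σ l *ᵥ e w := by
  letI : Module L (Fin n → F) :=
    Module.compHom (Fin n → F) ((Matrix.toLinAlgEquiv'.toAlgHom).comp σ).toRingHom
  have hsmul : ∀ (l : L) (v : Fin n → F), l • v = σ l *ᵥ v := fun l v => rfl
  haveI : IsScalarTower F L (Fin n → F) := ⟨fun a l v => by
    rw [hsmul, hsmul, map_smul, Matrix.smul_mulVec]⟩
  haveI : Module.Finite L (Fin n → F) := Module.Finite.of_restrictScalars_finite F L _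
  have hr : finrank L (Fin n → F) = r := by
    have h := Module.finrank_mul_finrank F L (Fin n → F)
    rw [finrank_fin_fun] at h
    exact Nat.eq_of_mul_eq_mul_left Module.finrank_pos (h.trans hnr.symm)
  refine ⟨((Module.finBasisOfFinrankEq L (Fin n → F) hr).equivFun.symm.restrictScalars F),
    fun l w => ?_⟩
  rw [← hsmul]
  simp only [LinearEquiv.restrictScalars_apply, map_smul]

/-- Two representations of the field `L` on `F ^ n` are conjugate under `SL_n`. -/
theorem exists_SL_conj {n : ℕ} (hn : 0 < n) (hd : finrank F L ∣ n)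
    (ρ σ : L →ₐ[F] Matrix (Fin n) (Fin n) F) :
    ∃ x : Matrix.SpecialLinearGroup (Fin n) F, ∀ l, x.1 * σ l = ρ l * x.1 := by
  obtain ⟨r, hr⟩ := hd
  obtain ⟨e₁, he₁⟩ := exists_module_equiv hr.symm ρ
  obtain ⟨e₂, he₂⟩ := exists_module_equiv hr.symm σ
  have hr0 : 0 < r := Nat.pos_of_mul_pos_left (hr ▸ hn)
  set T : (Fin n → F) ≃ₗ[F] (Fin n → F) := e₂.symm.trans e₁
  have hT : LinearMap.det (T : (Fin n → F) →ₗ[F] Fin n → F) ≠ 0 := T.isUnit_det'.ne_zero
  obtain ⟨l₀, hl₀⟩ := FiniteField.norm_surjective F L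
    (LinearMap.det (T : (Fin n → F) →ₗ[F] Fin n → F))⁻¹
  let c : Fin r → L := Pi.mulSingle ⟨0, hr0⟩ l₀
  let D : (Fin r → L) →ₗ[F] (Fin r → L) :=
    LinearMap.pi fun i => (LinearMap.mulLeft F (c i)).comp (LinearMap.proj i)
  have hD : LinearMap.det D = Algebra.norm F l₀ := by
    rw [LinearMap.det_pi, Finset.prod_eq_single ⟨0, hr0⟩]
    · simp only [c, Pi.mulSingle_eq_same]
      rfl
    · intro i _ hi
      simp [c, Pi.mulSingle_eq_of_ne hi]
    · intro h
      exact absurd (Finset.mem_univ _) h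
  let X : (Fin n → F) →ₗ[F] (Fin n → F) :=
    (T : (Fin n → F) →ₗ[F] Fin n → F) ∘ₗ
      ((e₂ : (Fin r → L) →ₗ[F] Fin n → F) ∘ₗ D ∘ₗ (e₂.symm : (Fin n → F) →ₗ[F] Fin r → L))
  have hX : (LinearMap.toMatrix' X).det = 1 := by
    rw [LinearMap.det_toMatrix']
    simp only [X, LinearMap.det_comp, LinearMap.det_conj, hD, hl₀]
    exact mul_inv_cancel₀ hT
  refine ⟨⟨LinearMap.toMatrix' X, hX⟩, fun l => ?_⟩
  refine Matrix.mulVec_injective (funext fun v => ?_)
  simp only [← Matrix.mulVec_mulVec, LinearMap.toMatrix'_mulVec]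
  obtain ⟨w, rfl⟩ := e₂.surjective v
  rw [← he₂]
  have hDl : D (l • w) = l • D w := by
    ext i
    simp [D, mul_left_comm]
  simp [X, T, hDl, he₁]

end Model

variable [Fintype F]

theorem covered_PSL {n d : ℕ} (hn : 2 ≤ n) (hd : 2 ≤ d) (hdn : d ∣ n)
    (hdeg : ∀ A : Matrix (Fin n) (Fin n) F,
      (∀ (v : Fin n → F) (l : F), A *ᵥ v = l • v → v = 0) →
      ∀ r : F[X], r.Monic → Irreducible r → r ∣ A.charpoly → d ∣ r.natDegree) :
    Covered (Matrix.ProjectiveSpecialLinearGroup (Fin n) F) := by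
  classical
  obtain ⟨p, hpm, hp, hpd⟩ := exists_irreducible_natDegree F (show 0 < d by omega)
  haveI : Fact (Irreducible p) := ⟨hp⟩
  haveI : Module.Finite F (AdjoinRoot p) := hpm.finite_adjoinRoot
  haveI : Finite (AdjoinRoot p) := Module.finite_of_finite F
  have hrank : finrank F (AdjoinRoot p) = d := by
    rw [(AdjoinRoot.powerBasis hp.ne_zero).finrank, AdjoinRoot.powerBasis_dim, hpd]
  obtain ⟨r, hr⟩ := id hdn
  let e₀ : (Fin r → AdjoinRoot p) ≃ₗ[F] (Fin n → F) := LinearEquiv.ofFinrankEq _ _ (by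
    rw [Module.finrank_pi_fintype F, Finset.sum_const, Finset.card_univ, Fintype.card_fin, hrank,
      finrank_fin_fun, hr, smul_eq_mul, Nat.mul_comm])
  let ρ₀ : AdjoinRoot p →ₐ[F] Matrix (Fin n) (Fin n) F :=
    ((Matrix.toLinAlgEquiv'.symm.toAlgHom).comp (e₀.conjAlgEquiv F).toAlgHom).comp
      (Algebra.lsmul F F (Fin r → AdjoinRoot p))
  let J : Matrix (Fin n) (Fin n) F := ρ₀ (AdjoinRoot.root p)
  let k : Fin n := ⟨0, by omega⟩
  refine covered_quotient _ (H := subStab (slToMat n F) (F ∙ (Pi.single k 1 : Fin n → F)))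
    (K := commStab (slToMat n F) J) ?_ ?_ ?_ ?_ ?_
  · -- the line stabiliser is proper
    intro h
    let k' : Fin n := ⟨1, by omega⟩
    have hkk : k' ≠ k := by simp [k, k', Fin.ext_iff]
    have h2 := (Subgroup.eq_top_iff' _).1 h (Matrix.SpecialLinearGroup.transvection hkk 1)
    rw [mem_subStab_span_singleton_iff] at h2
    obtain ⟨l, hl⟩ := h2
    have h3 := congrFun hl k'
    simp [slToMat, Matrix.SpecialLinearGroup.transvection_coe, Matrix.add_mulVec,
      hkk] at h3
  · -- the field stabiliser is proper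
    intro h
    obtain ⟨c, hc⟩ := Matrix.mem_range_scalar_of_commute_transvectionStruct
      (M := J) fun t => (Subgroup.eq_top_iff' _).1 h ⟨t.toMatrix, t.det⟩
    have hr0 : 0 < r := by
      rcases Nat.eq_zero_or_pos r with rfl | h0
      · omega
      · exact h0
    haveI : Nonempty (Fin r) := ⟨⟨0, hr0⟩⟩
    haveI : Nonempty (Fin n) := ⟨k⟩
    have h2 : AdjoinRoot.root p = algebraMap F (AdjoinRoot p) c := by
      apply (ρ₀ : AdjoinRoot p →+* Matrix (Fin n) (Fin n) F).injective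
      show J = ρ₀ (algebraMap F (AdjoinRoot p) c)
      rw [AlgHom.commutes, ← hc, Matrix.algebraMap_eq_diagonal]
      rfl
    have h3 := AdjoinRoot.aeval_eq (X : F[X]) (f := p)
    have h4 : AdjoinRoot.mk p (X - C c) = 0 := by
      rw [map_sub, AdjoinRoot.mk_X, AdjoinRoot.mk_C, h2, ← AdjoinRoot.algebraMap_eq, sub_self]
    rw [AdjoinRoot.mk_eq_zero] at h4
    have := natDegree_le_of_dvd h4 (X_sub_C_ne_zero c)
    rw [hpd, natDegree_X_sub_C] at this
    omega
  · intro g hg
    obtain ⟨a, -, ha⟩ := Matrix.SpecialLinearGroup.mem_center_iff.1 hg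
    refine scalar_mem_subStab _ _ (l := a) fun w => ?_
    show g.1 *ᵥ w = a • w
    rw [← ha]
    ext i
    simp [Matrix.mulVec_diagonal]
  · intro g hg
    obtain ⟨a, -, ha⟩ := Matrix.SpecialLinearGroup.mem_center_iff.1 hg
    show Commute g.1 J
    rw [← ha]
    exact Matrix.scalar_commute a (fun b => mul_comm a b) J
  intro g
  by_cases he : ∀ (v : Fin n → F) (l : F), g.1 *ᵥ v = l • v → v = 0
  · -- no eigenvector
    let χ : F[X] := g.1.charpoly
    haveI : Module.Finite F (AdjoinRoot χ) := g.1.charpoly_monic.finite_adjoinRoot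
    haveI : Finite (AdjoinRoot χ) := Module.finite_of_finite F
    obtain ⟨ω, hω⟩ : ∃ ω : AdjoinRoot χ, aeval ω p = 0 := by
      refine exists_root p fun P hP => ?_
      haveI : Finite (AdjoinRoot χ ⧸ P) := Finite.of_surjective _ Ideal.Quotient.mk_surjective
      letI : Field (AdjoinRoot χ ⧸ P) := Ideal.Quotient.field P
      set θ : AdjoinRoot χ ⧸ P := Ideal.Quotient.mkₐ F P (AdjoinRoot.root χ)
      have hθ : aeval θ χ = 0 := by
        rw [aeval_algHom_apply, AdjoinRoot.aeval_eq, AdjoinRoot.mk_self, map_zero]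
      have hint : IsIntegral F θ := Algebra.IsIntegral.isIntegral θ
      have hdvd : finrank F (AdjoinRoot p) ∣ finrank F (AdjoinRoot χ ⧸ P) := by
        rw [hrank]
        exact (hdeg g.1 he _ (minpoly.monic hint) (minpoly.irreducible hint)
          (minpoly.dvd F θ hθ)).trans (minpoly.degree_dvd hint)
      obtain ⟨φ⟩ := FiniteField.nonempty_algHom_of_finrank_dvd hdvd
      obtain ⟨y, hy⟩ := Ideal.Quotient.mk_surjective (φ (AdjoinRoot.root p))
      refine ⟨y, ?_⟩
      rw [← Ideal.Quotient.eq_zero_iff_mem, ← Ideal.Quotient.mkₐ_eq_mk F, ← aeval_algHom_apply,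
        Ideal.Quotient.mkₐ_eq_mk, hy, aeval_algHom_apply, AdjoinRoot.aeval_eq, AdjoinRoot.mk_self,
        map_zero]
    let Φ : AdjoinRoot χ →ₐ[F] Matrix (Fin n) (Fin n) F :=
      Ideal.Quotient.liftₐ (Ideal.span {χ}) (aeval g.1) fun a ha => by
        obtain ⟨b, rfl⟩ := Ideal.mem_span_singleton'.1 ha
        rw [map_mul, Matrix.aeval_self_charpoly, mul_zero]
    have hΦ : Φ (AdjoinRoot.root χ) = g.1 := aeval_X g.1
    let σ : AdjoinRoot p →ₐ[F] Matrix (Fin n) (Fin n) F :=
      Φ.comp (AdjoinRoot.liftAlgHom p (Algebra.ofId F (AdjoinRoot χ)) ω hω)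
    obtain ⟨x, hx⟩ := exists_SL_conj (by omega) (hrank.symm ▸ hdn) ρ₀ σ
    refine ⟨x, Or.inr ?_⟩
    show Commute (x * g * x⁻¹).1 J
    have hc : g.1 * σ (AdjoinRoot.root p) = σ (AdjoinRoot.root p) * g.1 := by
      rw [← hΦ]
      exact ((Commute.all _ _).map Φ).eq
    have h1 : x⁻¹.1 * x.1 = 1 := congrArg Subtype.val (inv_mul_cancel x)
    have h2 : x.1 * x⁻¹.1 = 1 := congrArg Subtype.val (mul_inv_cancel x)
    have hJ : J = x.1 * σ (AdjoinRoot.root p) * x⁻¹.1 := by
      rw [hx, mul_assoc, h2, mul_one]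
    show x.1 * g.1 * x⁻¹.1 * J = J * (x.1 * g.1 * x⁻¹.1)
    rw [hJ]
    simp only [mul_assoc]
    rw [← mul_assoc x⁻¹.1 x.1, h1, one_mul, ← mul_assoc x⁻¹.1 x.1, h1, one_mul,
      ← mul_assoc g.1, hc, mul_assoc]
  · push Not at he
    obtain ⟨v, l, hvl, hv⟩ := he
    obtain ⟨y, D, hD, hy⟩ := exists_SL_line (show 0 < n by omega) hv
    refine ⟨y⁻¹, Or.inl ((mem_subStab_span_singleton_iff _ _ _).2 ⟨l, ?_⟩)⟩
    show (y⁻¹ * g * y⁻¹⁻¹).1 *ᵥ (Pi.single k 1 : Fin n → F) = l • Pi.single k 1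
    have h1 : y⁻¹.1 *ᵥ (D • v) = Pi.single k 1 := by
      rw [← hy, Matrix.mulVec_mulVec,
        show y⁻¹.1 * y.1 = 1 from congrArg Subtype.val (inv_mul_cancel y), Matrix.one_mulVec]
    rw [inv_inv]
    show (y⁻¹.1 * g.1 * y.1) *ᵥ (Pi.single k 1 : Fin n → F) = _
    rw [← Matrix.mulVec_mulVec, ← Matrix.mulVec_mulVec, hy, Matrix.mulVec_smul, hvl, smul_comm,
      Matrix.mulVec_smul, h1]

theorem covered_PSL_two : Covered (Matrix.ProjectiveSpecialLinearGroup (Fin 2) F) :=
  covered_PSL (d := 2) le_rfl le_rfl dvd_rfl fun A hA r _ hr hd => by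
    obtain ⟨h1, h2, -⟩ := factor_degree hA hr hd
    rw [show r.natDegree = 2 by omega]

theorem covered_PSL_three : Covered (Matrix.ProjectiveSpecialLinearGroup (Fin 3) F) :=
  covered_PSL (d := 3) (by norm_num) (by norm_num) dvd_rfl fun A hA r _ hr hd => by
    obtain ⟨h1, h2, h3⟩ := factor_degree hA hr hd
    rw [show r.natDegree = 3 by omega]

theorem covered_PSL_four : Covered (Matrix.ProjectiveSpecialLinearGroup (Fin 4) F) :=
  covered_PSL (d := 2) (by norm_num) le_rfl (by norm_num) fun A hA r _ hr hd => by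
    obtain ⟨h1, h2, h3⟩ := factor_degree hA hr hd
    obtain h | h : r.natDegree = 2 ∨ r.natDegree = 4 := by omega
    · rw [h]
    · rw [h]; norm_num

end Cfsg.Agent.Lib.NormalCoverTwo
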