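import Cfsg.Agent.Lib.NormalCoverTwo.Basic
import Cfsg.Agent.Lib.NormalCoverTwo.Char2
import Cfsg.Agent.Lib.Symplectic.OddOrthChar2

/-!
# Normal coverings by two subgroups: `PSp_2m(2^a)`
-/

set_option autoImplicit false

namespace Cfsg.Agent.Lib.NormalCoverTwo.SympEven

open Module Cfsg.Agent.Lib.Symplectic Cfsg.Agent.Lib.Symplectic.OddOrthChar2
open scoped Matrix

variable {F : Type*} [Field F] [CharP F 2] {m : ℕ}

/-- Quadratic forms with polar form `stdForm`. -/
def qf (a x : Fin m ⊕ Fin m → F) : F := qp x + stdForm m F a x ^ 2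

theorem qf_add (a x y : Fin m ⊕ Fin m → F) :
    qf a (x + y) = qf a x + qf a y + stdForm m F x y := by
  simp only [qf, qp_add, map_add, CharTwo.add_sq]
  ring

theorem qf_smul (a : Fin m ⊕ Fin m → F) (t : F) (x : Fin m ⊕ Fin m → F) :
    qf a (t • x) = t ^ 2 * qf a x := by
  simp only [qf, qp_smul, map_smul, smul_eq_mul]
  ring

theorem stdForm_comm (x y : Fin m ⊕ Fin m → F) : stdForm m F x y = stdForm m F y x := by
  rw [(isSympForm_stdForm m F).swap x y, CharTwo.neg_eq]

theorem qf_transv (a v : Fin m ⊕ Fin m → F) (c : F) (x : Fin m ⊕ Fin m → F) :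
    qf a (x + (c * stdForm m F x v) • v) =
      qf a x + stdForm m F x v ^ 2 * (c ^ 2 * qf a v + c) := by
  rw [qf_add, qf_smul, map_smul, smul_eq_mul]
  ring

/-- The matrix action. -/
def toMat : Matrix.symplecticGroup (Fin m) F →* Matrix (Fin m ⊕ Fin m) (Fin m ⊕ Fin m) F :=
  (Matrix.symplecticGroup (Fin m) F).subtype

omit [CharP F 2] in
theorem toMat_apply (A : Matrix.symplecticGroup (Fin m) F) :
    toMat A = (A : Matrix (Fin m ⊕ Fin m) (Fin m ⊕ Fin m) F) := rfl

/-- The stabiliser of a quadratic form. -/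
def qStab (a : Fin m ⊕ Fin m → F) : Subgroup (Matrix.symplecticGroup (Fin m) F) where
  carrier := {g | ∀ x, qf a (toMat g *ᵥ x) = qf a x}
  mul_mem' {g h} hg hh := fun x => by
    rw [map_mul, ← Matrix.mulVec_mulVec, hg, hh]
  one_mem' := fun x => by simp
  inv_mem' {g} hg := fun x => by
    rw [← hg (toMat g⁻¹ *ᵥ x), Matrix.mulVec_mulVec, ← map_mul, mul_inv_cancel, map_one,
      Matrix.one_mulVec]

theorem qStab_ne_top (hm : 2 ≤ m) (a : Fin m ⊕ Fin m → F) : qStab a ≠ ⊤ := by
  intro h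
  have key : ∀ v : Fin m ⊕ Fin m → F, v ≠ 0 → qf a v = 1 := by
    intro v hv
    obtain ⟨x, hx⟩ := (isSympForm_stdForm m F).exists_eq_one hv
    have h1 := (Subgroup.eq_top_iff' _).1 h
      ((spEquiv m F).symm (transv (isSympForm_stdForm m F) v 1)) x
    rw [toMat_apply, spEquiv_symm_mulVec, transv_smul, qf_transv, stdForm_comm x v, hx] at h1
    have h2 : qf a v + 1 = 0 := by linear_combination h1
    exact CharTwo.add_eq_zero.1 h2
  let e₀ : Fin m ⊕ Fin m → F := Pi.single (Sum.inl ⟨0, by omega⟩) 1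
  let e₁ : Fin m ⊕ Fin m → F := Pi.single (Sum.inl ⟨1, by omega⟩) 1
  have h01 : stdForm m F e₀ e₁ = 0 := by
    rw [stdForm_apply]
    exact Finset.sum_eq_zero fun i _ => by simp [e₀, e₁]
  have hne : e₀ + e₁ ≠ 0 := fun h' => by
    have := congrFun h' (Sum.inl ⟨0, by omega⟩)
    simp [e₀, e₁] at this
  have h2 := key _ hne
  rw [qf_add, key e₀ (fun h' => by simpa [e₀] using congrFun h' (Sum.inl ⟨0, by omega⟩)),
    key e₁ (fun h' => by simpa [e₁] using congrFun h' (Sum.inl ⟨1, by omega⟩)), h01, add_zero,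
    CharTwo.add_self_eq_zero] at h2
  exact zero_ne_one h2

/-- Forms of the same class are conjugate. -/
theorem exists_conj {a a' : Fin m ⊕ Fin m → F} {r : F} (hr : r * r + r = qp a + qp a') :
    ∃ y : Matrix.symplecticGroup (Fin m) F, ∀ x, qf a' (toMat y *ᵥ x) = qf a x := by
  set v := a + a' with hv
  set r' := r + stdForm m F a' a with hr'
  have hQ : qf a' v = r' * r' + r' := by
    simp only [hv, qf, qp_add, map_add, stdForm_comm a a', hr',
      (isSympForm_stdForm m F).self, add_zero]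
    linear_combination -hr - r * stdForm m F a' a * (CharTwo.two_eq_zero : (2 : F) = 0)
  obtain ⟨c, hc⟩ : ∃ c : F, c ^ 2 * qf a' v + c = 1 := by
    rcases eq_or_ne r' 0 with h0 | h0
    · exact ⟨1, by rw [hQ, h0]; ring⟩
    · refine ⟨r'⁻¹, ?_⟩
      rw [hQ]
      field_simp
      first
      | linear_combination (r' : F) * (CharTwo.two_eq_zero : (2 : F) = 0)
      | linear_combination (1 : F) * (CharTwo.two_eq_zero : (2 : F) = 0)
  refine ⟨(spEquiv m F).symm (transv (isSympForm_stdForm m F) v c), fun x => ?_⟩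
  rw [toMat_apply, spEquiv_symm_mulVec, transv_smul, qf_transv, hc, mul_one, stdForm_comm x v]
  simp only [qf, hv, map_add, LinearMap.add_apply, CharTwo.add_sq]
  linear_combination stdForm m F a' x ^ 2 * (CharTwo.two_eq_zero : (2 : F) = 0)

theorem exists_fixed [Finite F] (g : Matrix.symplecticGroup (Fin m) F) :
    ∃ a : Fin m ⊕ Fin m → F, g ∈ qStab a := by
  have hinjF : Function.Injective (fun t : F => t ^ 2) := fun s t h => CharTwo.sq_injective h
  obtain ⟨-, hsurjF⟩ : Function.Bijective (fun t : F => t ^ 2) :=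
    ⟨hinjF, Finite.surjective_of_injective hinjF⟩
  have hform : ∀ x y, stdForm m F (toMat g *ᵥ x) (toMat g *ᵥ y) = stdForm m F x y :=
    fun x y => (mem_sp_iff.1 g.2) x y
  choose s hs using fun x : Fin m ⊕ Fin m → F => hsurjF (qp (toMat g *ᵥ x) + qp x)
  let S : Module.Dual F (Fin m ⊕ Fin m → F) :=
    { toFun := s
      map_add' := fun x y => by
        apply hinjF
        simp only [hs, CharTwo.add_sq, Matrix.mulVec_add, qp_add, hform]
        linear_combination stdForm m F x y * (CharTwo.two_eq_zero : (2 : F) = 0)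
      map_smul' := fun t x => by
        apply hinjF
        simp only [hs, Matrix.mulVec_smul, qp_smul, RingHom.id_apply, smul_eq_mul, mul_pow]
        ring }
  let Λ : (Fin m ⊕ Fin m → F) →ₗ[F] (Fin m ⊕ Fin m → F) :=
    (toMat g).mulVecLin + LinearMap.id
  have hS : S ∈ (LinearMap.ker Λ).dualAnnihilator := by
    rw [Submodule.mem_dualAnnihilator]
    intro x hx
    have hx' : toMat g *ᵥ x = x := by
      have : toMat g *ᵥ x + x = 0 := hx
      funext i
      exact CharTwo.add_eq_zero.1 (congrFun this i)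
    apply hinjF
    show s x ^ 2 = 0 ^ 2
    have h1 := hs x
    simp only at h1
    rw [h1, hx', CharTwo.add_self_eq_zero]
    ring
  rw [← LinearMap.range_dualMap_eq_dualAnnihilator_ker] at hS
  obtain ⟨φ, hφ⟩ := hS
  obtain ⟨a, rfl⟩ : ∃ a, stdForm m F a = φ := by
    refine (LinearMap.injective_iff_surjective_of_finrank_eq_finrank
      (Subspace.dual_finrank_eq (K := F) (V := Fin m ⊕ Fin m → F)).symm).1 ?_ φ
    rw [← LinearMap.ker_eq_bot, LinearMap.ker_eq_bot']
    exact fun x hx => (isSympForm_stdForm m F).nondeg x (LinearMap.congr_fun hx)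
  refine ⟨a, fun x => ?_⟩
  have h := LinearMap.congr_fun hφ x
  rw [LinearMap.dualMap_apply] at h
  have h' : stdForm m F a (toMat g *ᵥ x + x) = s x := h
  have h2 := congrArg (fun t : F => t ^ 2) h'
  simp only [map_add, CharTwo.add_sq] at h2
  have h1 := hs x
  simp only at h1
  rw [h1] at h2
  simp only [qf]
  linear_combination h2 + (qp (toMat g *ᵥ x) - stdForm m F a x ^ 2) *
    (CharTwo.two_eq_zero : (2 : F) = 0)

theorem covered_PSp_even [Finite F] (hm : 2 ≤ m) : Covered (Cfsg.PSp m F) := by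
  obtain ⟨ν, -, hν⟩ := exists_as_two F
  let a₁ : Fin m ⊕ Fin m → F :=
    Sum.elim (Pi.single ⟨0, by omega⟩ 1) (Pi.single ⟨0, by omega⟩ ν)
  have hqa : qp a₁ = ν := by
    simp only [qp, a₁, Sum.elim_inl, Sum.elim_inr]
    rw [Finset.sum_eq_single ⟨0, by omega⟩]
    · simp
    · intro i _ hi
      simp [Pi.single_eq_of_ne hi]
    · intro h
      exact absurd (Finset.mem_univ _) h
  have hcenter : ∀ a : Fin m ⊕ Fin m → F,
      Subgroup.center (Matrix.symplecticGroup (Fin m) F) ≤ qStab a := by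
    intro a g hg x
    rcases mem_center_sp_iff.1 hg with h | h
    · rw [toMat_apply, h, Matrix.one_mulVec]
    · rw [toMat_apply, h, Matrix.neg_mulVec, Matrix.one_mulVec, ← neg_one_smul F x, qf_smul]
      ring
  refine covered_quotient _ (qStab_ne_top hm 0) (qStab_ne_top hm a₁) (hcenter 0) (hcenter a₁)
    fun g => ?_
  obtain ⟨a, ha⟩ := exists_fixed g
  have key : ∀ a' : Fin m ⊕ Fin m → F, (∃ r, r * r + r = qp a + qp a') →
      ∃ y, y * g * y⁻¹ ∈ qStab a' := by
    rintro a' ⟨r, hr⟩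
    obtain ⟨y, hy⟩ := exists_conj hr
    refine ⟨y, fun x => ?_⟩
    rw [map_mul, map_mul, ← Matrix.mulVec_mulVec, ← Matrix.mulVec_mulVec, hy, ha, ← hy,
      Matrix.mulVec_mulVec, ← map_mul, mul_inv_cancel, map_one, Matrix.one_mulVec]
  rcases hν (qp a) with ⟨r, hr⟩ | ⟨r, hr⟩
  · obtain ⟨y, hy⟩ := key 0 ⟨r, by rw [hr]; simp [qp]⟩
    exact ⟨y, Or.inl hy⟩
  · obtain ⟨y, hy⟩ := key a₁ ⟨r, by rw [hr, hqa]⟩
    exact ⟨y, Or.inr hy⟩

end Cfsg.Agent.Lib.NormalCoverTwo.SympEven
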