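import Cfsg.Agent.Lib.NormalCoverTwo.SympThreeSplit

/-!
# Normal coverings by two subgroups: `PSp₆(3^a)`
-/

set_option autoImplicit false

namespace Cfsg.Agent.Lib.NormalCoverTwo.SympThree

open Polynomial Module Cfsg.Agent.Lib.Symplectic
open scoped Matrix

variable {F : Type*} [Field F]

theorem conj_nilpotent_case [Finite F] [CharP F 3] {c κ : F}
    {g : Matrix.symplecticGroup (Fin 3) F}
    (hN : (toMat F g + toMat F g⁻¹ - κ • 1) ^ 3 = 0) :
    ∃ z, z * g * z⁻¹ ∈ planeStab F ∨ z * g * z⁻¹ ∈ cubicStab c := by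
  haveI : Fact (Nat.Prime 3) := ⟨Nat.prime_three⟩
  haveI := Fintype.ofFinite F
  have h3 : (3 : F) = 0 := CharP.cast_eq_zero F 3
  obtain ⟨a, -, hq⟩ := FiniteField.card F 3
  set q := Fintype.card F with hqdef
  have hq2 : 2 ≤ q := Fintype.one_lt_card
  have hq3 : 3 ≤ q := by
    rw [hq]; exact Nat.le_self_pow a.pos.ne' 3
  -- periodicity of the Frobenius powers
  obtain ⟨i, j, hij, hf⟩ : ∃ i j : ℕ, i < j ∧ g ^ q ^ i = g ^ q ^ j := by
    haveI : Finite (Matrix.symplecticGroup (Fin 3) F) := inferInstance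
    obtain ⟨i, j, hne, h⟩ := Finite.exists_ne_map_eq_of_infinite fun i : ℕ => g ^ q ^ i
    rcases lt_or_gt_of_ne hne with h' | h'
    · exact ⟨i, j, h', h⟩
    · exact ⟨j, i, h', h.symm⟩
  set d := j - i with hd
  have hd0 : 0 < d := by omega
  have hper : ∀ m, i ≤ m → g ^ q ^ (m + d) = g ^ q ^ m := by
    intro m hm
    obtain ⟨e, rfl⟩ := Nat.exists_eq_add_of_le hm
    rw [show i + e + d = j + e by omega, pow_add, pow_mul, ← hf, ← pow_mul, ← pow_add]
  have hperk : ∀ m k, i ≤ m → g ^ q ^ (m + k * d) = g ^ q ^ m := by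
    intro m k hm
    induction k with
    | zero => simp
    | succ k ih =>
      rw [Nat.succ_mul, ← Nat.add_assoc, hper _ (hm.trans (Nat.le_add_right _ _)), ih]
  set t := (i + 1) * d with ht
  have hit : i ≤ t := by
    have := Nat.le_mul_of_pos_right (i + 1) hd0
    omega
  set s := g ^ q ^ t with hsdef
  set u := g * s⁻¹ with hudef
  have hgs : Commute g s := (Commute.refl g).pow_right _
  have hg : g = s * u := by rw [hudef, ← mul_assoc, ← hgs.eq, mul_inv_cancel_right]
  have hsu : Commute s u := hgs.symm.mul_right ((Commute.refl s).inv_right)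
  have hu1 : u ^ q ^ i = 1 := by
    rw [hudef, hgs.inv_right.mul_pow, hsdef, inv_pow, ← pow_mul, ← pow_add, Nat.add_comm t i,
      hperk i _ le_rfl, mul_inv_cancel]
  have hsper : s ^ q ^ d = s := by rw [hsdef, ← pow_mul, ← pow_add, hper t hit]
  -- the semisimple part satisfies `X² - κ X + 1`
  have hA1 : toMat F g * toMat F g⁻¹ = 1 := toMat_mul_inv g
  set P : F[X] := X ^ 2 - C κ * X + 1 with hP
  have haevP : ∀ w : Matrix.symplecticGroup (Fin 3) F, aeval (toMat F w) P =
      toMat F w * toMat F w - κ • toMat F w + 1 := fun w => by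
    rw [hP, map_add, map_sub, map_pow, map_mul, aeval_X, aeval_C, map_one, sq,
      ← Algebra.smul_def]
  have hPg : aeval (toMat F g) P ^ 3 = 0 := by
    have h1 : aeval (toMat F g) P = (toMat F g + toMat F g⁻¹ - κ • 1) * toMat F g := by
      rw [haevP, sub_mul, add_mul, toMat_inv_mul, smul_mul_assoc, one_mul]
      abel
    have hc : Commute (toMat F g + toMat F g⁻¹ - κ • 1) (toMat F g) :=
      ((Commute.refl _).add_left (commute_inv g).symm).sub_left ((Commute.one_left _).smul_left κ)
    rw [h1, hc.mul_pow, hN, zero_mul]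
  have hPs : aeval (toMat F s) P = 0 := by
    have hQ : q ^ t = 3 ^ ((a : ℕ) * t) := by rw [hq, ← pow_mul]
    have h1 : P ^ q ^ t = (X ^ q ^ t) ^ 2 - C κ * X ^ q ^ t + 1 := by
      rw [hP, hQ, add_pow_char_pow, sub_pow_char_pow, one_pow, mul_pow, ← pow_mul, ← pow_mul,
        Nat.mul_comm 2, ← C_pow, ← hQ, hqdef, FiniteField.pow_card_pow]
    have h2 : aeval (toMat F g) (P ^ q ^ t) = aeval (toMat F s) P := by
      rw [h1, hsdef, map_pow, hP]
      simp only [map_add, map_sub, map_mul, map_pow, map_one, aeval_X, aeval_C]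
    rw [← h2, map_pow]
    refine pow_eq_zero_of_le ?_ hPg
    exact le_trans hq3 (Nat.le_self_pow (by
      have : 0 < t := Nat.mul_pos (Nat.succ_pos i) hd0
      omega) q)
  rw [haevP] at hPs
  set S := toMat F s with hSdef
  set S' := toMat F s⁻¹ with hS'def
  set U := toMat F u with hUdef
  set U' := toMat F u⁻¹ with hU'def
  have hS2 : S * S = κ • S - 1 := by
    rw [← sub_eq_zero, ← hPs]; abel
  have hSS' : S * S' = 1 := toMat_mul_inv s
  have hUU' : U * U' = 1 := toMat_mul_inv u
  have hκ : S + S' = κ • 1 := by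
    have h1 := congrArg (fun M => M * S') hS2
    simp only [sub_mul, smul_mul_assoc, mul_assoc, hSS', mul_one, one_mul] at h1
    rw [h1]; abel
  have hA : toMat F g = S * U := by rw [hg, map_mul]
  have hA' : toMat F g⁻¹ = S' * U' := by
    rw [hg, hsu.eq, mul_inv_rev, map_mul]
  -- the unipotent part
  set N := U - 1 with hNdef
  have hNu : N ^ q ^ i = 0 := by
    have h1 : aeval U ((X - C 1 : F[X]) ^ q ^ i) = N ^ q ^ i := by
      rw [map_pow, map_sub, aeval_X, aeval_C, map_one]
    rw [← h1, show q ^ i = 3 ^ ((a : ℕ) * i) by rw [hq, pow_mul], sub_pow_char_pow, map_one,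
      one_pow, map_sub, map_pow, aeval_X, map_one, pow_mul 3, ← hq, hUdef, ← toMat_pow, hu1,
      map_one, sub_self]
  have hNU' : N * U' = 1 - U' := by rw [hNdef, sub_mul, hUU', one_mul]
  by_cases hκ4 : κ ^ 2 = 4
  · -- `s = ± 1`
    set e := -κ with he
    have he2 : e * e = 1 := by rw [he]; linear_combination hκ4 + h3
    have h2e : 2 * e = κ := by rw [he]; linear_combination -κ * h3
    have hSe : S = e • 1 := by
      have h1 : (S - e • 1) ^ 2 = 0 := by
        rw [sq, sub_mul, mul_sub, mul_sub, mul_smul_comm, mul_one, smul_mul_assoc, one_mul,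
          smul_mul_smul_comm, mul_one, he2, hS2, ← h2e, one_smul]
        module
      have hQ : q ^ d = 3 ^ ((a : ℕ) * d) := by rw [hq, pow_mul]
      have h2 : aeval S ((X - C e : F[X]) ^ q ^ d) = (S - e • 1) ^ q ^ d := by
        rw [map_pow, map_sub, aeval_X, aeval_C, Algebra.algebraMap_eq_smul_one]
      have h3' : (X - C e : F[X]) ^ q ^ d = X ^ q ^ d - C e := by
        rw [hQ, sub_pow_char_pow, ← C_pow, ← hQ, hqdef, FiniteField.pow_card_pow]
      have h4 : (S - e • (1 : Mat F)) ^ q ^ d = 0 :=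
        pow_eq_zero_of_le (le_trans hq2 (Nat.le_self_pow hd0.ne' q)) h1
      rw [h3', map_sub, map_pow, aeval_X, aeval_C, Algebra.algebraMap_eq_smul_one, h4, hSdef,
        ← toMat_pow, hsper] at h2
      exact sub_eq_zero.1 h2
    have hS'e : S' = e • 1 := by
      have h := hSS'
      rw [hSe, smul_mul_assoc, one_mul] at h
      have h1 := congrArg (fun M => e • M) h
      simpa [smul_smul, he2] using h1
    have hz : toMat F g + toMat F g⁻¹ - κ • 1 = e • zOf u := by
      rw [hA, hA', hSe, hS'e, ← h2e, zOf, ← hUdef, ← hU'def, smul_mul_assoc, smul_mul_assoc,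
        one_mul, one_mul, show (2 : Mat F) = 1 + 1 from (one_add_one_eq_two).symm]
      module
    have h6 : N ^ 6 = 0 := by
      have hc : Commute (N ^ 2) U' := (commute_N u).pow_left 2
      have h1 := hN
      rw [hz, _root_.smul_pow, z_eq u, ← hUdef, ← hU'def, ← hNdef, hc.mul_pow, ← pow_mul] at h1
      have he0 : e ^ 3 ≠ 0 := pow_ne_zero _ (left_ne_zero_of_mul_eq_one he2)
      have h2' := (smul_eq_zero.1 h1).resolve_left he0
      calc N ^ 6 = N ^ (2 * 3) * (U' ^ 3 * U ^ 3) := by
            rw [← (commute_inv u).symm.mul_pow, toMat_inv_mul, one_pow, mul_one]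
        _ = 0 := by rw [← mul_assoc, h2', zero_mul]
    exact conj_scalar_unipotent (e := e) (u := u)
      (by rw [hA, hSe, smul_mul_assoc, one_mul]) h6
  · have hD : (S - S') * (S - S') = (κ ^ 2 - 4) • 1 := by
      have e1 : (S + S') * (S + S') = (κ * κ) • 1 := by
        rw [hκ, smul_mul_smul_comm, mul_one]
      have e2 : (S - S') * (S - S') = (S + S') * (S + S') - (4 : F) • 1 := by
        have hS'S : S' * S = 1 := by rw [hS'def, hSdef]; exact toMat_inv_mul s
        simp only [sub_mul, mul_sub, add_mul, mul_add, hSS', hS'S]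
        rw [show (4 : F) = 1 + 1 + (1 + 1) by norm_num, add_smul, add_smul, one_smul]
        abel
      rw [e2, e1, sub_smul, sq]
    have hDunit : IsUnit (S - S') := by
      have hk : κ ^ 2 - 4 ≠ 0 := sub_ne_zero.2 hκ4
      exact ⟨⟨S - S', (κ ^ 2 - 4)⁻¹ • (S - S'),
        by rw [mul_smul_comm, hD, inv_smul_smul₀ hk],
        by rw [smul_mul_assoc, hD, inv_smul_smul₀ hk]⟩, rfl⟩
    have cSU : Commute S U := hsu.map (toMat F)
    have cSU' : Commute S U' := hsu.inv_right.map (toMat F)
    have cS'U : Commute S' U := hsu.inv_left.map (toMat F)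
    have cS'U' : Commute S' U' := hsu.inv_left.inv_right.map (toMat F)
    have cSN : Commute S N := cSU.sub_right (Commute.one_right _)
    have cS'N : Commute S' N := cS'U.sub_right (Commute.one_right _)
    have cNU' : Commute N U' := commute_N u
    have cSS' : Commute S S' := commute_inv s
    set T := (S - S') + S' * N * U' with hT
    have hnil : IsNilpotent (S' * N * U') := by
      have c1 : Commute (S' * N) U' := cS'U'.mul_left cNU'
      refine ⟨q ^ i, ?_⟩
      rw [c1.mul_pow, cS'N.mul_pow, hNu, mul_zero, zero_mul]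
    have hTunit : IsUnit T := by
      refine hnil.isUnit_add_left_of_commute hDunit ?_
      have c1 : Commute (S' * N * U') S :=
        ((cSS'.symm.mul_left cSN.symm).mul_left cSU'.symm)
      have c2 : Commute (S' * N * U') S' :=
        (((Commute.refl S').mul_left cS'N.symm).mul_left cS'U'.symm)
      exact c1.sub_right c2
    have hz : toMat F g + toMat F g⁻¹ - κ • 1 = N * T := by
      have h1 : N * T = N * S - N * (S' * U') := by
        rw [hT, mul_assoc S' N U', hNU']
        noncomm_ring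
      rw [hA, hA', ← hκ, h1, hNdef]
      simp only [sub_mul, one_mul, ← cSU.eq, ← mul_assoc U S' U', ← cS'U.eq, mul_assoc S' U U',
        hUU', mul_one]
      abel
    have hc : Commute N T := by
      rw [hT]
      exact (cSN.symm.sub_right cS'N.symm).add_right
        ((cS'N.symm.mul_right (Commute.refl N)).mul_right cNU')
    have h3N : N ^ 3 = 0 := by
      have h1 := hN
      rw [hz, hc.mul_pow] at h1
      exact (IsUnit.mul_left_eq_zero (hTunit.pow 3)).1 h1
    exact conj_quadratic_unipotent hκ4 hg hsu hS2 h3N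

theorem conj_no_eigen [Finite F] [CharP F 3] {c : F} (hc : ∀ r : F, r * r * r - r + c ^ 3 ≠ 0)
    {g : Matrix.symplecticGroup (Fin 3) F}
    (hne : ∀ (v : V F) (κ : F), (toMat F g + toMat F g⁻¹) *ᵥ v = κ • v → v = 0) :
    ∃ z, z * g * z⁻¹ ∈ cubicStab c := by
  haveI : Fact (Nat.Prime 3) := ⟨Nat.prime_three⟩
  have h3 : (3 : F) = 0 := CharP.cast_eq_zero F 3
  have h2 : (2 : F) ≠ 0 := fun h => one_ne_zero (by linear_combination h3 - h : (1 : F) = 0)
  set Z := toMat F g + toMat F g⁻¹ with hZdef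
  have hZ : ∀ x y, stdForm 3 F (Z *ᵥ x) y = stdForm 3 F x (Z *ᵥ y) := by
    intro x y
    rw [hZdef, Matrix.add_mulVec, Matrix.add_mulVec, map_add, LinearMap.add_apply, map_add,
      toMat_adj, toMat_adj']
    ring
  have hcomm : ∀ (p p' : F[X]) (x : V F),
      aeval Z p *ᵥ (aeval Z p' *ᵥ x) = aeval Z p' *ᵥ (aeval Z p *ᵥ x) := fun p p' x => by
    rw [Matrix.mulVec_mulVec, Matrix.mulVec_mulVec, ← map_mul, ← map_mul, mul_comm]
  have hroot : ∀ (p : F[X]) (x : V F) (κ : F), p.IsRoot κ → aeval Z p *ᵥ x = 0 →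
      ∃ p', p = (X - C κ) * p' ∧ aeval Z p' *ᵥ x = 0 := by
    intro p x κ hκ hp
    obtain ⟨p', rfl⟩ := dvd_iff_isRoot.2 hκ
    refine ⟨p', rfl, hne _ κ ?_⟩
    rw [map_mul, ← Matrix.mulVec_mulVec, map_sub, aeval_X, aeval_C, Matrix.sub_mulVec,
      Algebra.algebraMap_eq_smul_one, Matrix.smul_mulVec, Matrix.one_mulVec, sub_eq_zero] at hp
    exact hp
  have hord : ∀ v : V F, v ≠ 0 → ∃ p : F[X], p.Monic ∧ Irreducible p ∧
      (p.natDegree = 2 ∨ p.natDegree = 3) ∧ aeval Z p *ᵥ v = 0 ∧
      ∀ r : F[X], aeval Z r *ᵥ v = 0 → p ∣ r := by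
    intro v hv
    obtain ⟨p, hpm, hp3, hpv, hdvd⟩ := exists_order hZ h2 v
    have hnr : ∀ κ, ¬ p.IsRoot κ := by
      intro κ hκ
      obtain ⟨p', hp', hp'v⟩ := hroot p v κ hκ hpv
      have hp'0 : p' ≠ 0 := fun h => hpm.ne_zero (by rw [hp', h, mul_zero])
      have h1 := natDegree_le_of_dvd (hdvd p' hp'v) hp'0
      have h4 : p.natDegree = 1 + p'.natDegree := by
        rw [hp', natDegree_mul (X_sub_C_ne_zero κ) hp'0, natDegree_X_sub_C]
      omega
    have h0 : p.natDegree ≠ 0 := fun h => hv (by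
      rw [hpm.natDegree_eq_zero.1 h, map_one, Matrix.one_mulVec] at hpv
      exact hpv)
    have h1 : p.natDegree ≠ 1 := fun h => hnr (-p.coeff 0) (by
      rw [hpm.eq_X_add_C h, IsRoot.def]; simp)
    refine ⟨p, hpm, ?_, by omega, hpv, hdvd⟩
    exact irreducible_of_degree_le_three_of_not_isRoot (Finset.mem_Icc.2 ⟨by omega, hp3⟩) hnr
  have hv0 : (mE F) ≠ 0 := fun h => by simpa [mE] using congrFun h (Sum.inl 0)
  obtain ⟨m, hmm, hmi, hmd, hmv, hmdvd⟩ := hord _ hv0
  -- a single polynomial kills everything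
  have hall : ∀ y : V F, aeval Z m *ᵥ y = 0 := by
    intro y
    by_contra hy
    have hy0 : y ≠ 0 := fun h => hy (by rw [h, Matrix.mulVec_zero])
    obtain ⟨py, hpym, hpyi, -, hpyv, hpyd⟩ := hord y hy0
    have hsum : mE F + y ≠ 0 := fun h => hy (by
      rw [eq_neg_of_add_eq_zero_right h, Matrix.mulVec_neg, hmv, neg_zero])
    obtain ⟨p, hpm, hpi, -, hpv, -⟩ := hord _ hsum
    rw [Matrix.mulVec_add] at hpv
    have hne' : m ≠ py := fun h => hy (by rw [h]; exact hpyv)
    have hcop : IsCoprime m py := by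
      rw [hmi.coprime_iff_not_dvd]
      exact fun h => hne' (eq_of_monic_of_associated hmm hpym (hmi.associated_of_dvd hpyi h))
    obtain ⟨a, b, hab⟩ := hcop
    have e1 : aeval Z m *ᵥ (aeval Z p *ᵥ y) = 0 := by
      rw [eq_neg_of_add_eq_zero_right hpv, Matrix.mulVec_neg, hcomm m p, hmv, Matrix.mulVec_zero,
        neg_zero]
    have e2 : aeval Z py *ᵥ (aeval Z p *ᵥ y) = 0 := by
      rw [hcomm py p, hpyv, Matrix.mulVec_zero]
    have e3 : aeval Z p *ᵥ y = 0 := by
      rw [← Matrix.one_mulVec (aeval Z p *ᵥ y), ← map_one (aeval Z : F[X] →ₐ[F] Mat F), ← hab, map_add,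
        Matrix.add_mulVec, map_mul, map_mul, ← Matrix.mulVec_mulVec, ← Matrix.mulVec_mulVec, e1, e2,
        Matrix.mulVec_zero, Matrix.mulVec_zero, add_zero]
    rw [e3, add_zero] at hpv
    have d1 := eq_of_monic_of_associated hmm hpm (hmi.associated_of_dvd hpi (hmdvd p hpv))
    have d2 := eq_of_monic_of_associated hpym hpm (hpyi.associated_of_dvd hpi (hpyd p e3))
    exact hne' (d1.trans d2.symm)
  have hli : ∀ (d : ℕ), d = m.natDegree → ∀ x : V F, x ≠ 0 → ∀ a : Fin d → F,
      ∑ i, a i • (Z ^ (i : ℕ)) *ᵥ x = 0 → ∀ i, a i = 0 := by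
    intro d hd x hx a ha
    set p : F[X] := ∑ i, C (a i) * X ^ (i : ℕ) with hp
    have hpx : aeval Z p *ᵥ x = 0 := by
      rw [← ha, hp, map_sum, Matrix.sum_mulVec]
      refine Finset.sum_congr rfl fun i _ => ?_
      rw [map_mul, aeval_C, aeval_X_pow, ← Algebra.smul_def, Matrix.smul_mulVec]
    have hcoef : ∀ i : Fin d, p.coeff (i : ℕ) = a i := fun i => by
      simp only [hp, finsetSum_coeff, coeff_C_mul_X_pow]
      rw [Finset.sum_eq_single i]
      · simp
      · intro j _ hj
        rw [if_neg fun h => hj (Fin.ext h.symm)]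
      · simp
    have hp0 : p = 0 := by
      by_contra hp0
      have hdeg : p.natDegree < d := by
        rcases Nat.eq_zero_or_pos d with h | h
        · subst h
          exact absurd (by simp [hp]) hp0
        · refine Nat.lt_of_le_pred h (natDegree_sum_le_of_forall_le _ _ fun i _ =>
            (natDegree_C_mul_X_pow_le _ _).trans (Nat.le_pred_of_lt i.2))
      obtain ⟨r, hrm, hri, -, hrv, hrdvd⟩ := hord x hx
      have hrm' := eq_of_monic_of_associated hrm hmm (hri.associated_of_dvd hmi (hrdvd m (hall x)))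
      have hle := natDegree_le_of_dvd (hrdvd p hpx) hp0
      rw [hrm'] at hle
      omega
    intro i
    rw [← hcoef, hp0, coeff_zero]
  have hiso : ∀ (p : F[X]) (x : V F), stdForm 3 F x (aeval Z p *ᵥ x) = 0 := form_aeval_self hZ h2
  rcases hmd with hd2 | hd3
  · -- a quadratic polynomial is impossible
    exfalso
    set r₀ := m.coeff 0 with hr₀
    set r₁ := m.coeff 1 with hr₁
    have hr0 : r₀ ≠ 0 := by
      intro h
      have hdiv : X ∣ m := X_dvd_iff.2 h
      have h1 := natDegree_eq_of_degree_eq (degree_eq_degree_of_associated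
        (irreducible_X.associated_of_dvd hmi hdiv))
      rw [natDegree_X, hd2] at h1
      omega
    have hrel : ∀ y : V F, Z *ᵥ (Z *ᵥ y) = -r₁ • (Z *ᵥ y) - r₀ • y := by
      intro y
      have h := hall y
      rw [m.as_sum_range_C_mul_X_pow, hd2, Finset.sum_range_succ, Finset.sum_range_succ,
        Finset.sum_range_one, show m.coeff 2 = 1 by rw [← hd2]; exact hmm.coeff_natDegree,
        ← hr₀, ← hr₁] at h
      simp only [map_add, map_mul, aeval_C, aeval_X, map_pow, pow_zero, mul_one, pow_one, map_one,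
        one_mul, Algebra.algebraMap_eq_smul_one, smul_mul_assoc, one_smul, Matrix.add_mulVec,
        Matrix.smul_mulVec, Matrix.one_mulVec, sq, ← Matrix.mulVec_mulVec] at h
      linear_combination (norm := module) h
    have hz1 : ∀ w, stdForm 3 F w (Z *ᵥ w) = 0 := fun w => by simpa using hiso X w
    set x := mE F
    have hx : x ≠ 0 := hv0
    have hb : LinearIndependent F ![x, Z *ᵥ x] := by
      rw [Fintype.linearIndependent_iff]
      intro a ha
      exact hli 2 hd2.symm x hx a (by simpa [Fin.sum_univ_two] using ha)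
    obtain ⟨y, hy⟩ := exists_pair hb ![1, 0]
    have hxy : stdForm 3 F x y = 1 := hy 0
    have hzxy : stdForm 3 F (Z *ᵥ x) y = 0 := hy 1
    have hxzy : stdForm 3 F x (Z *ᵥ y) = 0 := by rw [← hZ]; exact hzxy
    have hzz : stdForm 3 F (Z *ᵥ x) (Z *ᵥ y) = -r₀ := by
      rw [hZ, hrel]
      simp [hxy, hxzy]
    set W := Submodule.span F (Set.range ![x, Z *ᵥ x, y, Z *ᵥ y]) with hW
    have hinW : ∀ i, ![x, Z *ᵥ x, y, Z *ᵥ y] i ∈ W := fun i => Submodule.subset_span ⟨i, rfl⟩
    have hWnd : ∀ w ∈ W, w ∈ perp W → w = 0 := by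
      intro w hw hwp
      obtain ⟨d, rfl⟩ := (Submodule.mem_span_range_iff_exists_fun F).1 hw
      simp only [Fin.sum_univ_four, Matrix.cons_val_zero, Matrix.cons_val_one,
        Matrix.cons_val_two, Matrix.cons_val_three, Matrix.head_cons, Matrix.tail_cons] at hwp ⊢
      have e1 := mem_perp.1 hwp _ (hinW 2)
      have e2 := mem_perp.1 hwp _ (hinW 3)
      have e3 := mem_perp.1 hwp _ (hinW 0)
      have e4 := mem_perp.1 hwp _ (hinW 1)
      simp [map_add, map_smul, hxy, hzxy, hxzy, hzz, form_self, hz1, form_swap y x,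
        form_swap (Z *ᵥ y) x, form_swap y (Z *ᵥ x), form_swap (Z *ᵥ y) (Z *ᵥ x),
        form_swap (Z *ᵥ x) x, form_swap (Z *ᵥ y) y, hr0] at e1 e2 e3 e4
      simp [e1, e2, e3, e4]
    have hWr : finrank F W ≤ 4 := by
      have h := finrank_range_le_card (R := F) ![x, Z *ᵥ x, y, Z *ᵥ y]
      rwa [Fintype.card_fin] at h
    have hsum := finrank_perp W
    have hU : perp W ≠ ⊥ := fun h => by
      rw [h, finrank_bot] at hsum
      omega
    obtain ⟨p, hp, hp0⟩ := Submodule.exists_mem_ne_zero_of_ne_bot hU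
    have hstab : ∀ w ∈ W, Z *ᵥ w ∈ W := by
      intro w hw
      induction hw using Submodule.span_induction with
      | mem w hw =>
        obtain ⟨i, rfl⟩ := hw
        fin_cases i <;> simp only [Fin.isValue]
        · exact hinW 1
        · show Z *ᵥ (Z *ᵥ x) ∈ W
          rw [hrel]
          exact W.sub_mem (W.smul_mem _ (hinW 1)) (W.smul_mem _ (hinW 0))
        · exact hinW 3
        · show Z *ᵥ (Z *ᵥ y) ∈ W
          rw [hrel]
          exact W.sub_mem (W.smul_mem _ (hinW 3)) (W.smul_mem _ (hinW 2))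
      | zero => rw [Matrix.mulVec_zero]; exact W.zero_mem
      | add a b _ _ ha hb => rw [Matrix.mulVec_add]; exact W.add_mem ha hb
      | smul r a _ ha => rw [Matrix.mulVec_smul]; exact W.smul_mem _ ha
    have hzp : Z *ᵥ p ∈ perp W :=
      mem_perp.2 fun w hw => by rw [hZ]; exact mem_perp.1 hp _ (hstab w hw)
    have hpp : LinearIndependent F ![p, Z *ᵥ p] := by
      rw [Fintype.linearIndependent_iff]
      intro a ha
      exact hli 2 hd2.symm p hp0 a (by simpa [Fin.sum_univ_two] using ha)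
    have hW4 : finrank F W = 4 := by
      have hli4 : LinearIndependent F ![x, Z *ᵥ x, y, Z *ᵥ y] := by
        rw [Fintype.linearIndependent_iff]
        intro d hd
        simp only [Fin.sum_univ_four, Matrix.cons_val_zero, Matrix.cons_val_one,
          Matrix.cons_val_two, Matrix.cons_val_three, Matrix.head_cons, Matrix.tail_cons] at hd
        have f1 := congrArg (fun z => stdForm 3 F z y) hd
        have f2 := congrArg (fun z => stdForm 3 F z (Z *ᵥ y)) hd
        have f3 := congrArg (fun z => stdForm 3 F z x) hd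
        have f4 := congrArg (fun z => stdForm 3 F z (Z *ᵥ x)) hd
        simp [map_add, map_smul, hxy, hzxy, hxzy, hzz, form_self, hz1, form_swap y x,
          form_swap (Z *ᵥ y) x, form_swap y (Z *ᵥ x), form_swap (Z *ᵥ y) (Z *ᵥ x),
          form_swap (Z *ᵥ x) x, form_swap (Z *ᵥ y) y, hr0] at f1 f2 f3 f4
        intro i
        fin_cases i <;> assumption
      rw [hW, finrank_span_eq_card hli4, Fintype.card_fin]
    have hpspan : Submodule.span F (Set.range ![p, Z *ᵥ p]) = perp W := by
      refine Submodule.eq_of_le_of_finrank_le (Submodule.span_le.2 ?_) ?_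
      · rintro _ ⟨i, rfl⟩
        fin_cases i <;> assumption
      · rw [finrank_span_eq_card hpp, Fintype.card_fin]
        omega
    refine hp0 (hWnd p ?_ hp)
    rw [← perp_perp W]
    refine mem_perp.2 fun w hw => ?_
    rw [← hpspan] at hw
    obtain ⟨d, rfl⟩ := (Submodule.mem_span_range_iff_exists_fun F).1 hw
    simp [Fin.sum_univ_two, map_add, map_smul, form_self, hz1]
  · -- a cubic polynomial
    haveI : Fact (Irreducible m) := ⟨hmi⟩
    haveI : Module.Finite F (AdjoinRoot m) := hmm.finite_adjoinRoot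
    haveI : Finite (AdjoinRoot m) := Module.finite_of_finite F
    haveI : Fact (Irreducible (cubicPoly c)) := ⟨cubicPoly_irreducible hc⟩
    haveI : Module.Finite F (AdjoinRoot (cubicPoly c)) := (cubicPoly_monic c).finite_adjoinRoot
    have hfin : finrank F (AdjoinRoot (cubicPoly c)) = finrank F (AdjoinRoot m) := by
      rw [(AdjoinRoot.powerBasis (cubicPoly_monic c).ne_zero).finrank, AdjoinRoot.powerBasis_dim,
        (AdjoinRoot.powerBasis hmi.ne_zero).finrank, AdjoinRoot.powerBasis_dim, hd3,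
        cubicPoly_natDegree]
    obtain ⟨φ⟩ := FiniteField.nonempty_algHom_of_finrank_dvd (dvd_of_eq hfin)
    obtain ⟨w, hw⟩ := AdjoinRoot.mk_surjective (φ (AdjoinRoot.root (cubicPoly c)))
    set Ω := aeval Z w with hΩ
    have hΩz : aeval Z m = 0 :=
      Matrix.mulVec_injective (funext fun y => (hall y).trans (Matrix.zero_mulVec y).symm)
    let Φ : AdjoinRoot m →ₐ[F] Mat F :=
      Ideal.Quotient.liftₐ (Ideal.span {m}) (aeval Z) fun a ha => by
        obtain ⟨b, rfl⟩ := Ideal.mem_span_singleton'.1 ha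
        rw [map_mul, hΩz, mul_zero]
    have hΩΦ : Ω = Φ (φ (AdjoinRoot.root (cubicPoly c))) := by rw [← hw]; rfl
    have hΩroot : Ω * (Ω * Ω) = Ω - c ^ 3 • 1 := by
      have h : aeval Ω (cubicPoly c) = 0 := by
        rw [hΩΦ, ← AlgHom.comp_apply, aeval_algHom_apply, AdjoinRoot.aeval_eq, AdjoinRoot.mk_self,
          map_zero]
      rw [aeval_cubicPoly] at h
      linear_combination (norm := module) h
    have hΩadj : ∀ x y, stdForm 3 F (Ω *ᵥ x) y = stdForm 3 F x (Ω *ᵥ y) := aeval_selfAdj hZ w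
    have hΩself : ∀ (k : ℕ) (x : V F), stdForm 3 F x ((Ω ^ k) *ᵥ x) = 0 := fun k x => by
      rw [hΩ, ← map_pow]; exact hiso _ x
    set D := mD c with hD
    set x := mE F
    have hΦinj : ∀ y, Φ y *ᵥ x = 0 → y = 0 := by
      intro y hy
      by_contra hy0
      apply hv0
      rw [← Matrix.one_mulVec x, ← map_one Φ, ← inv_mul_cancel₀ hy0, map_mul,
        ← Matrix.mulVec_mulVec, hy, Matrix.mulVec_zero]
    have hb : LinearIndependent F fun i : Fin 3 => (Ω ^ (i : ℕ)) *ᵥ x := by
      rw [Fintype.linearIndependent_iff]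
      intro d hd
      have h1 : ∑ i : Fin 3, d i • φ (AdjoinRoot.root (cubicPoly c)) ^ (i : ℕ) = 0 := by
        refine hΦinj _ ?_
        rw [← hd, map_sum, Matrix.sum_mulVec]
        refine Finset.sum_congr rfl fun i _ => ?_
        rw [map_smul, map_pow, ← hΩΦ, Matrix.smul_mulVec]
      have h2 := (AdjoinRoot.powerBasis (cubicPoly_monic c).ne_zero).basis.linearIndependent
      have h3' : ∑ i : Fin 3, d i • AdjoinRoot.root (cubicPoly c) ^ (i : ℕ) = 0 := by
        apply φ.toRingHom.injective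
        rw [map_zero]
        show φ _ = 0
        rw [map_sum, ← h1]
        simp [map_smul, map_pow]
      have hdim : (AdjoinRoot.powerBasis (cubicPoly_monic c).ne_zero).dim = 3 := by
        rw [AdjoinRoot.powerBasis_dim, cubicPoly_natDegree]
      have h4 := h2.comp (Fin.cast hdim.symm) (Fin.cast_injective _)
      rw [Fintype.linearIndependent_iff] at h4
      refine h4 d ?_
      rw [← h3']
      refine Finset.sum_congr rfl fun i _ => ?_
      simp
    obtain ⟨y, hy⟩ := exists_pair hb fun i : Fin 3 => stdForm 3 F ((D ^ (i : ℕ)) *ᵥ mE F) (mF F)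
    have key : ∀ k : ℕ, stdForm 3 F ((Ω ^ k) *ᵥ x) y = stdForm 3 F ((D ^ k) *ᵥ mE F) (mF F) := by
      intro k
      induction k using Nat.strong_induction_on with
      | _ k ih =>
        by_cases hk : k < 3
        · exact hy ⟨k, hk⟩
        · obtain ⟨j, rfl⟩ : ∃ j, k = j + 3 := ⟨k - 3, by omega⟩
          have hD3 : D * (D * D) = D - c ^ 3 • 1 := by
            rw [hD, mD, Matrix.fromBlocks_multiply, Matrix.fromBlocks_multiply]
            simp only [Matrix.mul_zero, Matrix.zero_mul, add_zero, zero_add, cubicM_cube h3]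
            rw [← Matrix.fromBlocks_one, Matrix.fromBlocks_smul, sub_eq_add_neg (Matrix.fromBlocks _ _ _ _),
              Matrix.fromBlocks_neg, Matrix.fromBlocks_add, smul_zero, neg_zero, add_zero,
              sub_eq_add_neg]
          rw [pow_add, pow_three Ω, hΩroot, pow_add, pow_three D, hD3, mul_sub, mul_sub,
            mul_smul_comm, mul_smul_comm, mul_one, mul_one, ← pow_succ, ← pow_succ,
            Matrix.sub_mulVec, Matrix.smul_mulVec, Matrix.sub_mulVec, Matrix.smul_mulVec]
          simp only [map_sub, map_smul, LinearMap.sub_apply, LinearMap.smul_apply, smul_eq_mul,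
            ih (j + 1) (by omega), ih j (by omega)]
    have hDself : ∀ (k : ℕ) (z : V F), stdForm 3 F z ((D ^ k) *ᵥ z) = 0 := fun k z => by
      have := form_aeval_self (mD_adj c) h2 (X ^ k) z
      simpa using this
    set bm : Fin 3 ⊕ Fin 3 → V F := Sum.elim (fun i => (D ^ (i : ℕ)) *ᵥ mE F)
      (fun i => (D ^ (i : ℕ)) *ᵥ mF F) with hbm
    set bg : Fin 3 ⊕ Fin 3 → V F := Sum.elim (fun i => (Ω ^ (i : ℕ)) *ᵥ x)
      (fun i => (Ω ^ (i : ℕ)) *ᵥ y) with hbg
    have hgram : ∀ i j, stdForm 3 F (bm i) (bm j) = stdForm 3 F (bg i) (bg j) := by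
      have ePow : ∀ {M : Mat F}, (∀ x y, stdForm 3 F (M *ᵥ x) y = stdForm 3 F x (M *ᵥ y)) →
          ∀ (i j : ℕ) (a b : V F),
          stdForm 3 F ((M ^ i) *ᵥ a) ((M ^ j) *ᵥ b) = stdForm 3 F ((M ^ (i + j)) *ᵥ a) b ∧
          stdForm 3 F ((M ^ i) *ᵥ a) ((M ^ j) *ᵥ b) = stdForm 3 F a ((M ^ (i + j)) *ᵥ b) := by
        intro M hM i j a b
        constructor
        · rw [← pow_selfAdj hM, Matrix.mulVec_mulVec, ← pow_add, Nat.add_comm]
        · rw [pow_selfAdj hM, Matrix.mulVec_mulVec, ← pow_add]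
      rintro (i | i) (j | j) <;> simp only [hbm, hbg, Sum.elim_inl, Sum.elim_inr]
      · rw [(ePow (mD_adj c) _ _ _ _).2, (ePow hΩadj _ _ _ _).2, hDself, hΩself]
      · rw [(ePow (mD_adj c) _ _ _ _).1, (ePow hΩadj _ _ _ _).1, key]
      · rw [(ePow (mD_adj c) _ _ _ _).2, (ePow hΩadj _ _ _ _).2, form_swap (mF F), form_swap y,
          ← key]
      · rw [(ePow (mD_adj c) _ _ _ _).2, (ePow hΩadj _ _ _ _).2, hDself, hΩself]
    have hc0 : c ≠ 0 := fun h => hc 0 (by rw [h]; ring)
    have hbmli : LinearIndependent F bm := by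
      rw [Fintype.linearIndependent_iff]
      intro d hd
      have e := fun k => congrFun hd k
      have k0 := e (Sum.inl 0)
      have k1 := e (Sum.inl 1)
      have k2 := e (Sum.inl 2)
      have l0 := e (Sum.inr 0)
      have l1 := e (Sum.inr 1)
      have l2 := e (Sum.inr 2)
      simp [hbm, hD, mD, mE, mF, cubicM, Fin.sum_univ_three, pow_two, Matrix.fromBlocks_multiply,
        Matrix.fromBlocks, Matrix.one_apply, Matrix.mul_apply] at k0 k1 k2 l0 l1 l2
      have q2 : d (Sum.inl 2) = 0 := by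
        have : d (Sum.inl 2) * c = 0 := by linear_combination k1 - k2
        exact (mul_eq_zero.1 this).resolve_right hc0
      have r2 : d (Sum.inr 2) = 0 := by
        have : d (Sum.inr 2) * c = 0 := by linear_combination l1 - l2
        exact (mul_eq_zero.1 this).resolve_right hc0
      simp [q2, r2, hc0] at k0 k1 l0 l1
      rintro (i | i) <;> fin_cases i <;> assumption
    obtain ⟨T, hT⟩ := exists_sp_of_gram hbmli hgram
    have hTΩ : ∀ z, Ω *ᵥ (toMat F T *ᵥ z) = toMat F T *ᵥ (D *ᵥ z) := by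
      intro z
      have hsp : Submodule.span F (Set.range bm) = ⊤ :=
        hbmli.span_eq_top_of_card_eq_finrank' (by rw [finrank_V]; rfl)
      obtain ⟨d, rfl⟩ := (Submodule.mem_span_range_iff_exists_fun F).1
        (hsp ▸ Submodule.mem_top (x := z))
      simp only [Matrix.mulVec_sum, Matrix.mulVec_smul]
      refine Finset.sum_congr rfl fun i _ => ?_
      congr 1
      have hD3 : D * (D * D) = D - c ^ 3 • 1 := by
        rw [hD, mD, Matrix.fromBlocks_multiply, Matrix.fromBlocks_multiply]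
        simp only [Matrix.mul_zero, Matrix.zero_mul, add_zero, zero_add, cubicM_cube h3]
        rw [← Matrix.fromBlocks_one, Matrix.fromBlocks_smul, sub_eq_add_neg (Matrix.fromBlocks _ _ _ _),
          Matrix.fromBlocks_neg, Matrix.fromBlocks_add, smul_zero, neg_zero, add_zero,
          sub_eq_add_neg]
      have step : ∀ (k : ℕ) (e : V F) (b : V F), k < 3 →
          (∀ l, l < 3 → toMat F T *ᵥ ((D ^ l) *ᵥ e) = (Ω ^ l) *ᵥ b) →
          Ω *ᵥ (toMat F T *ᵥ ((D ^ k) *ᵥ e)) = toMat F T *ᵥ (D *ᵥ ((D ^ k) *ᵥ e)) := by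
        intro k e b hk h
        rw [h k hk, Matrix.mulVec_mulVec _ Ω, ← pow_succ', Matrix.mulVec_mulVec _ D, ← pow_succ']
        by_cases hk' : k + 1 < 3
        · rw [h _ hk']
        · have a0 := h 0 (by norm_num)
          have a1 := h 1 (by norm_num)
          rw [pow_zero, pow_zero, Matrix.one_mulVec, Matrix.one_mulVec] at a0
          rw [pow_one, pow_one] at a1
          rw [show k + 1 = 3 by omega, pow_three Ω, pow_three D, hΩroot, hD3]
          simp only [Matrix.sub_mulVec, Matrix.smul_mulVec, Matrix.one_mulVec, Matrix.mulVec_sub,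
            Matrix.mulVec_smul, a0, a1]
      rcases i with i | i
      · exact step i (mE F) x i.2 fun l hl => hT (Sum.inl ⟨l, hl⟩)
      · exact step i (mF F) y i.2 fun l hl => hT (Sum.inr ⟨l, hl⟩)
    refine exists_conj_cubicStab T (toMat F T⁻¹ * toMat F g * toMat F T) (fun i => ?_) 0 ?_
    · rw [← Matrix.mulVec_mulVec, ← Matrix.mulVec_mulVec, toMat_inv']
    · rw [Int.cast_zero, add_zero]
      refine Matrix.mulVec_injective (funext fun z => ?_)
      have hgΩ : ∀ v, toMat F g *ᵥ (Ω *ᵥ v) = Ω *ᵥ (toMat F g *ᵥ v) := fun v => by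
        rw [Matrix.mulVec_mulVec, Matrix.mulVec_mulVec]
        have hgZ : Commute (toMat F g) Z := (Commute.refl _).add_right (commute_inv g)
        have hgen : ∀ p : F[X], toMat F g * aeval Z p = aeval Z p * toMat F g := by
          intro p
          induction p using Polynomial.induction_on' with
          | add a b ha hb => rw [map_add, mul_add, add_mul, ha, hb]
          | monomial k a =>
            rw [← C_mul_X_pow_eq_monomial, map_mul, aeval_C, aeval_X_pow, ← Algebra.smul_def,
              mul_smul_comm, smul_mul_assoc, (hgZ.pow_right k).eq]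
        rw [hΩ, hgen]
      have hinj : ∀ a b : V F, toMat F T *ᵥ a = toMat F T *ᵥ b → a = b := fun a b hab => by
        have := congrArg (fun v => toMat F T⁻¹ *ᵥ v) hab
        simpa only [toMat_inv] using this
      simp only [← Matrix.mulVec_mulVec]
      apply hinj
      show toMat F T *ᵥ (toMat F T⁻¹ *ᵥ (toMat F g *ᵥ (toMat F T *ᵥ (D *ᵥ z)))) =
        toMat F T *ᵥ (D *ᵥ (toMat F T⁻¹ *ᵥ (toMat F g *ᵥ (toMat F T *ᵥ z))))
      rw [toMat_inv', ← hTΩ, ← hTΩ, toMat_inv', hgΩ]

theorem covered_PSp_six [Finite F] [CharP F 3] : Covered (Cfsg.PSp 3 F) := by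
  haveI : Fact (Nat.Prime 3) := ⟨Nat.prime_three⟩
  have h3 : (3 : F) = 0 := CharP.cast_eq_zero F 3
  have h2 : (2 : F) ≠ 0 := fun h => one_ne_zero (by linear_combination h3 - h : (1 : F) = 0)
  obtain ⟨c, -, hc⟩ := exists_cubic_param (RingHom.id F) fun _ => rfl
  have hc0 : c ≠ 0 := fun h => hc 0 (by rw [h]; ring)
  have hscal : ∀ z ∈ Subgroup.center (Matrix.symplecticGroup (Fin 3) F),
      ∃ l : F, toMat F z = l • 1 := by
    intro z hz
    rcases mem_center_sp_iff.1 hz with h | h
    · exact ⟨1, h.trans (one_smul F 1).symm⟩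
    · exact ⟨-1, h.trans (neg_one_smul F (1 : Mat F)).symm⟩
  refine covered_quotient _ (planeStab_ne_top (F := F)) (cubicStab_ne_top h3 hc0) ?_ ?_ fun g => ?_
  · intro z hz
    obtain ⟨l, hl⟩ := hscal z hz
    exact scalar_mem_subStab _ _ (l := l) fun v => by
      rw [hl, Matrix.smul_mulVec, Matrix.one_mulVec]
  · intro z hz
    obtain ⟨l, hl⟩ := hscal z hz
    exact mem_cubicStab_of_scalar hl
  set Z := toMat F g + toMat F g⁻¹ with hZdef
  have hZ : ∀ x y, stdForm 3 F (Z *ᵥ x) y = stdForm 3 F x (Z *ᵥ y) := by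
    intro x y
    rw [hZdef, Matrix.add_mulVec, Matrix.add_mulVec, map_add, LinearMap.add_apply, map_add,
      toMat_adj, toMat_adj']
    ring
  by_cases heig : ∃ (v : V F) (κ : F), v ≠ 0 ∧ Z *ᵥ v = κ • v
  · obtain ⟨v, κ, hv0, hv⟩ := heig
    set N := Z - κ • (1 : Mat F) with hNdef
    have hN : ∀ x y, stdForm 3 F (N *ᵥ x) y = stdForm 3 F x (N *ᵥ y) := by
      intro x y
      rw [hNdef, Matrix.sub_mulVec, Matrix.sub_mulVec, Matrix.smul_mulVec, Matrix.smul_mulVec,
        Matrix.one_mulVec, Matrix.one_mulVec, map_sub, LinearMap.sub_apply, map_sub, hZ,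
        map_smul, map_smul, LinearMap.smul_apply]
    set W := LinearMap.ker (N ^ 3).mulVecLin with hW
    have hmemW : ∀ x, x ∈ W ↔ (N ^ 3) *ᵥ x = 0 := fun x => Iff.rfl
    by_cases htop : W = ⊤
    · refine conj_nilpotent_case (κ := κ) ?_
      refine Matrix.mulVec_injective (funext fun x => ?_)
      show N ^ 3 *ᵥ x = (0 : Mat F) *ᵥ x
      rw [Matrix.zero_mulVec]
      exact (hmemW x).1 (by rw [htop]; exact Submodule.mem_top)
    obtain ⟨z, hz⟩ := plane_of_nondeg (g := g) (W := W) (fun h => hv0 (by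
        have hvW : v ∈ W := by
          rw [hmemW, show N ^ 3 = N ^ 2 * N from pow_succ N 2, ← Matrix.mulVec_mulVec, hNdef,
            Matrix.sub_mulVec, hv, Matrix.smul_mulVec, Matrix.one_mulVec, sub_self,
            Matrix.mulVec_zero]
        rw [h, Submodule.mem_bot] at hvW
        exact hvW)) htop
      (fun x hxW hxp => by
        have hR : LinearMap.range (N ^ 3).mulVecLin = perp W := by
          refine Submodule.eq_of_le_of_finrank_le ?_ ?_
          · rintro _ ⟨y, rfl⟩
            refine mem_perp.2 fun w hw => ?_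
            rw [Matrix.mulVecLin_apply, pow_selfAdj hN, (hmemW w).1 hw, map_zero]
          · have h5 := LinearMap.finrank_range_add_finrank_ker (N ^ 3).mulVecLin
            have h6 := finrank_perp W
            rw [finrank_V, ← hW] at h5
            have aux : ∀ k p r : ℕ, p + k = 6 → r + k = 6 → p ≤ r := by omega
            exact aux _ _ _ h6 h5
        rw [← hR] at hxp
        obtain ⟨y, rfl⟩ := hxp
        have h7 : (N ^ 6) *ᵥ y = 0 := by
          rw [show (6 : ℕ) = 3 + 3 from rfl, pow_add, ← Matrix.mulVec_mulVec]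
          exact (hmemW _).1 hxW
        exact pow_three_of_pow hZ h2 κ h7)
      (fun x hx => by
        rw [hmemW] at hx ⊢
        have hc' : Commute (N ^ 3) (toMat F g) := by
          refine Commute.pow_left ?_ 3
          exact (((Commute.refl _).add_left (commute_inv g).symm).sub_left
            ((Commute.one_left _).smul_left κ))
        rw [Matrix.mulVec_mulVec, hc'.eq, ← Matrix.mulVec_mulVec, hx, Matrix.mulVec_zero])
    exact ⟨z, Or.inl hz⟩
  · push Not at heig
    obtain ⟨z, hz⟩ := conj_no_eigen hc (g := g) fun v κ h => by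
      by_contra h0
      exact heig v κ h0 h
    exact ⟨z, Or.inr hz⟩

end Cfsg.Agent.Lib.NormalCoverTwo.SympThree
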