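import Cfsg.Agent.Lib.NormalCoverTwo.Basic
import Cfsg.Agent.Lib.NormalCoverTwo.CubicModel
import Cfsg.Agent.Lib.Symplectic.Std

/-!
# Normal coverings by two subgroups: linear algebra for `PSp₆(3^a)`
-/

set_option autoImplicit false

namespace Cfsg.Agent.Lib.NormalCoverTwo.SympThree

open Polynomial Module Cfsg.Agent.Lib.Symplectic
open scoped Matrix

variable {F : Type*} [Field F]

/-- The underlying space of `Sp₆`. -/
abbrev V (F : Type*) := Fin 3 ⊕ Fin 3 → F

/-- Matrices on the underlying space. -/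
abbrev Mat (F : Type*) := Matrix (Fin 3 ⊕ Fin 3) (Fin 3 ⊕ Fin 3) F

theorem finrank_V : finrank F (V F) = 6 := by
  rw [Module.finrank_fintype_fun_eq_card]; rfl

theorem form_swap (x y : V F) : stdForm 3 F x y = -stdForm 3 F y x :=
  (isSympForm_stdForm 3 F).swap x y

theorem form_self (x : V F) : stdForm 3 F x x = 0 := (isSympForm_stdForm 3 F).self x

theorem eq_zero_of_form {x : V F} (h : ∀ y, stdForm 3 F x y = 0) : x = 0 :=
  (isSympForm_stdForm 3 F).nondeg x h

theorem eq_zero_of_form' {y : V F} (h : ∀ x, stdForm 3 F x y = 0) : y = 0 :=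
  eq_zero_of_form fun x => by rw [form_swap, h, neg_zero]

/-- The form as an isomorphism with the dual space. -/
noncomputable def formEquiv (F : Type*) [Field F] : V F ≃ₗ[F] Module.Dual F (V F) :=
  LinearEquiv.ofInjectiveOfFinrankEq (stdForm 3 F)
    (by
      rw [← LinearMap.ker_eq_bot, LinearMap.ker_eq_bot']
      exact fun x hx => eq_zero_of_form (LinearMap.congr_fun hx))
    Subspace.dual_finrank_eq.symm

theorem formEquiv_apply (x : V F) : formEquiv F x = stdForm 3 F x := rfl

/-- The orthogonal of a subspace. -/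
noncomputable def perp (W : Submodule F (V F)) : Submodule F (V F) :=
  W.dualAnnihilator.map (formEquiv F).symm.toLinearMap

theorem mem_perp {W : Submodule F (V F)} {x : V F} :
    x ∈ perp W ↔ ∀ w ∈ W, stdForm 3 F x w = 0 := by
  rw [perp, Submodule.mem_map]
  constructor
  · rintro ⟨φ, hφ, rfl⟩ w hw
    rw [← formEquiv_apply]
    show formEquiv F ((formEquiv F).symm φ) w = 0
    rw [LinearEquiv.apply_symm_apply]
    exact (Submodule.mem_dualAnnihilator φ).1 hφ w hw
  · intro h
    exact ⟨formEquiv F x, (Submodule.mem_dualAnnihilator _).2 h, (formEquiv F).symm_apply_apply x⟩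

theorem finrank_perp (W : Submodule F (V F)) : finrank F (perp W) + finrank F W = 6 := by
  rw [perp, LinearEquiv.finrank_map_eq, add_comm,
    Subspace.finrank_add_finrank_dualAnnihilator_eq, finrank_V]

theorem perp_perp (W : Submodule F (V F)) : perp (perp W) = W := by
  have hle : W ≤ perp (perp W) := fun w hw =>
    mem_perp.2 fun v hv => by rw [form_swap, mem_perp.1 hv w hw, neg_zero]
  refine (Submodule.eq_of_le_of_finrank_eq hle ?_).symm
  have h1 := finrank_perp W
  have h2 := finrank_perp (perp W)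
  omega

theorem exists_pair {ι : Type*} {b : ι → V F} (hb : LinearIndependent F b) (t : ι → F) :
    ∃ y, ∀ i, stdForm 3 F (b i) y = t i := by
  obtain ⟨φ, hφ⟩ := LinearMap.exists_extend ((Basis.span hb).constr F fun i => -t i)
  refine ⟨(formEquiv F).symm φ, fun i => ?_⟩
  rw [form_swap, ← formEquiv_apply, LinearEquiv.apply_symm_apply, neg_eq_iff_eq_neg]
  have h := LinearMap.congr_fun hφ (Basis.span hb i)
  rw [Module.Basis.constr_basis, LinearMap.comp_apply, Submodule.subtype_apply,
    Basis.span_apply] at h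
  exact h

/-- The matrix of an element of `Sp₆`. -/
def toMat (F : Type*) [Field F] : Matrix.symplecticGroup (Fin 3) F →* Mat F :=
  (Matrix.symplecticGroup (Fin 3) F).subtype

theorem toMat_form (g : Matrix.symplecticGroup (Fin 3) F) (x y : V F) :
    stdForm 3 F (toMat F g *ᵥ x) (toMat F g *ᵥ y) = stdForm 3 F x y := mem_sp_iff.1 g.2 x y

theorem toMat_inv (g : Matrix.symplecticGroup (Fin 3) F) (v : V F) :
    toMat F g⁻¹ *ᵥ (toMat F g *ᵥ v) = v := by
  rw [Matrix.mulVec_mulVec, ← map_mul, inv_mul_cancel, map_one, Matrix.one_mulVec]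

theorem toMat_inv' (g : Matrix.symplecticGroup (Fin 3) F) (v : V F) :
    toMat F g *ᵥ (toMat F g⁻¹ *ᵥ v) = v := by
  rw [Matrix.mulVec_mulVec, ← map_mul, mul_inv_cancel, map_one, Matrix.one_mulVec]

theorem toMat_adj (g : Matrix.symplecticGroup (Fin 3) F) (x y : V F) :
    stdForm 3 F (toMat F g *ᵥ x) y = stdForm 3 F x (toMat F g⁻¹ *ᵥ y) := by
  rw [← toMat_form g x (toMat F g⁻¹ *ᵥ y), toMat_inv']

/-- An element of `Sp₆` carrying a basis to a family with the same Gram matrix. -/
theorem exists_sp_of_gram {b c : Fin 3 ⊕ Fin 3 → V F} (hb : LinearIndependent F b)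
    (hg : ∀ i j, stdForm 3 F (b i) (b j) = stdForm 3 F (c i) (c j)) :
    ∃ T : Matrix.symplecticGroup (Fin 3) F, ∀ i, toMat F T *ᵥ b i = c i := by
  have hsp : Submodule.span F (Set.range b) = ⊤ :=
    hb.span_eq_top_of_card_eq_finrank' (by rw [finrank_V]; rfl)
  let B := Module.Basis.mk hb hsp.ge
  let L := B.constr F c
  have hB : ∀ i, B i = b i := fun i => by simp [B]
  have hL : ∀ i, LinearMap.toMatrix' L *ᵥ b i = c i := fun i => by
    rw [LinearMap.toMatrix'_mulVec, ← hB, Module.Basis.constr_basis]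
  refine ⟨⟨LinearMap.toMatrix' L, mem_sp_iff.2 fun x y => ?_⟩, hL⟩
  have heq : (stdForm 3 F).compl₁₂ (LinearMap.toMatrix' L).mulVecLin
      (LinearMap.toMatrix' L).mulVecLin = stdForm 3 F := by
    refine B.ext fun i => B.ext fun j => ?_
    rw [LinearMap.compl₁₂_apply, Matrix.mulVecLin_apply, Matrix.mulVecLin_apply, hB, hB, hL, hL, hg]
  exact LinearMap.congr_fun (LinearMap.congr_fun heq x) y

/-- The model vector `e`. -/
def mE (F : Type*) [Field F] : V F := Pi.single (Sum.inl 0) 1
/-- The model vector `f`. -/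
def mF (F : Type*) [Field F] : V F := Pi.single (Sum.inr 0) 1

theorem form_mF_mE : stdForm 3 F (mF F) (mE F) = 1 := by
  simp [stdForm_apply, mE, mF, Fin.sum_univ_three]

theorem form_mE_mF : stdForm 3 F (mE F) (mF F) = -1 := by rw [form_swap, form_mF_mE]

/-- The stabiliser of a nondegenerate plane. -/
def planeStab (F : Type*) [Field F] : Subgroup (Matrix.symplecticGroup (Fin 3) F) :=
  subStab (toMat F) (Submodule.span F {mF F, mE F})

theorem planeStab_ne_top : planeStab F ≠ ⊤ := by
  intro h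
  set e₁ : V F := Pi.single (Sum.inl 1) 1
  have h1 : stdForm 3 F (mF F) (mE F + e₁) = 1 := by
    rw [map_add, form_mF_mE]
    simp [stdForm_apply, mF, e₁, Fin.sum_univ_three]
  obtain ⟨T, -, hT⟩ := exists_sp_mulVec_pair (m := 3) (F := F)
    (by rw [← stdForm_eq_sympForm]; exact form_mF_mE) (by rw [← stdForm_eq_sympForm]; exact h1)
  have h2 := (mem_subStab_iff _ _ _).1 ((Subgroup.eq_top_iff' _).1 h T) (mE F)
    (Submodule.subset_span (by simp))
  rw [show toMat F T *ᵥ mE F = mE F + e₁ from hT, Submodule.mem_span_pair] at h2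
  obtain ⟨a, b, hab⟩ := h2
  simpa [mE, mF, e₁] using congrFun hab (Sum.inl 1)

theorem exists_conj_plane {g : Matrix.symplecticGroup (Fin 3) F} {v w : V F}
    (hvw : stdForm 3 F v w ≠ 0) (hgv : toMat F g *ᵥ v ∈ Submodule.span F {v, w})
    (hgw : toMat F g *ᵥ w ∈ Submodule.span F {v, w}) :
    ∃ x, x * g * x⁻¹ ∈ planeStab F := by
  set k := stdForm 3 F v w
  set w' := k⁻¹ • w with hw'
  have h1 : stdForm 3 F v w' = 1 := by rw [hw', map_smul, smul_eq_mul, inv_mul_cancel₀ hvw]
  obtain ⟨T, hTv, hTw⟩ := exists_sp_mulVec_pair (m := 3) (F := F)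
    (by rw [← stdForm_eq_sympForm]; exact h1) (by rw [← stdForm_eq_sympForm]; exact form_mF_mE)
  change toMat F T *ᵥ v = mF F at hTv
  change toMat F T *ᵥ w' = mE F at hTw
  have hmap : ∀ z ∈ Submodule.span F ({v, w} : Set (V F)),
      toMat F T *ᵥ z ∈ Submodule.span F {mF F, mE F} := by
    intro z hz
    obtain ⟨a, b, rfl⟩ := Submodule.mem_span_pair.1 hz
    have hw : w = k • w' := by rw [hw', smul_inv_smul₀ hvw]
    rw [hw, smul_smul, Matrix.mulVec_add, Matrix.mulVec_smul, Matrix.mulVec_smul, hTv, hTw]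
    exact Submodule.mem_span_pair.2 ⟨_, _, rfl⟩
  refine ⟨T, (mem_subStab_iff _ _ _).2 fun z hz => ?_⟩
  obtain ⟨a, b, rfl⟩ := Submodule.mem_span_pair.1 hz
  have h1' : toMat F T⁻¹ *ᵥ mF F = v := by rw [← hTv, toMat_inv]
  have h2' : toMat F T⁻¹ *ᵥ mE F = k⁻¹ • w := by rw [← hTw, toMat_inv, hw']
  rw [map_mul, map_mul, ← Matrix.mulVec_mulVec, ← Matrix.mulVec_mulVec, Matrix.mulVec_add,
    Matrix.mulVec_smul, Matrix.mulVec_smul, h1', h2', smul_smul, Matrix.mulVec_add,
    Matrix.mulVec_smul, Matrix.mulVec_smul]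
  exact hmap _ (Submodule.add_mem _ (Submodule.smul_mem _ a hgv)
    (Submodule.smul_mem _ (b * k⁻¹) hgw))

theorem plane_of_finrank_two {g : Matrix.symplecticGroup (Fin 3) F} {W : Submodule F (V F)}
    (hW : finrank F W = 2) (hnd : ∀ x ∈ W, x ∈ perp W → x = 0)
    (hgW : ∀ x ∈ W, toMat F g *ᵥ x ∈ W) : ∃ x, x * g * x⁻¹ ∈ planeStab F := by
  obtain ⟨v, hv, hv0⟩ := Submodule.exists_mem_ne_zero_of_ne_bot
    (show W ≠ ⊥ from fun h => by rw [h, finrank_bot] at hW; omega)
  obtain ⟨w, hw, hvw⟩ : ∃ w ∈ W, stdForm 3 F v w ≠ 0 := by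
    by_contra! h
    exact hv0 (hnd v hv (mem_perp.2 h))
  have hli : LinearIndependent F ![v, w] := by
    rw [LinearIndependent.pair_iff]
    intro a b hab
    have h1 := congrArg (fun z => stdForm 3 F v z) hab
    simp only [map_add, map_smul, form_self, smul_eq_mul, mul_zero, zero_add, map_zero] at h1
    obtain rfl := (mul_eq_zero.1 h1).resolve_right hvw
    simp only [zero_smul, add_zero, smul_eq_zero] at hab
    exact ⟨hab.resolve_right hv0, rfl⟩
  have hsp : Submodule.span F {v, w} = W := by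
    refine Submodule.eq_of_le_of_finrank_eq (Submodule.span_le.2 ?_) ?_
    · rintro z (rfl | rfl) <;> assumption
    · have h := finrank_span_eq_card hli
      rw [Matrix.range_cons_cons_empty, Fintype.card_fin] at h
      rw [h, hW]
  exact exists_conj_plane hvw (hsp ▸ hgW v hv) (hsp ▸ hgW w hw)

theorem even_finrank_of_nondeg {W : Submodule F (V F)} (hnd : ∀ x ∈ W, x ∈ perp W → x = 0) :
    finrank F W ≠ 1 ∧ finrank F W ≠ 3 := by
  constructor
  · intro h
    obtain ⟨v, hv, hv0⟩ := Submodule.exists_mem_ne_zero_of_ne_bot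
      (show W ≠ ⊥ from fun h' => by rw [h', finrank_bot] at h; omega)
    refine hv0 (hnd v hv (mem_perp.2 fun w hw => ?_))
    obtain ⟨a, ha⟩ := exists_smul_eq_of_finrank_eq_one h (x := ⟨v, hv⟩)
      (fun h' => hv0 (congrArg Subtype.val h')) ⟨w, hw⟩
    rw [show w = a • v from (congrArg Subtype.val ha).symm, map_smul, form_self, smul_zero]
  · intro h
    obtain ⟨v, hv, hv0⟩ := Submodule.exists_mem_ne_zero_of_ne_bot
      (show W ≠ ⊥ from fun h' => by rw [h', finrank_bot] at h; omega)
    obtain ⟨w, hw, hvw⟩ : ∃ w ∈ W, stdForm 3 F v w ≠ 0 := by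
      by_contra! h'
      exact hv0 (hnd v hv (mem_perp.2 h'))
    obtain ⟨p, hp, hp0⟩ : ∃ p ∈ W ⊓ perp (Submodule.span F {v, w}), p ≠ 0 := by
      refine Submodule.exists_mem_ne_zero_of_ne_bot fun hbot => ?_
      have h1 := Submodule.finrank_sup_add_finrank_inf_eq W (perp (Submodule.span F {v, w}))
      have h2 := finrank_perp (Submodule.span F ({v, w} : Set (V F)))
      have h3 : finrank F (Submodule.span F ({v, w} : Set (V F))) ≤ 2 := by
        have h5 := finrank_range_le_card (R := F) ![v, w]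
        rw [Matrix.range_cons_cons_empty, Fintype.card_fin] at h5
        exact h5
      have h4 := (W ⊔ perp (Submodule.span F {v, w})).finrank_le
      rw [finrank_V] at h4
      rw [hbot, finrank_bot] at h1
      omega
    obtain ⟨hpW, hpp⟩ := Submodule.mem_inf.1 hp
    have hpv := mem_perp.1 hpp v (Submodule.subset_span (by simp))
    have hpw := mem_perp.1 hpp w (Submodule.subset_span (by simp))
    have hli : LinearIndependent F ![v, w, p] := by
      rw [Fintype.linearIndependent_iff]
      intro d hd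
      simp only [Fin.sum_univ_three, Matrix.cons_val_zero, Matrix.cons_val_one,
        Matrix.cons_val_two, Matrix.head_cons, Matrix.tail_cons, Matrix.cons_val] at hd
      have h1 := congrArg (fun z => stdForm 3 F z w) hd
      have h2 := congrArg (fun z => stdForm 3 F z v) hd
      simp only [map_add, map_smul, LinearMap.add_apply, LinearMap.smul_apply, form_self, hpv,
        hpw, smul_eq_mul, mul_zero, add_zero, zero_add, map_zero, LinearMap.zero_apply] at h1 h2
      have d0 : d 0 = 0 := (mul_eq_zero.1 h1).resolve_right hvw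
      have d1 : d 1 = 0 := (mul_eq_zero.1 h2).resolve_right
        (by rw [form_swap]; exact neg_ne_zero.2 hvw)
      rw [d0, d1, zero_smul, zero_smul, zero_add, zero_add, smul_eq_zero] at hd
      intro i
      fin_cases i
      exacts [d0, d1, hd.resolve_right hp0]
    have hsp : Submodule.span F (Set.range ![v, w, p]) = W := by
      refine Submodule.eq_of_le_of_finrank_eq (Submodule.span_le.2 ?_) ?_
      · rintro z ⟨i, rfl⟩
        fin_cases i
        exacts [hv, hw, hpW]
      · rw [finrank_span_eq_card hli, h, Fintype.card_fin]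
    refine hp0 (hnd p hpW (mem_perp.2 fun z hz => ?_))
    rw [← hsp] at hz
    induction hz using Submodule.span_induction with
    | mem z hz =>
      obtain ⟨i, rfl⟩ := hz
      fin_cases i
      exacts [hpv, hpw, form_self p]
    | zero => exact map_zero _
    | add a b _ _ ha hb => rw [map_add, ha, hb, add_zero]
    | smul r a _ ha => rw [map_smul, ha, smul_zero]

/-- A proper nondegenerate invariant subspace gives an invariant nondegenerate plane. -/
theorem plane_of_nondeg {g : Matrix.symplecticGroup (Fin 3) F} {W : Submodule F (V F)}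
    (h0 : W ≠ ⊥) (htop : W ≠ ⊤) (hnd : ∀ x ∈ W, x ∈ perp W → x = 0)
    (hgW : ∀ x ∈ W, toMat F g *ᵥ x ∈ W) : ∃ x, x * g * x⁻¹ ∈ planeStab F := by
  have hnd' : ∀ x ∈ perp W, x ∈ perp (perp W) → x = 0 := fun x hx hx' =>
    hnd x (by rwa [perp_perp] at hx') hx
  have hgW' : ∀ x ∈ perp W, toMat F g *ᵥ x ∈ perp W := by
    intro x hx
    refine mem_perp.2 fun w hw => ?_
    obtain ⟨y, hy, rfl⟩ : ∃ y ∈ W, toMat F g *ᵥ y = w := by
      have hinj : Function.Injective ((toMat F g).mulVecLin.restrict hgW) := fun a b hab => by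
        have h1 : toMat F g *ᵥ (a : V F) = toMat F g *ᵥ (b : V F) := congrArg Subtype.val hab
        have h2 := congrArg (fun z => toMat F g⁻¹ *ᵥ z) h1
        simp only [toMat_inv] at h2
        exact Subtype.ext h2
      obtain ⟨y, hy⟩ := LinearMap.injective_iff_surjective.1 hinj ⟨w, hw⟩
      exact ⟨y, y.2, congrArg Subtype.val hy⟩
    rw [toMat_form]
    exact mem_perp.1 hx y hy
  have e1 := even_finrank_of_nondeg hnd
  have e2 := even_finrank_of_nondeg hnd'
  have h := finrank_perp W
  have hb : finrank F W ≠ 0 := fun h' => h0 (Submodule.finrank_eq_zero.1 h')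
  have ht : finrank F W ≠ 6 := fun h' =>
    htop (Submodule.eq_top_of_finrank_eq (by rw [h', finrank_V]))
  obtain h2 | h4 : finrank F W = 2 ∨ finrank F (perp W) = 2 := by omega
  · exact plane_of_finrank_two h2 hnd hgW
  · exact plane_of_finrank_two h4 hnd' hgW'

/-- Totally isotropic families have at most three independent members. -/
theorem card_le_three_of_isotropic {k : ℕ} {b : Fin k → V F} (hb : LinearIndependent F b)
    (hiso : ∀ i j, stdForm 3 F (b i) (b j) = 0) : k ≤ 3 := by
  have hle : Submodule.span F (Set.range b) ≤ perp (Submodule.span F (Set.range b)) := by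
    refine Submodule.span_le.2 ?_
    rintro _ ⟨i, rfl⟩
    refine mem_perp.2 fun w hw => ?_
    induction hw using Submodule.span_induction with
    | mem z hz =>
      obtain ⟨j, rfl⟩ := hz
      exact hiso i j
    | zero => exact map_zero _
    | add a c _ _ ha hc => rw [map_add, ha, hc, add_zero]
    | smul r a _ ha => rw [map_smul, ha, smul_zero]
  have h1 := Submodule.finrank_mono hle
  have h2 := finrank_perp (Submodule.span F (Set.range b))
  rw [finrank_span_eq_card hb, Fintype.card_fin] at h1 h2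
  omega

variable {Z : Mat F} (hZ : ∀ x y, stdForm 3 F (Z *ᵥ x) y = stdForm 3 F x (Z *ᵥ y))
include hZ

theorem pow_selfAdj (k : ℕ) (x y : V F) :
    stdForm 3 F ((Z ^ k) *ᵥ x) y = stdForm 3 F x ((Z ^ k) *ᵥ y) := by
  induction k generalizing x y with
  | zero => simp
  | succ k ih =>
    rw [pow_succ, ← Matrix.mulVec_mulVec, ih, hZ, Matrix.mulVec_mulVec, ← pow_succ', pow_succ]

theorem aeval_selfAdj (p : F[X]) (x y : V F) :
    stdForm 3 F (aeval Z p *ᵥ x) y = stdForm 3 F x (aeval Z p *ᵥ y) := by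
  induction p using Polynomial.induction_on' with
  | add a b ha hb =>
    rw [map_add, Matrix.add_mulVec, Matrix.add_mulVec, map_add, LinearMap.add_apply, map_add, ha, hb]
  | monomial k a =>
    rw [← C_mul_X_pow_eq_monomial, map_mul, aeval_C, aeval_X_pow, ← Algebra.smul_def,
      Matrix.smul_mulVec, Matrix.smul_mulVec, map_smul, LinearMap.smul_apply, map_smul,
      pow_selfAdj hZ]

theorem form_aeval_self (h2 : (2 : F) ≠ 0) (p : F[X]) (x : V F) :
    stdForm 3 F x (aeval Z p *ᵥ x) = 0 := by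
  have h := aeval_selfAdj hZ p x x
  rw [form_swap] at h
  have h' : 2 * stdForm 3 F x (aeval Z p *ᵥ x) = 0 := by linear_combination -h
  exact (mul_eq_zero.1 h').resolve_left h2

/-- Every vector is killed by a monic polynomial of degree at most three dividing every
polynomial killing it. -/
theorem exists_order (h2 : (2 : F) ≠ 0) (v : V F) :
    ∃ p : F[X], p.Monic ∧ p.natDegree ≤ 3 ∧ aeval Z p *ᵥ v = 0 ∧
      ∀ r : F[X], aeval Z r *ᵥ v = 0 → p ∣ r := by
  classical
  have hdep : ¬ LinearIndependent F fun i : Fin 4 => (Z ^ (i : ℕ)) *ᵥ v := by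
    intro hli
    have h := card_le_three_of_isotropic hli fun i j => by
      have e := form_aeval_self hZ h2 (X ^ ((i : ℕ) + (j : ℕ))) v
      rw [pow_selfAdj hZ, Matrix.mulVec_mulVec, ← pow_add]
      simpa using e
    omega
  obtain ⟨d, hd, i₀, hi₀⟩ := Fintype.not_linearIndependent_iff.1 hdep
  set r₀ : F[X] := ∑ i : Fin 4, C (d i) * X ^ (i : ℕ) with hr₀
  have hr0v : aeval Z r₀ *ᵥ v = 0 := by
    rw [← hd, hr₀, map_sum, Matrix.sum_mulVec]
    refine Finset.sum_congr rfl fun i _ => ?_
    rw [map_mul, aeval_C, aeval_X_pow, ← Algebra.smul_def, Matrix.smul_mulVec]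
  have hr0 : r₀ ≠ 0 := by
    intro h
    apply hi₀
    have h1 := congrArg (fun p : F[X] => p.coeff (i₀ : ℕ)) h
    simp only [hr₀, finsetSum_coeff, coeff_C_mul_X_pow, coeff_zero] at h1
    rw [Finset.sum_eq_single i₀] at h1
    · simpa using h1
    · intro j _ hj
      rw [if_neg fun h' => hj (Fin.ext h'.symm)]
    · simp
  have hdeg : r₀.natDegree ≤ 3 := by
    rw [hr₀]
    refine natDegree_sum_le_of_forall_le _ _ fun i _ => (natDegree_C_mul_X_pow_le _ _).trans ?_
    omega
  let I : Ideal F[X] :=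
    { carrier := {r | aeval Z r *ᵥ v = 0}
      zero_mem' := by simp
      add_mem' := fun {a b} ha hb => by
        show aeval Z (a + b) *ᵥ v = 0
        rw [map_add, Matrix.add_mulVec, ha, hb, add_zero]
      smul_mem' := fun a b hb => by
        show aeval Z (a * b) *ᵥ v = 0
        rw [map_mul, ← Matrix.mulVec_mulVec, hb, Matrix.mulVec_zero] }
  obtain ⟨g, hg⟩ : ∃ g, I = Ideal.span {g} :=
    ⟨Submodule.IsPrincipal.generator I, (Ideal.span_singleton_generator I).symm⟩
  have hg0 : g ≠ 0 := by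
    intro h
    have h1 : r₀ ∈ I := hr0v
    rw [hg, h, Ideal.mem_span_singleton, zero_dvd_iff] at h1
    exact hr0 h1
  have hgI : g ∈ I := by rw [hg]; exact Ideal.mem_span_singleton_self g
  refine ⟨normalize g, monic_normalize hg0, ?_, ?_, fun r hr => ?_⟩
  · refine (natDegree_le_of_dvd ?_ hr0).trans hdeg
    rw [normalize_dvd_iff, ← Ideal.mem_span_singleton, ← hg]
    exact hr0v
  · have h1 : normalize g ∈ I := by
      rw [hg, Ideal.mem_span_singleton]
      exact (associated_normalize g).dvd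
    exact h1
  · rw [normalize_dvd_iff, ← Ideal.mem_span_singleton, ← hg]
    exact hr

theorem pow_three_of_pow (h2 : (2 : F) ≠ 0) (c : F) {k : ℕ} {v : V F}
    (h : ((Z - c • 1) ^ k) *ᵥ v = 0) : ((Z - c • 1) ^ 3) *ᵥ v = 0 := by
  have he : ∀ j : ℕ, aeval Z ((X - C c) ^ j) = (Z - c • 1) ^ j := fun j => by
    rw [map_pow, map_sub, aeval_X, aeval_C, Algebra.algebraMap_eq_smul_one]
  obtain ⟨p, hpm, hp3, hpv, hdvd⟩ := exists_order hZ h2 v
  obtain ⟨j, -, hj⟩ := (dvd_prime_pow (prime_X_sub_C c) k).1 (hdvd _ (by rw [he]; exact h))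
  have hpj := eq_of_monic_of_associated hpm ((monic_X_sub_C c).pow j) hj
  rw [hpj, natDegree_pow, natDegree_X_sub_C, mul_one] at hp3
  rw [hpj, he] at hpv
  rw [← pow_sub_mul_pow _ hp3, ← Matrix.mulVec_mulVec, hpv, Matrix.mulVec_zero]

end Cfsg.Agent.Lib.NormalCoverTwo.SympThree
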