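import Cfsg.Agent.Lib.NormalCoverTwo.SympThreeBase

/-!
# Normal coverings by two subgroups: the shift stabiliser in `Sp₆(3^a)`
-/

set_option autoImplicit false

namespace Cfsg.Agent.Lib.NormalCoverTwo.SympThree

open Module Cfsg.Agent.Lib.Symplectic
open scoped Matrix

variable {F : Type*} [Field F]

/-- The doubled cubic model. -/
def mD (c : F) : Mat F := Matrix.fromBlocks (cubicM c) 0 0 (cubicM c)

theorem mD_adj (c : F) (x y : V F) :
    stdForm 3 F (mD c *ᵥ x) y = stdForm 3 F x (mD c *ᵥ y) := by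
  simp [stdForm_apply, mD, cubicM, Matrix.fromBlocks_mulVec, Matrix.mulVec, dotProduct,
    Fin.sum_univ_three]
  ring

/-- The shift stabiliser. -/
def cubicStab (c : F) : Subgroup (Matrix.symplecticGroup (Fin 3) F) := shiftStab (toMat F) (mD c)

theorem exists_conj_cubicStab {c : F} {g : Matrix.symplecticGroup (Fin 3) F}
    (T : Matrix.symplecticGroup (Fin 3) F) (G : Mat F)
    (hG : ∀ i, toMat F g *ᵥ (toMat F T *ᵥ Pi.single i 1) = toMat F T *ᵥ (G *ᵥ Pi.single i 1))
    (k : ℤ) (hk : G * mD c = (mD c + (k : Mat F)) * G) :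
    ∃ x, x * g * x⁻¹ ∈ cubicStab c := by
  refine ⟨T⁻¹, k, ?_⟩
  have hTG : toMat F (T⁻¹ * g * T⁻¹⁻¹) = G := by
    refine Matrix.ext_of_mulVec_single fun i => ?_
    rw [inv_inv, map_mul, map_mul, ← Matrix.mulVec_mulVec, ← Matrix.mulVec_mulVec, hG, toMat_inv]
  rw [hTG]
  exact hk

theorem model_shift (h3 : (3 : F) = 0) (c p q r s : F) :
    Matrix.fromBlocks (p • cycP F) (q • cycP F) (r • cycP F) (s • cycP F) * mD c =
      (mD c + ((1 : ℤ) : Mat F)) *
        Matrix.fromBlocks (p • cycP F) (q • cycP F) (r • cycP F) (s • cycP F) := by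
  rw [Int.cast_one, mD, ← Matrix.fromBlocks_one, Matrix.fromBlocks_add, Matrix.fromBlocks_multiply,
    Matrix.fromBlocks_multiply]
  simp only [Matrix.smul_mul, Matrix.mul_smul, cycP_shift h3, zero_add, add_zero, Matrix.mul_zero,
    Matrix.zero_mul, smul_zero]

theorem mem_cubicStab_of_scalar {c : F} {g : Matrix.symplecticGroup (Fin 3) F} {l : F}
    (h : toMat F g = l • 1) : g ∈ cubicStab c :=
  mem_shiftStab_of_commute _ _ (by rw [h]; exact (Commute.one_left _).smul_left l)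

theorem cubicStab_ne_top (h3 : (3 : F) = 0) {c : F} (hc : c ≠ 0) : cubicStab c ≠ ⊤ := by
  intro h
  obtain ⟨k, hk⟩ := (Subgroup.eq_top_iff' _).1 h
    ((spEquiv 3 F).symm (transv (isSympForm_stdForm 3 F) (mE F) 1))
  have h1 := congrArg (fun A : Mat F => A *ᵥ mF F) hk
  simp only [← Matrix.mulVec_mulVec] at h1
  rw [show ((k : ℤ) : Mat F) = (k : F) • (1 : Mat F) by
      rw [Int.cast_smul_eq_zsmul, zsmul_one]] at h1
  change ((spEquiv 3 F).symm _ : Mat F) *ᵥ _ = _ *ᵥ (((spEquiv 3 F).symm _ : Mat F) *ᵥ _) at h1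
  rw [spEquiv_symm_mulVec, spEquiv_symm_mulVec, transv_smul, transv_smul] at h1
  have h2 := congrFun h1 (Sum.inl 1)
  simp [mD, mE, mF, cubicM, Matrix.fromBlocks_mulVec, Matrix.mulVec, dotProduct, stdForm_apply,
    Fin.sum_univ_three, Matrix.fromBlocks, Matrix.one_apply] at h2
  exact hc h2.symm

end Cfsg.Agent.Lib.NormalCoverTwo.SympThree
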