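import Cfsg.Agent.Lib.NormalCoverTwo.SympThreeUni

/-!
# Normal coverings by two subgroups: regular unipotent elements of `Sp₆(3^a)`
-/

set_option autoImplicit false

namespace Cfsg.Agent.Lib.NormalCoverTwo.SympThree

open Module Cfsg.Agent.Lib.Symplectic
open scoped Matrix

variable {F : Type*} [Field F]

/-- The self-adjoint part of a unipotent element. -/
def zOf (u : Matrix.symplecticGroup (Fin 3) F) : Mat F := toMat F u + toMat F u⁻¹ - 2

/-- The skew part of a unipotent element. -/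
def dOf (u : Matrix.symplecticGroup (Fin 3) F) : Mat F := toMat F u - toMat F u⁻¹

theorem toMat_mul_inv (u : Matrix.symplecticGroup (Fin 3) F) : toMat F u * toMat F u⁻¹ = 1 := by
  rw [← map_mul, mul_inv_cancel, map_one]

theorem toMat_inv_mul (u : Matrix.symplecticGroup (Fin 3) F) : toMat F u⁻¹ * toMat F u = 1 := by
  rw [← map_mul, inv_mul_cancel, map_one]

theorem commute_inv (u : Matrix.symplecticGroup (Fin 3) F) :
    Commute (toMat F u) (toMat F u⁻¹) :=
  (toMat_mul_inv u).trans (toMat_inv_mul u).symm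

theorem toMat_adj' (u : Matrix.symplecticGroup (Fin 3) F) (x y : V F) :
    stdForm 3 F (toMat F u⁻¹ *ᵥ x) y = stdForm 3 F x (toMat F u *ᵥ y) := by
  rw [toMat_adj, inv_inv]

theorem two_mulVec (x : V F) : (2 : Mat F) *ᵥ x = (2 : F) • x := by
  rw [show (2 : Mat F) = 1 + 1 from (one_add_one_eq_two).symm, Matrix.add_mulVec,
    Matrix.one_mulVec, two_smul]

theorem zOf_adj (u : Matrix.symplecticGroup (Fin 3) F) (x y : V F) :
    stdForm 3 F (zOf u *ᵥ x) y = stdForm 3 F x (zOf u *ᵥ y) := by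
  simp only [zOf, Matrix.sub_mulVec, Matrix.add_mulVec, two_mulVec, map_sub, map_add, map_smul,
    LinearMap.sub_apply, LinearMap.add_apply, LinearMap.smul_apply, toMat_adj, inv_inv]
  ring

theorem dOf_adj (u : Matrix.symplecticGroup (Fin 3) F) (x y : V F) :
    stdForm 3 F (dOf u *ᵥ x) y = -stdForm 3 F x (dOf u *ᵥ y) := by
  simp only [dOf, Matrix.sub_mulVec, map_sub, LinearMap.sub_apply, toMat_adj, inv_inv]
  ring

theorem commute_z_d (u : Matrix.symplecticGroup (Fin 3) F) : Commute (zOf u) (dOf u) := by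
  have h := commute_inv u
  unfold zOf dOf
  exact ((((Commute.refl _).sub_right h).add_left (h.symm.sub_right (Commute.refl _))).sub_left
    ((Nat.cast_commute 2 _).trans rfl))

theorem d_sq (u : Matrix.symplecticGroup (Fin 3) F) :
    dOf u * dOf u = zOf u * zOf u + 4 * zOf u := by
  have h1 := toMat_mul_inv u
  have h2 := toMat_inv_mul u
  unfold zOf dOf
  generalize toMat F u = A at h1 h2 ⊢
  generalize toMat F u⁻¹ = B at h1 h2 ⊢
  rw [show (4 : Mat F) = 1 + 1 + (1 + 1) by norm_num,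
    show (2 : Mat F) = 1 + 1 from (one_add_one_eq_two).symm]
  simp only [mul_add, add_mul, mul_sub, sub_mul, one_mul, mul_one, h1, h2]
  abel

theorem two_u (u : Matrix.symplecticGroup (Fin 3) F) :
    2 * toMat F u = 2 + zOf u + dOf u := by
  unfold zOf dOf
  generalize toMat F u = A
  generalize toMat F u⁻¹ = B
  noncomm_ring

theorem z_eq (u : Matrix.symplecticGroup (Fin 3) F) :
    zOf u = (toMat F u - 1) ^ 2 * toMat F u⁻¹ := by
  have h1 := toMat_mul_inv u
  unfold zOf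
  generalize toMat F u = A at h1 ⊢
  generalize toMat F u⁻¹ = B at h1 ⊢
  rw [sq, show (2 : Mat F) = 1 + 1 from (one_add_one_eq_two).symm]
  simp only [mul_sub, sub_mul, one_mul, mul_one, mul_assoc, h1]
  abel

theorem z_cube {u : Matrix.symplecticGroup (Fin 3) F} (h6 : (toMat F u - 1) ^ 6 = 0) :
    zOf u * (zOf u * zOf u) = 0 := by
  have hc : Commute ((toMat F u - 1) ^ 2) (toMat F u⁻¹) :=
    ((commute_inv u).sub_left (Commute.one_left _)).pow_left 2
  rw [← pow_three, z_eq, hc.mul_pow, ← pow_mul, h6, zero_mul]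

theorem dz_sq {u : Matrix.symplecticGroup (Fin 3) F} (h6 : (toMat F u - 1) ^ 6 = 0) :
    dOf u * (zOf u * zOf u) = 2 * (toMat F u - 1) ^ 5 := by
  have hc : Commute (toMat F u - 1) (toMat F u⁻¹) :=
    (commute_inv u).sub_left (Commute.one_left _)
  have h1 := toMat_inv_mul u
  set B := toMat F u⁻¹ with hB
  set N := toMat F u - 1 with hN
  have hd : dOf u = N * (1 + B) := by
    rw [dOf, hN, sub_mul, mul_add, mul_add, toMat_mul_inv, one_mul, one_mul, mul_one]
    abel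
  have hNB : N ^ 5 * B = N ^ 5 := by
    have : N ^ 6 * B = N ^ 5 - N ^ 5 * B := by
      have h7 : N * B = 1 - B := by rw [hN, sub_mul, toMat_mul_inv, one_mul]
      rw [pow_succ, mul_assoc, h7, mul_sub, mul_one]
    rw [h6, zero_mul] at this
    exact (sub_eq_zero.1 this.symm).symm
  rw [← sq, z_eq, ← hB, ← hN, (hc.pow_left 2).mul_pow, hd, ← pow_mul,
    mul_assoc, ← mul_assoc (1 + B), ((Commute.one_left _).add_left (hc.symm.pow_right _)).eq,
    mul_assoc, ← mul_assoc N, ← pow_succ', add_mul, one_mul, mul_add, ← mul_assoc, hNB,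
    sq, ← mul_assoc, hNB, hNB, two_mul]

theorem conj_of_regular (h2 : (2 : F) ≠ 0) {u u' : Matrix.symplecticGroup (Fin 3) F}
    (h6 : (toMat F u - 1) ^ 6 = 0) (h6' : (toMat F u' - 1) ^ 6 = 0) {v v' : V F}
    (hv : stdForm 3 F v ((toMat F u - 1) ^ 5 *ᵥ v) ≠ 0)
    (he : stdForm 3 F v ((toMat F u - 1) ^ 5 *ᵥ v) = stdForm 3 F v' ((toMat F u' - 1) ^ 5 *ᵥ v')) :
    ∃ T : Matrix.symplecticGroup (Fin 3) F,
      ∀ x, toMat F u *ᵥ (toMat F T *ᵥ x) = toMat F T *ᵥ (toMat F u' *ᵥ x) := by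
  set μ := 2 * stdForm 3 F v ((toMat F u - 1) ^ 5 *ᵥ v) with hμ
  have hμ0 : μ ≠ 0 := mul_ne_zero h2 hv
  -- a normalised basis
  have key : ∀ (w : Matrix.symplecticGroup (Fin 3) F) (a : V F), (toMat F w - 1) ^ 6 = 0 →
      2 * stdForm 3 F a ((toMat F w - 1) ^ 5 *ᵥ a) = μ →
      ∃ x : V F, stdForm 3 F x (dOf w *ᵥ x) = 0 ∧
        stdForm 3 F x (dOf w *ᵥ (zOf w *ᵥ x)) = 0 ∧
        stdForm 3 F x (dOf w *ᵥ (zOf w *ᵥ (zOf w *ᵥ x))) = μ := by
    intro w a hw6 ha
    set Z := zOf w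
    set D := dOf w
    have hZ3 : ∀ y, Z *ᵥ (Z *ᵥ (Z *ᵥ y)) = 0 := fun y => by
      rw [Matrix.mulVec_mulVec, Matrix.mulVec_mulVec, mul_assoc, z_cube hw6, Matrix.zero_mulVec]
    have hZD : ∀ y, D *ᵥ (Z *ᵥ y) = Z *ᵥ (D *ᵥ y) := fun y => by
      rw [Matrix.mulVec_mulVec, Matrix.mulVec_mulVec, (commute_z_d w).eq]
    have hZa : ∀ y y', stdForm 3 F (Z *ᵥ y) y' = stdForm 3 F y (Z *ᵥ y') := zOf_adj w
    set e0 := stdForm 3 F a (D *ᵥ a) with he0
    set e1 := stdForm 3 F a (Z *ᵥ (D *ᵥ a)) with he1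
    have he2 : stdForm 3 F a (Z *ᵥ (Z *ᵥ (D *ᵥ a))) = μ := by
      rw [← hZD, ← hZD, Matrix.mulVec_mulVec, Matrix.mulVec_mulVec, mul_assoc, dz_sq hw6,
        ← Matrix.mulVec_mulVec, two_mulVec, map_smul, smul_eq_mul, ha]
    obtain ⟨p, hp⟩ : ∃ p : F, e1 + 2 * p * μ = 0 := ⟨-e1 / (2 * μ), by field_simp; ring⟩
    obtain ⟨r, hr⟩ : ∃ r : F, e0 + 2 * p * e1 + (p ^ 2 + 2 * r) * μ = 0 :=
      ⟨-(e0 + 2 * p * e1 + p ^ 2 * μ) / (2 * μ), by field_simp; ring⟩
    refine ⟨a + p • (Z *ᵥ a) + r • (Z *ᵥ (Z *ᵥ a)), ?_, ?_, ?_⟩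
    · simp only [Matrix.mulVec_add, Matrix.mulVec_smul, map_add, map_smul, LinearMap.add_apply,
        LinearMap.smul_apply, smul_eq_mul, hZD, hZa, hZ3, map_zero, ← he0, ← he1, he2,
        Matrix.mulVec_zero]
      linear_combination hr
    · simp only [Matrix.mulVec_add, Matrix.mulVec_smul, map_add, map_smul, LinearMap.add_apply,
        LinearMap.smul_apply, smul_eq_mul, hZD, hZa, hZ3, map_zero, ← he0, ← he1, he2,
        Matrix.mulVec_zero]
      linear_combination hp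
    · simp only [Matrix.mulVec_add, Matrix.mulVec_smul, map_add, map_smul, LinearMap.add_apply,
        LinearMap.smul_apply, smul_eq_mul, hZD, hZa, hZ3, map_zero, he2, Matrix.mulVec_zero]
      ring
  obtain ⟨x, hx0, hx1, hx2⟩ := key u v h6 rfl
  obtain ⟨x', hx0', hx1', hx2'⟩ := key u' v' h6' (by rw [← he])
  let bas : Matrix.symplecticGroup (Fin 3) F → V F → Fin 3 ⊕ Fin 3 → V F := fun w a =>
    Sum.elim ![a, zOf w *ᵥ a, zOf w *ᵥ (zOf w *ᵥ a)]
      ![dOf w *ᵥ a, dOf w *ᵥ (zOf w *ᵥ a), dOf w *ᵥ (zOf w *ᵥ (zOf w *ᵥ a))]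
  let E : Fin 3 → Fin 3 → F := ![![0, 0, μ], ![0, μ, 0], ![μ, 0, 0]]
  let gram : Fin 3 ⊕ Fin 3 → Fin 3 ⊕ Fin 3 → F := fun i j =>
    Sum.elim (fun a => Sum.elim (fun _ => 0) (fun b => E a b) j)
      (fun a => Sum.elim (fun b => -E a b) (fun _ => 0) j) i
  have hgram : ∀ (w : Matrix.symplecticGroup (Fin 3) F) (a : V F), (toMat F w - 1) ^ 6 = 0 →
      stdForm 3 F a (dOf w *ᵥ a) = 0 → stdForm 3 F a (dOf w *ᵥ (zOf w *ᵥ a)) = 0 →
      stdForm 3 F a (dOf w *ᵥ (zOf w *ᵥ (zOf w *ᵥ a))) = μ →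
      ∀ i j, stdForm 3 F (bas w a i) (bas w a j) = gram i j := by
    intro w a hw6 k0 k1 k2
    set Z := zOf w with hZ
    set D := dOf w with hD
    have hZ3 : ∀ y, Z *ᵥ (Z *ᵥ (Z *ᵥ y)) = 0 := fun y => by
      rw [Matrix.mulVec_mulVec, Matrix.mulVec_mulVec, mul_assoc, z_cube hw6, Matrix.zero_mulVec]
    have hZD : ∀ y, D *ᵥ (Z *ᵥ y) = Z *ᵥ (D *ᵥ y) := fun y => by
      rw [Matrix.mulVec_mulVec, Matrix.mulVec_mulVec, (commute_z_d w).eq]
    have hZa : ∀ y y', stdForm 3 F (Z *ᵥ y) y' = stdForm 3 F y (Z *ᵥ y') := zOf_adj w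
    have hDa : ∀ y y', stdForm 3 F (D *ᵥ y) y' = -stdForm 3 F y (D *ᵥ y') := dOf_adj w
    have hDD : ∀ y, D *ᵥ (D *ᵥ y) = Z *ᵥ (Z *ᵥ y) + (4 : F) • (Z *ᵥ y) := fun y => by
      rw [Matrix.mulVec_mulVec, d_sq, Matrix.add_mulVec, Matrix.mulVec_mulVec,
        ← Matrix.mulVec_mulVec _ (4 : Mat F), show (4 : Mat F) = 2 + 2 by norm_num,
        Matrix.add_mulVec, two_mulVec, ← add_smul]
      norm_num [hZ]
    rw [hZD] at k1
    rw [hZD, hZD] at k2
    have z1 := form_aeval_self (zOf_adj w) h2 Polynomial.X a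
    have z2 := form_aeval_self (zOf_adj w) h2 (Polynomial.X * Polynomial.X) a
    rw [Polynomial.aeval_X, ← hZ] at z1
    rw [map_mul, Polynomial.aeval_X, ← Matrix.mulVec_mulVec, ← hZ] at z2
    intro i j
    rcases i with i | i <;> rcases j with j | j <;> fin_cases i <;> fin_cases j <;>
      simp [bas, gram, E, hZD, hZa, hDa, hDD, hZ3, k0, k1, k2, z1, z2, form_self, ← hZ, ← hD,
        Matrix.mulVec_add, Matrix.mulVec_smul, -Matrix.mulVec_mulVec]
  have hg := hgram u x h6 hx0 hx1 hx2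
  have hg' := hgram u' x' h6' hx0' hx1' hx2'
  have hli : LinearIndependent F (bas u' x') := by
    rw [Fintype.linearIndependent_iff]
    intro d hd
    have hp : ∀ j, ∑ i, d i * gram i j = 0 := fun j => by
      have := congrArg (fun y => stdForm 3 F y (bas u' x' j)) hd
      simpa [hg'] using this
    have q0 := hp (Sum.inr 0)
    have q1 := hp (Sum.inr 1)
    have q2 := hp (Sum.inr 2)
    have p0 := hp (Sum.inl 0)
    have p1 := hp (Sum.inl 1)
    have p2 := hp (Sum.inl 2)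
    simp [gram, E, Fin.sum_univ_three, hμ0] at q0 q1 q2 p0 p1 p2
    rintro (i | i) <;> fin_cases i <;> assumption
  obtain ⟨T, hT⟩ := exists_sp_of_gram hli (c := bas u x) (fun i j => by rw [hg, hg'])
  refine ⟨T, ?_⟩
  -- both sides are linear; compare on the basis
  have hcomm : ∀ i, toMat F u *ᵥ bas u x i = toMat F T *ᵥ (toMat F u' *ᵥ bas u' x' i) := by
    have hact : ∀ (w : Matrix.symplecticGroup (Fin 3) F) (a : V F), (toMat F w - 1) ^ 6 = 0 →
        ∀ i, (2 : F) • (toMat F w *ᵥ bas w a i) =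
          Sum.elim ![(2 : F) • bas w a (.inl 0) + bas w a (.inl 1) + bas w a (.inr 0),
            (2 : F) • bas w a (.inl 1) + bas w a (.inl 2) + bas w a (.inr 1),
            (2 : F) • bas w a (.inl 2) + bas w a (.inr 2)]
          ![(2 : F) • bas w a (.inr 0) + bas w a (.inr 1) + (bas w a (.inl 2) + (4 : F) • bas w a (.inl 1)),
            (2 : F) • bas w a (.inr 1) + bas w a (.inr 2) + (4 : F) • bas w a (.inl 2),
            (2 : F) • bas w a (.inr 2)] i := by
      intro w a hw6 i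
      set Z := zOf w with hZ
      set D := dOf w with hD
      have hZ3 : ∀ y, Z *ᵥ (Z *ᵥ (Z *ᵥ y)) = 0 := fun y => by
        rw [Matrix.mulVec_mulVec, Matrix.mulVec_mulVec, mul_assoc, z_cube hw6, Matrix.zero_mulVec]
      have hZD : ∀ y, D *ᵥ (Z *ᵥ y) = Z *ᵥ (D *ᵥ y) := fun y => by
        rw [Matrix.mulVec_mulVec, Matrix.mulVec_mulVec, (commute_z_d w).eq]
      have hDD : ∀ y, D *ᵥ (D *ᵥ y) = Z *ᵥ (Z *ᵥ y) + (4 : F) • (Z *ᵥ y) := fun y => by
        rw [Matrix.mulVec_mulVec, d_sq, Matrix.add_mulVec, Matrix.mulVec_mulVec,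
          ← Matrix.mulVec_mulVec _ (4 : Mat F), show (4 : Mat F) = 2 + 2 by norm_num,
          Matrix.add_mulVec, two_mulVec, ← add_smul]
        norm_num [hZ]
      rw [← two_mulVec, Matrix.mulVec_mulVec, two_u, Matrix.add_mulVec, Matrix.add_mulVec,
        two_mulVec, ← hZ, ← hD]
      rcases i with i | i <;> fin_cases i <;>
        simp [bas, hZD, hDD, hZ3, ← hZ, ← hD, Matrix.mulVec_add, Matrix.mulVec_smul,
          -Matrix.mulVec_mulVec]
    intro i
    apply smul_right_injective _ h2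
    show (2 : F) • _ = (2 : F) • _
    rw [hact u x h6 i, ← Matrix.mulVec_smul, hact u' x' h6' i]
    rcases i with i | i <;> fin_cases i <;>
      simp [Matrix.mulVec_add, Matrix.mulVec_smul, hT]
  intro y
  have hsp : Submodule.span F (Set.range (bas u' x')) = ⊤ :=
    hli.span_eq_top_of_card_eq_finrank' (by rw [finrank_V]; rfl)
  obtain ⟨d, rfl⟩ := (Submodule.mem_span_range_iff_exists_fun F).1 (hsp ▸ Submodule.mem_top (x := y))
  simp only [Matrix.mulVec_sum, Matrix.mulVec_smul, hT, hcomm]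

theorem cubicM_sq_symm (c : F) (i j : Fin 3) :
    (cubicM c * cubicM c) i j = (cubicM c * cubicM c) j i := by
  fin_cases i <;> fin_cases j <;> simp [cubicM, Matrix.mul_apply, Fin.sum_univ_three] <;> ring

/-- The regular unipotent case. -/
theorem conj_regular_case [CharP F 3] {c e : F} {g u : Matrix.symplecticGroup (Fin 3) F}
    (hg : toMat F g = e • toMat F u) (h6 : (toMat F u - 1) ^ 6 = 0)
    (h5 : ∃ v, stdForm 3 F v ((toMat F u - 1) ^ 5 *ᵥ v) ≠ 0) :
    ∃ z, z * g * z⁻¹ ∈ cubicStab c := by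
  haveI : Fact (Nat.Prime 3) := ⟨Nat.prime_three⟩
  have h3 : (3 : F) = 0 := CharP.cast_eq_zero F 3
  have h2 : (2 : F) ≠ 0 := fun h => one_ne_zero (by linear_combination h3 - h : (1 : F) = 0)
  obtain ⟨v, hv⟩ := h5
  set μ := stdForm 3 F v ((toMat F u - 1) ^ 5 *ᵥ v)
  set s := μ / 2 with hs
  set X : Matrix (Fin 3) (Fin 3) F := s • (cycP F * (cubicM c * cubicM c)) with hX
  have hmem : Matrix.fromBlocks (cycP F) X 0 (cycP F) ∈ Matrix.symplecticGroup (Fin 3) F := by
    rw [mem_sp_iff]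
    intro a b
    simp [stdForm_apply, hX, cycP, cubicM, Matrix.fromBlocks_mulVec, Matrix.mulVec, dotProduct,
      Fin.sum_univ_three, Matrix.mul_apply, Matrix.vecHead, Matrix.vecTail]
    ring
  set um : Matrix.symplecticGroup (Fin 3) F := ⟨_, hmem⟩
  have hum : toMat F um = Matrix.fromBlocks (cycP F) X 0 (cycP F) := rfl
  set Q : Matrix (Fin 3) (Fin 3) F := cycP F - 1 with hQ
  have hN : toMat F um - 1 = Matrix.fromBlocks Q X 0 Q := by
    rw [hum, ← Matrix.fromBlocks_one, sub_eq_add_neg, Matrix.fromBlocks_neg, Matrix.fromBlocks_add,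
      neg_zero, add_zero, add_zero, hQ, sub_eq_add_neg]
  have hQ2 : Q * Q = Matrix.of fun _ _ => 1 := by
    ext i j
    fin_cases i <;> fin_cases j <;> simp [hQ, cycP, Matrix.mul_apply, Fin.sum_univ_three] <;>
      first | linear_combination -h3 | linear_combination h3
  have hQ3 : Q * (Q * Q) = 0 := by
    rw [hQ2]
    ext i j
    fin_cases i <;> fin_cases j <;> simp [hQ, cycP, Matrix.mul_apply, Fin.sum_univ_three]
  set R := Q * (Q * X + X * Q) + X * (Q * Q) with hR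
  have hN3 : (toMat F um - 1) ^ 3 = Matrix.fromBlocks 0 R 0 0 := by
    rw [pow_three, hN, Matrix.fromBlocks_multiply, Matrix.fromBlocks_multiply]
    simp only [Matrix.mul_zero, Matrix.zero_mul, add_zero, zero_add, hQ3, hR]
  have h6m : (toMat F um - 1) ^ 6 = 0 := by
    rw [show (6 : ℕ) = 3 + 3 from rfl, pow_add, hN3, Matrix.fromBlocks_multiply]
    simp [Matrix.fromBlocks_zero]
  have hQ3' : ∀ Y, Q * (Q * (Q * Y)) = 0 := fun Y => by
    rw [← mul_assoc Q Q Y, ← mul_assoc Q (Q * Q) Y, hQ3, zero_mul]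
  have hRQ : R * (Q * Q) = Q * Q * X * (Q * Q) := by
    simp only [hR, add_mul, mul_add, mul_assoc, hQ3, hQ3', mul_zero, add_zero]
  have hval : stdForm 3 F (mF F) ((toMat F um - 1) ^ 5 *ᵥ mF F) = μ := by
    rw [show (5 : ℕ) = 3 + 2 from rfl, pow_add, hN3, sq, hN, Matrix.fromBlocks_multiply,
      Matrix.fromBlocks_multiply]
    simp only [Matrix.mul_zero, Matrix.zero_mul, add_zero, zero_add, hRQ]
    simp only [hQ2]
    simp [stdForm_apply, mF, hX, cycP, cubicM, Matrix.fromBlocks_mulVec, Matrix.mulVec,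
      dotProduct, Fin.sum_univ_three, Matrix.mul_apply, Matrix.vecHead, Matrix.vecTail]
    rw [hs]
    field_simp
    linear_combination (4 * c ^ 2 + 4 * c + 1) * h3
  obtain ⟨T, hT⟩ := conj_of_regular h2 h6 h6m hv hval.symm
  refine exists_conj_cubicStab T (e • toMat F um) (fun i => ?_) 1 ?_
  · rw [hg, Matrix.smul_mulVec, Matrix.smul_mulVec, hT, Matrix.mulVec_smul]
  · rw [Matrix.smul_mul, Matrix.mul_smul]
    congr 1
    rw [Int.cast_one, hum, mD, ← Matrix.fromBlocks_one, Matrix.fromBlocks_add,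
      Matrix.fromBlocks_multiply, Matrix.fromBlocks_multiply]
    simp only [Matrix.mul_zero, Matrix.zero_mul, add_zero, zero_add, cycP_shift h3, hX,
      Matrix.smul_mul, Matrix.mul_smul]
    rw [mul_assoc, mul_assoc (cubicM c) (cubicM c) (cubicM c), ← mul_assoc (cycP F),
      cycP_shift h3, mul_assoc, ← mul_assoc (cycP F)]
    simp

end Cfsg.Agent.Lib.NormalCoverTwo.SympThree
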