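import Cfsg.Agent.Lib.NormalCoverTwo.SympThreeRegular

/-!
# Normal coverings by two subgroups: elements of `Sp₆(3^a)` with an eigenvalue of `g + g⁻¹`
-/

set_option autoImplicit false

namespace Cfsg.Agent.Lib.NormalCoverTwo.SympThree

open Module Cfsg.Agent.Lib.Symplectic
open scoped Matrix

variable {F : Type*} [Field F]

theorem toMat_pow (u : Matrix.symplecticGroup (Fin 3) F) (k : ℕ) :
    toMat F (u ^ k) = toMat F u ^ k := map_pow _ _ _

theorem commute_N (u : Matrix.symplecticGroup (Fin 3) F) :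
    Commute (toMat F u - 1) (toMat F u⁻¹) :=
  (commute_inv u).sub_left (Commute.one_left _)

theorem adjN_pow (u : Matrix.symplecticGroup (Fin 3) F) (k : ℕ) (x y : V F) :
    stdForm 3 F ((toMat F u - 1) ^ k *ᵥ x) y =
      (-1) ^ k * stdForm 3 F x (((toMat F u - 1) ^ k * toMat F u⁻¹ ^ k) *ᵥ y) := by
  induction k generalizing x y with
  | zero => simp
  | succ k ih =>
    have h1 : ∀ x y, stdForm 3 F ((toMat F u - 1) *ᵥ x) y =
        -stdForm 3 F x (((toMat F u - 1) * toMat F u⁻¹) *ᵥ y) := by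
      intro x y
      rw [sub_mul, toMat_mul_inv, one_mul, Matrix.sub_mulVec, Matrix.sub_mulVec, Matrix.one_mulVec,
        Matrix.one_mulVec, map_sub, LinearMap.sub_apply, toMat_adj, map_sub]
      ring
    rw [pow_succ, ← Matrix.mulVec_mulVec, ih, h1, Matrix.mulVec_mulVec,
      (commute_N u).mul_pow k |>.symm, ← pow_succ', (commute_N u).mul_pow, pow_succ (-1 : F)]
    rw [show (toMat F u - 1) ^ k * (toMat F u - 1) = (toMat F u - 1) ^ (k + 1) from
      (pow_succ _ k).symm]
    ring

theorem adjN_top {u : Matrix.symplecticGroup (Fin 3) F} {k : ℕ}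
    (hk : (toMat F u - 1) ^ (k + 1) = 0) (x y : V F) :
    stdForm 3 F ((toMat F u - 1) ^ k *ᵥ x) y =
      (-1) ^ k * stdForm 3 F x ((toMat F u - 1) ^ k *ᵥ y) := by
  have h1 : (toMat F u - 1) ^ k * toMat F u⁻¹ = (toMat F u - 1) ^ k := by
    have h2 : (toMat F u - 1) ^ (k + 1) * toMat F u⁻¹ =
        (toMat F u - 1) ^ k - (toMat F u - 1) ^ k * toMat F u⁻¹ := by
      rw [pow_succ, mul_assoc, sub_mul (toMat F u) 1, toMat_mul_inv, one_mul, mul_sub, mul_one]
    rw [hk, zero_mul] at h2
    exact (sub_eq_zero.1 h2.symm).symm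
  have h3 : ∀ j : ℕ, (toMat F u - 1) ^ k * toMat F u⁻¹ ^ j = (toMat F u - 1) ^ k := by
    intro j
    induction j with
    | zero => simp
    | succ j ih => rw [pow_succ (toMat F u⁻¹), ← mul_assoc, ih, h1]
  rw [adjN_pow, h3]

/-- A symmetric non-zero bilinear value is non-zero somewhere on the diagonal. -/
theorem exists_diag_ne (h2 : (2 : F) ≠ 0) {M : Mat F} (hM : M ≠ 0)
    (hsymm : ∀ x y, stdForm 3 F x (M *ᵥ y) = stdForm 3 F y (M *ᵥ x)) :
    ∃ v, stdForm 3 F v (M *ᵥ v) ≠ 0 := by
  by_contra! h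
  apply hM
  refine Matrix.ext_of_mulVec_single fun i => ?_
  rw [Matrix.zero_mulVec]
  refine eq_zero_of_form' fun x => ?_
  have h1 := h (x + Pi.single i 1)
  simp only [Matrix.mulVec_add, map_add, LinearMap.add_apply, h, zero_add, add_zero] at h1
  rw [hsymm (Pi.single i 1) x] at h1
  have h' : 2 * stdForm 3 F x (M *ᵥ Pi.single i 1) = 0 := by linear_combination h1
  exact (mul_eq_zero.1 h').resolve_left h2

/-- The case `g = ± unipotent`. -/
theorem conj_scalar_unipotent [CharP F 3] {c e : F} {g u : Matrix.symplecticGroup (Fin 3) F}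
    (hg : toMat F g = e • toMat F u) (h6 : (toMat F u - 1) ^ 6 = 0) :
    ∃ z, z * g * z⁻¹ ∈ planeStab F ∨ z * g * z⁻¹ ∈ cubicStab c := by
  haveI : Fact (Nat.Prime 3) := ⟨Nat.prime_three⟩
  have h3 : (3 : F) = 0 := CharP.cast_eq_zero F 3
  have h2 : (2 : F) ≠ 0 := fun h => one_ne_zero (by linear_combination h3 - h : (1 : F) = 0)
  set N := toMat F u - 1 with hN
  have hUx : ∀ z, toMat F u *ᵥ z = z + N *ᵥ z := fun z => by
    rw [hN, Matrix.sub_mulVec, Matrix.one_mulVec]; abel
  have hgx : ∀ z, toMat F g *ᵥ z = e • (z + N *ᵥ z) := fun z => by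
    rw [hg, Matrix.smul_mulVec, hUx]
  by_cases h1 : N = 0
  · refine ⟨1, Or.inl ?_⟩
    rw [one_mul, inv_one, mul_one]
    refine scalar_mem_subStab _ _ (l := e) fun w => ?_
    rw [hgx, h1, Matrix.zero_mulVec, add_zero]
  by_cases hN2 : N ^ 2 = 0
  · obtain ⟨v, hv⟩ := exists_diag_ne h2 h1 fun x y => by
      have h := adjN_top (k := 1) hN2 x y
      rw [pow_one, pow_one, form_swap] at h
      linear_combination h
    obtain ⟨z, hz⟩ := exists_conj_plane (g := g) hv
      (by rw [hgx]; exact Submodule.mem_span_pair.2 ⟨e, e, by rw [smul_add]⟩)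
      (by
        rw [hgx, Matrix.mulVec_mulVec, ← sq, hN2, Matrix.zero_mulVec, add_zero]
        exact Submodule.mem_span_pair.2 ⟨0, e, by rw [zero_smul, zero_add]⟩)
    exact ⟨z, Or.inl hz⟩
  by_cases hN3 : N ^ 3 = 0
  · have hU3 : toMat F u * (toMat F u * toMat F u) = 1 := by
      rw [← pow_three, ← sub_eq_zero, ← hN3, hN,
        sub_pow_char_of_commute (p := 3) (Commute.one_right (toMat F u)), one_pow]
    obtain ⟨z, hz⟩ := conj_scalar_orbit (toMat_form u)
      (fun z => by rw [Matrix.mulVec_mulVec, Matrix.mulVec_mulVec, mul_assoc, hU3, Matrix.one_mulVec])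
      h3 (c := c) (g := g) (e := e) (fun z => by rw [hg, Matrix.smul_mulVec]) (by
        by_contra! h
        apply hN2
        refine Matrix.mulVec_injective (funext fun z => ?_)
        show N ^ 2 *ᵥ z = (0 : Mat F) *ᵥ z
        rw [Matrix.zero_mulVec, sq, ← Matrix.mulVec_mulVec, ← h z]
        simp only [hN, Matrix.sub_mulVec, Matrix.one_mulVec, Matrix.mulVec_sub]
        ext i
        simp only [Pi.add_apply, Pi.sub_apply]
        linear_combination -((toMat F u *ᵥ z) i) * h3)
    exact ⟨z, Or.inr hz⟩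
  by_cases hN4 : N ^ 4 = 0
  · obtain ⟨v, hv⟩ := exists_diag_ne h2 hN3 fun x y => by
      have h := adjN_top (k := 3) hN4 x y
      rw [form_swap] at h
      linear_combination h
    set b : Fin 4 → V F := fun i => N ^ (i : ℕ) *ᵥ v with hb
    set W := Submodule.span F (Set.range b) with hW
    have hNb : ∀ x ∈ W, N *ᵥ x ∈ W := by
      intro x hx
      induction hx using Submodule.span_induction with
      | mem x hx =>
        obtain ⟨i, rfl⟩ := hx
        simp only [hb]
        rw [Matrix.mulVec_mulVec, ← pow_succ']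
        by_cases hi : (i : ℕ) + 1 < 4
        · exact Submodule.subset_span ⟨⟨(i : ℕ) + 1, hi⟩, rfl⟩
        · rw [show (i : ℕ) + 1 = 4 by omega, hN4, Matrix.zero_mulVec]
          exact W.zero_mem
      | zero => rw [Matrix.mulVec_zero]; exact W.zero_mem
      | add a b _ _ ha hb => rw [Matrix.mulVec_add]; exact W.add_mem ha hb
      | smul r a _ ha => rw [Matrix.mulVec_smul]; exact W.smul_mem _ ha
    have hv0 : v ≠ 0 := fun h => hv (by rw [h, map_zero, LinearMap.zero_apply])
    obtain ⟨z, hz⟩ := plane_of_nondeg (g := g) (W := W)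
      (fun h => hv0 (by
        have : b 0 ∈ W := Submodule.subset_span ⟨0, rfl⟩
        rw [h, Submodule.mem_bot] at this
        simpa [hb] using this))
      (fun h => by
        have h5 := finrank_range_le_card (R := F) b
        have h6 : finrank F W = 6 := by rw [h, finrank_top, finrank_V]
        rw [Fintype.card_fin] at h5
        change finrank F W ≤ 4 at h5
        omega)
      (fun x hx hxp => by
        obtain ⟨d, rfl⟩ := (Submodule.mem_span_range_iff_exists_fun F).1 hx
        set μ := stdForm 3 F v (N ^ 3 *ᵥ v) with hμ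
        have hgram : ∀ i j : ℕ, stdForm 3 F (N ^ i *ᵥ v) (N ^ j *ᵥ v) =
            if i + j < 3 then stdForm 3 F (N ^ i *ᵥ v) (N ^ j *ᵥ v)
            else if i + j = 3 then (-1) ^ i * μ else 0 := by
          intro i j
          split_ifs with hlt heq
          · rfl
          · rw [adjN_pow, Matrix.mulVec_mulVec, mul_assoc,
              ((commute_N u).pow_pow j i).symm.eq, ← mul_assoc, ← pow_add, heq]
            have h3' : ∀ k : ℕ, N ^ 3 * toMat F u⁻¹ ^ k = N ^ 3 := by
              intro k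
              induction k with
              | zero => simp
              | succ k ih =>
                rw [pow_succ (toMat F u⁻¹), ← mul_assoc, ih]
                have h4 : N ^ 4 * toMat F u⁻¹ = N ^ 3 - N ^ 3 * toMat F u⁻¹ := by
                  rw [pow_succ, mul_assoc, hN, sub_mul (toMat F u) 1, toMat_mul_inv, one_mul,
                    mul_sub, mul_one]
                rw [hN4, zero_mul] at h4
                exact (sub_eq_zero.1 h4.symm).symm
            rw [h3', hμ]
          · rw [adjN_pow, Matrix.mulVec_mulVec, mul_assoc,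
              ((commute_N u).pow_pow j i).symm.eq, ← mul_assoc, ← pow_add,
              pow_eq_zero_of_le (show 4 ≤ i + j by omega) hN4, zero_mul, Matrix.zero_mulVec,
              map_zero, mul_zero]
        have hp : ∀ j : Fin 4, ∑ i, d i * stdForm 3 F (N ^ (i : ℕ) *ᵥ v) (N ^ (j : ℕ) *ᵥ v) = 0 :=
          fun j => by
            have := mem_perp.1 hxp (b j) (Submodule.subset_span ⟨j, rfl⟩)
            simpa [hb, map_sum] using this
        have p3 := hp 3
        have p2 := hp 2
        have p1 := hp 1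
        have p0 := hp 0
        simp only [Fin.sum_univ_four, Fin.val_zero, Fin.val_one, Fin.val_two,
          show ((3 : Fin 4) : ℕ) = 3 from rfl] at p0 p1 p2 p3
        rw [hgram 0 3, hgram 1 3, hgram 2 3, hgram 3 3] at p3
        norm_num at p3
        have d0 : d 0 = 0 := p3.resolve_right hv
        rw [hgram 1 2, hgram 2 2, hgram 3 2, d0] at p2
        norm_num at p2
        have d1 : d 1 = 0 := p2.resolve_right hv
        rw [hgram 2 1, hgram 3 1, d0, d1] at p1
        norm_num at p1
        have d2 : d 2 = 0 := p1.resolve_right hv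
        rw [hgram 3 0, d0, d1, d2] at p0
        norm_num at p0
        have d3 : d 3 = 0 := p0.resolve_right hv
        refine Finset.sum_eq_zero fun i _ => ?_
        fin_cases i <;> simp [d0, d1, d2, d3])
      (fun x hx => by
        rw [hgx]
        exact W.smul_mem _ (W.add_mem hx (hNb x hx)))
    exact ⟨z, Or.inl hz⟩
  by_cases hN5 : N ^ 5 = 0
  · exfalso
    have hz : ∀ x, stdForm 3 F x (N ^ 4 *ᵥ x) = 0 := fun x => by
      have h := adjN_top (k := 4) hN5 x x
      rw [form_swap] at h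
      have h' : 2 * stdForm 3 F x (N ^ 4 *ᵥ x) = 0 := by linear_combination -h
      exact (mul_eq_zero.1 h').resolve_left h2
    obtain ⟨x, hx⟩ : ∃ x, N ^ 4 *ᵥ x ≠ 0 := by
      by_contra! h
      exact hN4 (Matrix.mulVec_injective (funext fun z => (h z).trans (Matrix.zero_mulVec z).symm))
    obtain ⟨y, hy⟩ : ∃ y, stdForm 3 F (N ^ 4 *ᵥ x) y ≠ 0 := by
      by_contra! h
      exact hx (eq_zero_of_form h)
    set b : Fin 6 → V F := Fin.cons y (fun i : Fin 5 => N ^ (i : ℕ) *ᵥ x) with hb
    have h45 : ∀ i j : ℕ, 5 ≤ i + j → N ^ i *ᵥ (N ^ j *ᵥ x) = 0 := fun i j h => by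
      rw [Matrix.mulVec_mulVec, ← pow_add, pow_eq_zero_of_le h hN5, Matrix.zero_mulVec]
    have hli : LinearIndependent F b := by
      rw [Fintype.linearIndependent_iff]
      intro d hd
      simp [hb, Fin.sum_univ_succ] at hd
      -- pair with `N⁴ x`
      have hpair : ∀ j : ℕ, stdForm 3 F (N ^ 4 *ᵥ x) (N ^ j *ᵥ x) = 0 := fun j => by
        rcases Nat.eq_zero_or_pos j with rfl | hj
        · rw [pow_zero, Matrix.one_mulVec, form_swap, hz, neg_zero]
        · rw [adjN_top hN5, h45 4 j (by omega), map_zero, mul_zero]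
      have e := congrArg (fun z => stdForm 3 F (N ^ 4 *ᵥ x) z) hd
      simp only [map_add, map_smul, smul_eq_mul, hpair, map_zero, mul_zero, add_zero] at e
      have e0 : stdForm 3 F (N ^ 4 *ᵥ x) x = 0 := by simpa using hpair 0
      have e1 : stdForm 3 F (N ^ 4 *ᵥ x) (N *ᵥ x) = 0 := by simpa using hpair 1
      simp only [e0, e1, mul_zero, add_zero] at e
      have d0 : d 0 = 0 := (mul_eq_zero.1 e).resolve_right hy
      rw [d0, zero_smul, zero_add] at hd
      have f0 := congrArg (fun z => N ^ 4 *ᵥ z) hd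
      simp [Matrix.mulVec_add, Matrix.mulVec_smul, Matrix.mulVec_mulVec, ← pow_add, ← pow_succ,
        pow_eq_zero_of_le _ hN5, hx] at f0
      rw [f0, zero_smul, zero_add] at hd
      have f1 := congrArg (fun z => N ^ 3 *ᵥ z) hd
      simp [Matrix.mulVec_add, Matrix.mulVec_smul, Matrix.mulVec_mulVec, ← pow_add, ← pow_succ,
        pow_eq_zero_of_le _ hN5, hx] at f1
      rw [f1, zero_smul, zero_add] at hd
      have f2 := congrArg (fun z => N ^ 2 *ᵥ z) hd
      simp [Matrix.mulVec_add, Matrix.mulVec_smul, Matrix.mulVec_mulVec, ← pow_add,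
        pow_eq_zero_of_le _ hN5, hx] at f2
      rw [f2, zero_smul, zero_add] at hd
      have f3 := congrArg (fun z => N *ᵥ z) hd
      simp [Matrix.mulVec_add, Matrix.mulVec_smul, Matrix.mulVec_mulVec, ← pow_succ',
        hN5, hx] at f3
      rw [f3, zero_smul, zero_add, smul_eq_zero] at hd
      intro i
      fin_cases i
      exacts [d0, f0, f1, f2, f3, hd.resolve_right hx]
    have hsp : Submodule.span F (Set.range b) = ⊤ :=
      hli.span_eq_top_of_card_eq_finrank' (by rw [finrank_V]; rfl)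
    obtain ⟨d, hd⟩ := (Submodule.mem_span_range_iff_exists_fun F).1
      (hsp ▸ Submodule.mem_top (x := N *ᵥ y))
    simp [hb, Fin.sum_univ_succ] at hd
    obtain ⟨κ, hκ⟩ : ∃ κ : F, N ^ 4 *ᵥ y = κ • (N ^ 4 *ᵥ x) := by
      by_cases hd0 : d 0 = 0
      · have e4 := congrArg (fun z => N ^ 4 *ᵥ z) hd
        rw [Matrix.mulVec_mulVec, ← pow_succ, hN5, Matrix.zero_mulVec] at e4
        simp [Matrix.mulVec_add, Matrix.mulVec_smul, Matrix.mulVec_mulVec, ← pow_add, ← pow_succ,
          pow_eq_zero_of_le _ hN5, hd0, hx] at e4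
        have e3 := congrArg (fun z => N ^ 3 *ᵥ z) hd
        rw [Matrix.mulVec_mulVec, ← pow_succ] at e3
        simp [Matrix.mulVec_add, Matrix.mulVec_smul, Matrix.mulVec_mulVec, ← pow_add, ← pow_succ,
          pow_eq_zero_of_le _ hN5, hd0, e4] at e3
        exact ⟨_, e3.symm⟩
      · have e4 := congrArg (fun z => N ^ 4 *ᵥ z) hd
        rw [Matrix.mulVec_mulVec, ← pow_succ, hN5, Matrix.zero_mulVec] at e4
        simp [Matrix.mulVec_add, Matrix.mulVec_smul, Matrix.mulVec_mulVec, ← pow_add, ← pow_succ,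
          pow_eq_zero_of_le _ hN5] at e4
        refine ⟨-d 1 / d 0, ?_⟩
        rw [← inv_smul_smul₀ hd0 (N ^ 4 *ᵥ y), eq_neg_of_add_eq_zero_left e4, smul_neg, smul_smul,
          neg_div, neg_smul, inv_mul_eq_div]
    apply hy
    rw [adjN_top hN5, hκ, map_smul, hz, smul_zero, mul_zero]
  · obtain ⟨z, hz⟩ := conj_regular_case (c := c) hg h6 (exists_diag_ne h2 hN5 fun x y => by
      have h := adjN_top (k := 5) h6 x y
      rw [form_swap] at h
      linear_combination h)
    exact ⟨z, Or.inr hz⟩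

/-- The case of a semisimple part outside `±1`. -/
theorem conj_quadratic_unipotent [Finite F] [CharP F 3] {c κ : F} (hκ : κ ^ 2 ≠ 4)
    {g s u : Matrix.symplecticGroup (Fin 3) F} (hg : g = s * u) (hsu : Commute s u)
    (hS2 : toMat F s * toMat F s = κ • toMat F s - 1) (hN3 : (toMat F u - 1) ^ 3 = 0) :
    ∃ z, z * g * z⁻¹ ∈ planeStab F ∨ z * g * z⁻¹ ∈ cubicStab c := by
  haveI : Fact (Nat.Prime 3) := ⟨Nat.prime_three⟩
  have h3 : (3 : F) = 0 := CharP.cast_eq_zero F 3
  have h2 : (2 : F) ≠ 0 := fun h => one_ne_zero (by linear_combination h3 - h : (1 : F) = 0)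
  set S := toMat F s with hSdef
  set U := toMat F u with hUdef
  set N := U - 1 with hN
  have hc : Commute S U := hsu.map (toMat F)
  have hgx : ∀ z, toMat F g *ᵥ z = S *ᵥ (U *ᵥ z) := fun z => by
    rw [hg, map_mul, Matrix.mulVec_mulVec]
  have hSU : ∀ z, S *ᵥ (U *ᵥ z) = U *ᵥ (S *ᵥ z) := fun z => by
    rw [Matrix.mulVec_mulVec, Matrix.mulVec_mulVec, hc.eq]
  have hS2v : ∀ z, S *ᵥ (S *ᵥ z) = κ • (S *ᵥ z) - z := fun z => by
    rw [Matrix.mulVec_mulVec, hS2, Matrix.sub_mulVec, Matrix.smul_mulVec, Matrix.one_mulVec]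
  have hSadj : ∀ x y, stdForm 3 F (S *ᵥ x) y = κ * stdForm 3 F x y - stdForm 3 F x (S *ᵥ y) := by
    intro x y
    have h := toMat_form s x (κ • y - S *ᵥ y)
    rw [← hSdef, Matrix.mulVec_sub, Matrix.mulVec_smul, hS2v, sub_sub_cancel, map_sub, map_smul] at h
    simpa using h
  have hUx : ∀ z, U *ᵥ z = z + N *ᵥ z := fun z => by
    rw [hN, Matrix.sub_mulVec, Matrix.one_mulVec]; abel
  have hSN : ∀ z, S *ᵥ (N *ᵥ z) = N *ᵥ (S *ᵥ z) := fun z => by
    rw [hN, Matrix.sub_mulVec, Matrix.sub_mulVec, Matrix.one_mulVec, Matrix.one_mulVec,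
      Matrix.mulVec_sub, hSU]
  by_cases hex : ∃ v, N *ᵥ v = 0 ∧ stdForm 3 F v (S *ᵥ v) ≠ 0
  · obtain ⟨v, hv, hvS⟩ := hex
    obtain ⟨z, hz⟩ := exists_conj_plane (g := g) hvS
      (by rw [hgx, hUx, hv, add_zero]; exact Submodule.subset_span (by simp))
      (by
        rw [hgx, hUx, ← hSN, hv, Matrix.mulVec_zero, add_zero, hS2v]
        exact Submodule.mem_span_pair.2 ⟨-1, κ, by module⟩)
    exact ⟨z, Or.inl hz⟩
  push Not at hex
  by_cases hN2 : N ^ 2 = 0
  · exfalso
    have hκ2 : κ ^ 2 - 4 ≠ 0 := sub_ne_zero.2 hκ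
    set K := LinearMap.ker N.mulVecLin with hK
    have hmemK : ∀ x, x ∈ K ↔ N *ᵥ x = 0 := fun x => Iff.rfl
    have hNN : ∀ x, N *ᵥ (N *ᵥ x) = 0 := fun x => by
      rw [Matrix.mulVec_mulVec, ← sq, hN2, Matrix.zero_mulVec]
    have hadj : ∀ x y, stdForm 3 F (N *ᵥ x) y = -stdForm 3 F x (N *ᵥ y) := fun x y => by
      have h := adjN_top (k := 1) hN2 x y
      rw [pow_one, pow_one, ← hUdef, ← hN] at h
      linear_combination h
    -- the fixed space is totally isotropic
    have hKiso : ∀ v w, N *ᵥ v = 0 → N *ᵥ w = 0 → stdForm 3 F v w = 0 := by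
      intro v w hv hw
      have key : ∀ w', N *ᵥ w' = 0 → 2 * stdForm 3 F v (S *ᵥ w') - κ * stdForm 3 F v w' = 0 := by
        intro w' hw'
        have h1 := hex (v + w') (by rw [Matrix.mulVec_add, hv, hw', add_zero])
        simp only [Matrix.mulVec_add, map_add, LinearMap.add_apply, hex v hv, hex w' hw',
          zero_add, add_zero] at h1
        rw [form_swap w' (S *ᵥ v), hSadj] at h1
        linear_combination h1
      have hw1 : N *ᵥ (2 • (S *ᵥ w) - κ • w) = 0 := by
        rw [Matrix.mulVec_sub, Matrix.mulVec_smul, Matrix.mulVec_smul, ← hSN, hw]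
        simp
      have h4 := key _ hw1
      simp only [two_nsmul, Matrix.mulVec_sub, Matrix.mulVec_add, Matrix.mulVec_smul, hS2v,
        map_sub, map_add, map_smul, smul_eq_mul] at h4
      have h5 : (κ ^ 2 - 4) * stdForm 3 F v w = 0 := by linear_combination h4
      exact (mul_eq_zero.1 h5).resolve_left hκ2
    set R := LinearMap.range N.mulVecLin with hR
    have hRK : R = K := by
      refine Submodule.eq_of_le_of_finrank_le ?_ ?_
      · rintro _ ⟨x, rfl⟩; exact hNN x
      · have h4 : K ≤ perp K := fun x hx => mem_perp.2 fun w hw => hKiso x w hx hw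
        have h5 := Submodule.finrank_mono h4
        have h6 := finrank_perp K
        have h7 := LinearMap.finrank_range_add_finrank_ker N.mulVecLin
        rw [finrank_V, ← hR, ← hK] at h7
        have aux : ∀ k p r : ℕ, k ≤ p → p + k = 6 → r + k = 6 → k ≤ r := by omega
        exact aux _ _ _ h5 h6 h7
    have hR3 : finrank F R ≤ 3 := by
      have h7 := LinearMap.finrank_range_add_finrank_ker N.mulVecLin
      rw [finrank_V, ← hR, ← hK, ← hRK] at h7
      omega
    have hmemR : ∀ x, N *ᵥ x ∈ R := fun x => ⟨x, rfl⟩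
    have hN0 : N ≠ 0 := by
      intro h0
      have h5 := hKiso (mF F) (mE F) (by rw [h0, Matrix.zero_mulVec]) (by rw [h0, Matrix.zero_mulVec])
      rw [form_mF_mE] at h5
      exact one_ne_zero h5
    have hsym : ∀ x y, stdForm 3 F x (N *ᵥ y) = stdForm 3 F y (N *ᵥ x) := fun x y => by
      rw [form_swap, hadj, neg_neg]
    obtain ⟨x, hx⟩ := exists_diag_ne h2 hN0 hsym
    set β := stdForm 3 F x (N *ᵥ x) with hβ
    -- the symmetric form on the plane of `x` and `S x`
    have b22 : stdForm 3 F (S *ᵥ x) (N *ᵥ (S *ᵥ x)) = β := by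
      rw [← hSN, toMat_form]
    have b12 : 2 * stdForm 3 F x (N *ᵥ (S *ᵥ x)) = κ * β := by
      have h5 : stdForm 3 F (S *ᵥ x) (N *ᵥ x) = stdForm 3 F x (N *ᵥ (S *ᵥ x)) := hsym _ _
      rw [hSadj, hSN] at h5
      linear_combination -h5
    -- a vector of the range orthogonal to the plane
    obtain ⟨k, hkR, hk0, hkx, hkS⟩ : ∃ k ∈ R, k ≠ 0 ∧ stdForm 3 F x k = 0 ∧
        stdForm 3 F (S *ᵥ x) k = 0 := by
      let f : R →ₗ[F] F × F :=
        ((stdForm 3 F x).prod (stdForm 3 F (S *ᵥ x))).comp R.subtype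
      have hkne : LinearMap.ker f ≠ ⊥ := by
        intro hbot
        have h5 := LinearMap.finrank_le_finrank_of_injective (LinearMap.ker_eq_bot.1 hbot)
        rw [Module.finrank_prod, Module.finrank_self] at h5
        have h7 := LinearMap.finrank_range_add_finrank_ker N.mulVecLin
        rw [finrank_V, ← hK, ← hR, ← hRK] at h7
        omega
      obtain ⟨k, hk, hk0⟩ := Submodule.exists_mem_ne_zero_of_ne_bot hkne
      have hk' := LinearMap.mem_ker.1 hk
      exact ⟨k, k.2, fun h => hk0 (Subtype.ext h), congrArg Prod.fst hk', congrArg Prod.snd hk'⟩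
    have hkSR : S *ᵥ k ∈ R := by
      obtain ⟨z, rfl⟩ := hkR
      show S *ᵥ (N *ᵥ z) ∈ R
      rw [hSN]; exact hmemR _
    have hkx' : stdForm 3 F x (S *ᵥ k) = 0 := by
      have h5 := hSadj x k
      rw [hkx, hkS] at h5
      linear_combination h5
    have hkS' : stdForm 3 F (S *ᵥ x) (S *ᵥ k) = 0 := by rw [toMat_form, hkx]
    -- three independent vectors in the range
    have hli : LinearIndependent F ![N *ᵥ x, N *ᵥ (S *ᵥ x), k] := by
      rw [Fintype.linearIndependent_iff]
      intro d hd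
      simp only [Fin.sum_univ_three, Matrix.cons_val_zero, Matrix.cons_val_one,
        Matrix.cons_val_two, Matrix.head_cons, Matrix.tail_cons] at hd
      have e1 := congrArg (fun z => stdForm 3 F x z) hd
      have e2 := congrArg (fun z => stdForm 3 F (S *ᵥ x) z) hd
      simp only [map_add, map_smul, smul_eq_mul, hkx, hkS, mul_zero, add_zero, map_zero, b22,
        hsym (S *ᵥ x) x, ← hβ] at e1 e2
      have d0 : d 0 = 0 := by
        have h8 : d 0 * ((κ ^ 2 - 4) * β ^ 2) = 0 := by
          linear_combination -4 * β * e1 + 2 * κ * β * e2 + (2 * d 1 * β - κ * β * d 0) * b12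
        exact (mul_eq_zero.1 h8).resolve_right (mul_ne_zero hκ2 (pow_ne_zero _ hx))
      rw [d0, zero_mul, zero_add] at e2
      have d1 : d 1 = 0 := (mul_eq_zero.1 e2).resolve_right hx
      rw [d0, d1, zero_smul, zero_smul, zero_add, zero_add, smul_eq_zero] at hd
      intro i; fin_cases i
      exacts [d0, d1, hd.resolve_right hk0]
    have hRspan : Submodule.span F (Set.range ![N *ᵥ x, N *ᵥ (S *ᵥ x), k]) = R := by
      refine Submodule.eq_of_le_of_finrank_le (Submodule.span_le.2 ?_) ?_
      · rintro _ ⟨i, rfl⟩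
        fin_cases i
        exacts [hmemR _, hmemR _, hkR]
      · rw [finrank_span_eq_card hli, Fintype.card_fin]; exact hR3
    -- `k` is an eigenvector of `S`
    obtain ⟨d, hd⟩ := (Submodule.mem_span_range_iff_exists_fun F).1 (hRspan ▸ hkSR)
    simp only [Fin.sum_univ_three, Matrix.cons_val_zero, Matrix.cons_val_one,
      Matrix.cons_val_two, Matrix.head_cons, Matrix.tail_cons] at hd
    have e1 := congrArg (fun z => stdForm 3 F x z) hd
    have e2 := congrArg (fun z => stdForm 3 F (S *ᵥ x) z) hd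
    simp only [map_add, map_smul, smul_eq_mul, hkx, hkS, hkx', hkS', mul_zero, add_zero, b22,
      hsym (S *ᵥ x) x, ← hβ] at e1 e2
    have d0 : d 0 = 0 := by
      have h8 : d 0 * ((κ ^ 2 - 4) * β ^ 2) = 0 := by
        linear_combination -4 * β * e1 + 2 * κ * β * e2 + (2 * d 1 * β - κ * β * d 0) * b12
      exact (mul_eq_zero.1 h8).resolve_right (mul_ne_zero hκ2 (pow_ne_zero _ hx))
    rw [d0, zero_mul, zero_add] at e2
    have d1 : d 1 = 0 := (mul_eq_zero.1 e2).resolve_right hx
    rw [d0, d1, zero_smul, zero_smul, zero_add, zero_add] at hd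
    set ρ := d 2
    have hρ : ρ ^ 2 - κ * ρ + 1 = 0 := by
      have h5 := hS2v k
      rw [← hd, Matrix.mulVec_smul, ← hd, smul_smul, smul_smul] at h5
      have h6 : (ρ ^ 2 - κ * ρ + 1) • k = 0 := by
        rw [add_smul, sub_smul, sq, h5, one_smul]; abel
      exact (smul_eq_zero.1 h6).resolve_right hk0
    obtain ⟨z, hz⟩ := hkR
    change N *ᵥ z = k at hz
    -- the value at `k` vanishes
    have hj : S *ᵥ z - ρ • z ∈ R := by
      rw [hRK, hmemK, Matrix.mulVec_sub, Matrix.mulVec_smul, ← hSN, hz, ← hd, sub_self]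
    have hjk : stdForm 3 F (S *ᵥ z - ρ • z) k = 0 := by
      rw [hRK] at hj
      exact hKiso _ _ hj (by rw [← hz]; exact hNN z)
    have hzk : stdForm 3 F z k = 0 := by
      have h5 : stdForm 3 F (S *ᵥ z) (S *ᵥ k) = stdForm 3 F z k := toMat_form s z k
      rw [← hd, map_smul, smul_eq_mul] at h5
      simp only [map_sub, map_smul, LinearMap.sub_apply, LinearMap.smul_apply, smul_eq_mul] at hjk
      have h6 : (ρ ^ 2 - 1) * stdForm 3 F z k = 0 := by linear_combination h5 - ρ * hjk
      refine (mul_eq_zero.1 h6).resolve_left fun h7 => hκ ?_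
      have h8 : ρ * κ = 2 := by linear_combination -hρ + h7
      linear_combination (ρ * κ + 2) * h8 - κ ^ 2 * h7
    refine hk0 (eq_zero_of_form' fun w => ?_)
    rw [← hz, hsym]
    obtain ⟨d', hd'⟩ := (Submodule.mem_span_range_iff_exists_fun F).1 (hRspan ▸ hmemR w)
    rw [← hd']
    simp only [Fin.sum_univ_three, Matrix.cons_val_zero, Matrix.cons_val_one,
      Matrix.cons_val_two, Matrix.head_cons, Matrix.tail_cons, map_add, map_smul, smul_eq_mul,
      hsym z x, hsym z (S *ᵥ x), hz, hkx, hkS, hzk, mul_zero, add_zero]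
  · have hU3 : U * (U * U) = 1 := by
      rw [← pow_three, ← sub_eq_zero, ← hN3, hN,
        sub_pow_char_of_commute (p := 3) (Commute.one_right U), one_pow]
    obtain ⟨z, hz⟩ := conj_quadratic_orbit (toMat_form u)
      (fun z => by rw [Matrix.mulVec_mulVec, Matrix.mulVec_mulVec, mul_assoc, hU3, Matrix.one_mulVec])
      (c := κ) (d := c) hκ (g := g) (S := S) hgx hSU (toMat_form s) hS2v (by
        by_contra! h
        apply hN2
        refine Matrix.mulVec_injective (funext fun z => ?_)
        show N ^ 2 *ᵥ z = (0 : Mat F) *ᵥ z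
        rw [Matrix.zero_mulVec, sq, ← Matrix.mulVec_mulVec, ← h z]
        simp only [hN, Matrix.sub_mulVec, Matrix.one_mulVec, Matrix.mulVec_sub]
        ext i
        simp only [Pi.add_apply, Pi.sub_apply]
        linear_combination -((U *ᵥ z) i) * h3)
    exact ⟨z, Or.inr hz⟩

end Cfsg.Agent.Lib.NormalCoverTwo.SympThree
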