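import Cfsg.Agent.Lib.NormalCoverTwo.SympThreeModel

/-!
# Normal coverings by two subgroups: unipotent normal forms in `Sp₆(3^a)`
-/

set_option autoImplicit false

namespace Cfsg.Agent.Lib.NormalCoverTwo.SympThree

open Module Cfsg.Agent.Lib.Symplectic
open scoped Matrix

variable {F : Type*} [Field F]

theorem linearIndependent_single :
    LinearIndependent F fun i : Fin 3 ⊕ Fin 3 => (Pi.single i 1 : V F) := by
  have h := (Pi.basisFun F (Fin 3 ⊕ Fin 3)).linearIndependent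
  have he : (fun i : Fin 3 ⊕ Fin 3 => (Pi.single i 1 : V F)) = Pi.basisFun F (Fin 3 ⊕ Fin 3) := by
    funext i; simp
  rw [he]; exact h

/-- The Gram matrix of the standard basis. -/
theorem form_single (i j : Fin 3 ⊕ Fin 3) :
    stdForm 3 F (Pi.single i 1) (Pi.single j 1) =
      Sum.elim (fun a => Sum.elim (fun _ => (0 : F)) (fun b => if a = b then -1 else 0) j)
        (fun a => Sum.elim (fun b => if a = b then 1 else 0) (fun _ => 0) j) i := by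
  rcases i with i | i <;> rcases j with j | j <;> fin_cases i <;> fin_cases j <;>
    simp [stdForm_apply, Fin.sum_univ_three]

section Orbit

variable {U : Mat F} (hU : ∀ x y, stdForm 3 F (U *ᵥ x) (U *ᵥ y) = stdForm 3 F x y)
  (hU3 : ∀ x, U *ᵥ (U *ᵥ (U *ᵥ x)) = x)
include hU hU3

theorem form_U2_left (x y : V F) :
    stdForm 3 F (U *ᵥ (U *ᵥ x)) y = stdForm 3 F x (U *ᵥ y) := by
  conv_lhs => rw [← hU3 y]
  rw [hU, hU]

theorem form_left_U2 (x y : V F) :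
    stdForm 3 F x (U *ᵥ (U *ᵥ y)) = stdForm 3 F (U *ᵥ x) y := by
  rw [form_swap, form_U2_left hU hU3, ← form_swap]

/-- Remove the value `B(x, U x)`. -/
theorem exists_kill (h3 : (3 : F) = 0) (x y : V F)
    (hK : stdForm 3 F x (y + U *ᵥ y + U *ᵥ (U *ᵥ y)) ≠ 0) :
    ∃ t : F, stdForm 3 F (x + t • (U *ᵥ y - U *ᵥ (U *ᵥ y)))
        (U *ᵥ (x + t • (U *ᵥ y - U *ᵥ (U *ᵥ y)))) = 0 ∧
      stdForm 3 F (x + t • (U *ᵥ y - U *ᵥ (U *ᵥ y))) (y + U *ᵥ y + U *ᵥ (U *ᵥ y)) =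
        stdForm 3 F x (y + U *ᵥ y + U *ᵥ (U *ᵥ y)) := by
  set K := stdForm 3 F x (y + U *ᵥ y + U *ᵥ (U *ᵥ y)) with hKdef
  refine ⟨-(stdForm 3 F x (U *ᵥ x)) / K, ?_, ?_⟩
  · have hd : -(stdForm 3 F x (U *ᵥ x)) / K * K = -(stdForm 3 F x (U *ᵥ x)) := div_mul_cancel₀ _ hK
    generalize -(stdForm 3 F x (U *ᵥ x)) / K = t at hd ⊢
    simp only [hKdef, map_add] at hd
    simp only [map_add, map_sub, map_smul, LinearMap.add_apply, LinearMap.sub_apply,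
      LinearMap.smul_apply, smul_eq_mul, Matrix.mulVec_add, Matrix.mulVec_sub, Matrix.mulVec_smul,
      hU3, hU, form_U2_left hU hU3, form_left_U2 hU hU3, form_self, form_swap (U *ᵥ y) y,
      form_swap y x, form_swap (U *ᵥ y) x] at hd ⊢
    linear_combination hd + (t * t * stdForm 3 F y (U *ᵥ y) - t * stdForm 3 F x y) * h3
  · rw [hKdef]
    simp only [map_add, map_sub, map_smul, LinearMap.add_apply, LinearMap.sub_apply,
      LinearMap.smul_apply, smul_eq_mul, hU, form_U2_left hU hU3, form_left_U2 hU hU3, form_self,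
      form_swap (U *ᵥ y) y]
    ring

/-- A free orbit basis gives conjugacy into the shift stabiliser. -/
theorem conj_of_orbit (h3 : (3 : F) = 0) {c : F} {g : Matrix.symplecticGroup (Fin 3) F}
    (hgU : ∀ z, toMat F g *ᵥ (U *ᵥ z) = U *ᵥ (toMat F g *ᵥ z))
    {x y : V F} {p q r s : F}
    (hy : toMat F g *ᵥ y = p • (U *ᵥ y) + r • (U *ᵥ x))
    (hx : toMat F g *ᵥ x = q • (U *ᵥ y) + s • (U *ᵥ x))
    (hxx : stdForm 3 F x (U *ᵥ x) = 0) (hyy : stdForm 3 F y (U *ᵥ y) = 0)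
    (hxy : stdForm 3 F x y = 1) (hxy1 : stdForm 3 F (U *ᵥ x) y = 0)
    (hxy2 : stdForm 3 F x (U *ᵥ y) = 0) :
    ∃ z, z * g * z⁻¹ ∈ cubicStab c := by
  have hyx : stdForm 3 F y x = -1 := by rw [form_swap, hxy]
  have hyx1 : stdForm 3 F (U *ᵥ y) x = 0 := by rw [form_swap, hxy2, neg_zero]
  have hyx2 : stdForm 3 F y (U *ᵥ x) = 0 := by rw [form_swap, hxy1, neg_zero]
  have hxx' : stdForm 3 F (U *ᵥ x) x = 0 := by rw [form_swap, hxx, neg_zero]
  have hyy' : stdForm 3 F (U *ᵥ y) y = 0 := by rw [form_swap, hyy, neg_zero]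
  obtain ⟨T, hT⟩ := exists_sp_of_gram (c := Sum.elim ![y, U *ᵥ y, U *ᵥ (U *ᵥ y)]
      ![x, U *ᵥ x, U *ᵥ (U *ᵥ x)]) (linearIndependent_single (F := F)) (fun i j => by
    rw [form_single]
    rcases i with i | i <;> rcases j with j | j <;> fin_cases i <;> fin_cases j <;>
      simp [hU, form_U2_left hU hU3,
        form_left_U2 hU hU3, form_self, hxx, hyy, hxy, hxy1, hxy2, hyx, hyx1, hyx2, hxx', hyy',
        hU3, -Matrix.mulVec_mulVec])
  refine exists_conj_cubicStab T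
    (Matrix.fromBlocks (p • cycP F) (q • cycP F) (r • cycP F) (s • cycP F)) (fun i => ?_) 1
    (model_shift h3 c p q r s)
  have hG : ∀ j : Fin 3,
      Matrix.fromBlocks (p • cycP F) (q • cycP F) (r • cycP F) (s • cycP F) *ᵥ
          Pi.single (Sum.inl j) (1 : F) =
        p • Pi.single (Sum.inl (j + 1)) 1 + r • Pi.single (Sum.inr (j + 1)) 1 ∧
      Matrix.fromBlocks (p • cycP F) (q • cycP F) (r • cycP F) (s • cycP F) *ᵥ
          Pi.single (Sum.inr j) (1 : F) =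
        q • Pi.single (Sum.inl (j + 1)) 1 + s • Pi.single (Sum.inr (j + 1)) 1 := by
    intro j
    constructor <;> ext (a | a) <;> fin_cases j <;> fin_cases a <;>
      simp [cycP, Pi.single_apply, Fin.ext_iff]
  rcases i with j | j
  · rw [(hG j).1, Matrix.mulVec_add, Matrix.mulVec_smul, Matrix.mulVec_smul, hT, hT, hT]
    fin_cases j <;>
      simp [hgU, hy, hU3, Matrix.mulVec_add, Matrix.mulVec_smul, -Matrix.mulVec_mulVec]
  · rw [(hG j).2, Matrix.mulVec_add, Matrix.mulVec_smul, Matrix.mulVec_smul, hT, hT, hT]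
    fin_cases j <;>
      simp [hgU, hx, hU3, Matrix.mulVec_add, Matrix.mulVec_smul, -Matrix.mulVec_mulVec]

/-- The scalar case. -/
theorem conj_scalar_orbit (h3 : (3 : F) = 0) {c e : F} {g : Matrix.symplecticGroup (Fin 3) F}
    (hg : ∀ z, toMat F g *ᵥ z = e • (U *ᵥ z))
    (hne : ∃ z, z + U *ᵥ z + U *ᵥ (U *ᵥ z) ≠ 0) : ∃ z, z * g * z⁻¹ ∈ cubicStab c := by
  obtain ⟨y₀, hy₀⟩ := hne
  obtain ⟨x₀, hx₀⟩ : ∃ x₀, stdForm 3 F x₀ (y₀ + U *ᵥ y₀ + U *ᵥ (U *ᵥ y₀)) ≠ 0 := by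
    by_contra! h
    exact hy₀ (eq_zero_of_form' h)
  obtain ⟨t, hx1, hK1⟩ := exists_kill hU hU3 h3 x₀ y₀ hx₀
  set x₁ := x₀ + t • (U *ᵥ y₀ - U *ᵥ (U *ᵥ y₀))
  have hK2 : stdForm 3 F y₀ (x₁ + U *ᵥ x₁ + U *ᵥ (U *ᵥ x₁)) =
      -stdForm 3 F x₁ (y₀ + U *ᵥ y₀ + U *ᵥ (U *ᵥ y₀)) := by
    simp only [map_add, form_left_U2 hU hU3, form_swap y₀ x₁, form_swap y₀ (U *ᵥ x₁),
      form_swap (U *ᵥ y₀) x₁]
    ring
  obtain ⟨t', hy1, hK3⟩ := exists_kill hU hU3 h3 y₀ x₁ (by rw [hK2, hK1]; exact neg_ne_zero.2 hx₀)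
  set y := y₀ + t' • (U *ᵥ x₁ - U *ᵥ (U *ᵥ x₁))
  rw [hK2, hK1] at hK3
  have hxx' : stdForm 3 F (U *ᵥ x₁) x₁ = 0 := by rw [form_swap, hx1, neg_zero]
  set a₀ := stdForm 3 F x₁ y with ha₀
  set a₁ := stdForm 3 F (U *ᵥ x₁) y with ha₁
  set a₂ := stdForm 3 F x₁ (U *ᵥ y) with ha₂
  have hS : a₀ + a₁ + a₂ ≠ 0 := by
    intro h
    simp only [map_add, form_left_U2 hU hU3, form_swap y x₁, form_swap y (U *ᵥ x₁),
      form_swap (U *ᵥ y) x₁] at hK3
    apply hx₀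
    simp only [map_add, form_left_U2 hU hU3] at hK3 ⊢
    linear_combination h + hK3
  set S := a₀ + a₁ + a₂ with hSdef
  set x := (S ^ 3)⁻¹ • ((a₀ ^ 2 + 2 * a₁ * a₂) • x₁ + (2 * a₀ * a₂ + a₁ ^ 2) • (U *ᵥ x₁) +
    (2 * a₀ * a₁ + a₂ ^ 2) • (U *ᵥ (U *ᵥ x₁))) with hx
  refine conj_of_orbit hU hU3 h3 (x := x) (y := y) (p := e) (q := 0) (r := 0) (s := e)
    (fun z => by rw [hg, hg, Matrix.mulVec_smul]) (by rw [hg, zero_smul, add_zero])
    (by rw [hg, zero_smul, zero_add]) ?_ hy1 ?_ ?_ ?_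
  · simp only [hx, Matrix.mulVec_add, Matrix.mulVec_smul, map_add, map_smul, LinearMap.add_apply,
      LinearMap.smul_apply, smul_eq_mul, hU3, hU, form_U2_left hU hU3, form_left_U2 hU hU3,
      form_self, hx1, hxx']
    ring
  · simp only [hx, Matrix.mulVec_add, Matrix.mulVec_smul, map_add, map_smul, LinearMap.add_apply,
      LinearMap.smul_apply, smul_eq_mul, form_U2_left hU hU3, ← ha₀, ← ha₁, ← ha₂]
    field_simp
    rw [hSdef]
    linear_combination -(a₀ ^ 2 * a₁ + a₀ ^ 2 * a₂ + a₁ ^ 2 * a₀ + a₁ ^ 2 * a₂ + a₂ ^ 2 * a₀ +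
      a₂ ^ 2 * a₁) * h3
  · simp only [hx, Matrix.mulVec_add, Matrix.mulVec_smul, map_add, map_smul, LinearMap.add_apply,
      LinearMap.smul_apply, smul_eq_mul, hU3, form_U2_left hU hU3, ← ha₀, ← ha₁, ← ha₂]
    linear_combination (S ^ 3)⁻¹ * (a₀ ^ 2 * a₁ + a₁ ^ 2 * a₂ + a₀ * a₂ ^ 2) * h3
  · simp only [hx, map_add, map_smul, LinearMap.add_apply, LinearMap.smul_apply, smul_eq_mul,
      hU, form_U2_left hU hU3, hU3, ← ha₀, ← ha₁, ← ha₂]
    linear_combination (S ^ 3)⁻¹ * (a₀ ^ 2 * a₂ + a₁ ^ 2 * a₀ + a₂ ^ 2 * a₁) * h3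

/-- The case of a semisimple part with eigenvalues outside `±1`. -/
theorem conj_quadratic_orbit [Finite F] [CharP F 3] {c : F} {d : F} (hc4 : c ^ 2 ≠ 4)
    {g : Matrix.symplecticGroup (Fin 3) F} {S : Mat F}
    (hg : ∀ z, toMat F g *ᵥ z = S *ᵥ (U *ᵥ z))
    (hSU : ∀ z, S *ᵥ (U *ᵥ z) = U *ᵥ (S *ᵥ z))
    (hS : ∀ x y, stdForm 3 F (S *ᵥ x) (S *ᵥ y) = stdForm 3 F x y)
    (hS2 : ∀ z, S *ᵥ (S *ᵥ z) = c • (S *ᵥ z) - z)
    (hne : ∃ z, z + U *ᵥ z + U *ᵥ (U *ᵥ z) ≠ 0) : ∃ z, z * g * z⁻¹ ∈ cubicStab d := by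
  have h3 : (3 : F) = 0 := CharP.cast_eq_zero F 3
  have h2 : (2 : F) ≠ 0 := fun h => one_ne_zero (by linear_combination h3 - h : (1 : F) = 0)
  have hSadj : ∀ x y, stdForm 3 F (S *ᵥ x) y = c * stdForm 3 F x y - stdForm 3 F x (S *ᵥ y) := by
    intro x y
    have h := hS x (c • y - S *ᵥ y)
    rw [Matrix.mulVec_sub, Matrix.mulVec_smul, hS2, sub_sub_cancel, map_sub, map_smul] at h
    simpa using h
  -- find a cyclic vector
  obtain ⟨x₀, hx₀⟩ : ∃ x₀, stdForm 3 F x₀ ((S *ᵥ x₀) + U *ᵥ (S *ᵥ x₀) +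
      U *ᵥ (U *ᵥ (S *ᵥ x₀))) ≠ 0 := by
    by_contra! h
    obtain ⟨z, hz⟩ := hne
    apply hz
    have key : ∀ x w : V F, stdForm 3 F x ((2 • (S *ᵥ w) - c • w) +
        U *ᵥ (2 • (S *ᵥ w) - c • w) + U *ᵥ (U *ᵥ (2 • (S *ᵥ w) - c • w))) = 0 := by
      intro x w
      have h1 := h (x + w)
      have h4 := h x
      have h5 := h w
      simp only [map_add, map_sub, map_smul, Matrix.mulVec_add, Matrix.mulVec_sub,
        Matrix.mulVec_smul, LinearMap.add_apply, smul_eq_mul, two_nsmul,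
        form_left_U2 hU hU3] at h1 h4 h5 ⊢
      have e0 : stdForm 3 F w (S *ᵥ x) = -c * stdForm 3 F x w + stdForm 3 F x (S *ᵥ w) := by
        rw [form_swap, hSadj, form_swap]; ring
      have e1 : stdForm 3 F w (U *ᵥ (S *ᵥ x)) =
          -c * stdForm 3 F (U *ᵥ x) w + stdForm 3 F (U *ᵥ x) (S *ᵥ w) := by
        rw [form_swap, ← hSU, hSadj, form_swap]; ring
      have e2 : stdForm 3 F (U *ᵥ w) (S *ᵥ x) =
          -c * stdForm 3 F x (U *ᵥ w) + stdForm 3 F x (U *ᵥ (S *ᵥ w)) := by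
        rw [form_swap, hSadj, hSU, form_swap]; ring
      linear_combination h1 - h4 - h5 - e0 - e1 - e2
    have hw : ∀ x, stdForm 3 F x (z + U *ᵥ z + U *ᵥ (U *ᵥ z)) = 0 := by
      intro x
      -- `2 S - c` squares to `c² - 4`
      have hk := key x (2 • (S *ᵥ z) - c • z)
      have hsq : 2 • (S *ᵥ (2 • (S *ᵥ z) - c • z)) - c • (2 • (S *ᵥ z) - c • z) =
          (c ^ 2 - 4) • z := by
        simp only [two_nsmul, Matrix.mulVec_sub, Matrix.mulVec_add, Matrix.mulVec_smul, hS2]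
        module
      rw [hsq] at hk
      simp only [Matrix.mulVec_smul, map_add, map_smul, smul_eq_mul] at hk
      rw [← mul_add, ← mul_add] at hk
      simp only [map_add]
      exact (mul_eq_zero.1 hk).resolve_left (sub_ne_zero.2 hc4)
    exact eq_zero_of_form' hw
  obtain ⟨t, hx1, hK1⟩ := exists_kill hU hU3 h3 x₀ (S *ᵥ x₀) hx₀
  set x := x₀ + t • (U *ᵥ (S *ᵥ x₀) - U *ᵥ (U *ᵥ (S *ᵥ x₀))) with hxdef
  have hK2 : stdForm 3 F x (S *ᵥ x + U *ᵥ (S *ᵥ x) + U *ᵥ (U *ᵥ (S *ᵥ x))) =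
      stdForm 3 F x₀ (S *ᵥ x₀ + U *ᵥ (S *ᵥ x₀) + U *ᵥ (U *ᵥ (S *ᵥ x₀))) := by
    have e : S *ᵥ x + U *ᵥ (S *ᵥ x) + U *ᵥ (U *ᵥ (S *ᵥ x)) =
        S *ᵥ x₀ + U *ᵥ (S *ᵥ x₀) + U *ᵥ (U *ᵥ (S *ᵥ x₀)) := by
      simp only [hxdef, Matrix.mulVec_add, Matrix.mulVec_sub, Matrix.mulVec_smul, hSU, hU3]
      module
    rw [e, hK1]
  have hx1' : stdForm 3 F (U *ᵥ x) x = 0 := by rw [form_swap, hx1, neg_zero]
  set a₀ := stdForm 3 F x (S *ᵥ x) with ha₀
  set a₁ := stdForm 3 F (U *ᵥ x) (S *ᵥ x) with ha₁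
  have ha₂ : stdForm 3 F x (U *ᵥ (S *ᵥ x)) = a₁ := by
    rw [← hSU, form_swap, hSadj, hx1', mul_zero, zero_sub, neg_neg, ha₁]
  have hη : a₀ + 2 * a₁ ≠ 0 := by
    intro h
    apply hx₀
    rw [← hK2, map_add, map_add, form_left_U2 hU hU3, ha₂, ← ha₀, ← ha₁]
    linear_combination h
  set w := a₀ • x + a₁ • (U *ᵥ x) + a₁ • (U *ᵥ (U *ᵥ x)) with hw
  have w0 : stdForm 3 F w (U *ᵥ w) = 0 := by
    simp only [hw, Matrix.mulVec_add, Matrix.mulVec_smul, map_add, map_smul, LinearMap.add_apply,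
      LinearMap.smul_apply, smul_eq_mul, hU3, hU, form_U2_left hU hU3, form_left_U2 hU hU3,
      form_self, hx1, hx1']
    ring
  have ws : stdForm 3 F w (S *ᵥ w) = (a₀ + 2 * a₁) ^ 3 := by
    simp only [hw, Matrix.mulVec_add, Matrix.mulVec_smul, hSU, map_add, map_smul,
      LinearMap.add_apply, LinearMap.smul_apply, smul_eq_mul, hU3, hU, form_U2_left hU hU3,
      form_left_U2 hU hU3, ha₂, ← ha₀, ← ha₁]
    linear_combination -2 * (a₀ ^ 2 * a₁ + a₀ * a₁ ^ 2 + a₁ ^ 3) * h3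
  have wus : stdForm 3 F (U *ᵥ w) (S *ᵥ w) = 0 := by
    simp only [hw, Matrix.mulVec_add, Matrix.mulVec_smul, hSU, map_add, map_smul,
      LinearMap.add_apply, LinearMap.smul_apply, smul_eq_mul, hU3, hU, form_U2_left hU hU3,
      form_left_U2 hU hU3, ha₂, ← ha₀, ← ha₁]
    linear_combination (a₀ ^ 2 * a₁ + a₀ * a₁ ^ 2 + a₁ ^ 3) * h3
  have wsu : stdForm 3 F w (U *ᵥ (S *ᵥ w)) = 0 := by
    simp only [hw, Matrix.mulVec_add, Matrix.mulVec_smul, hSU, map_add, map_smul,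
      LinearMap.add_apply, LinearMap.smul_apply, smul_eq_mul, hU3, hU, form_U2_left hU hU3,
      form_left_U2 hU hU3, ha₂, ← ha₀, ← ha₁]
    linear_combination (a₀ ^ 2 * a₁ + a₀ * a₁ ^ 2 + a₁ ^ 3) * h3
  -- choose a norm
  set η := (a₀ + 2 * a₁) ^ 3
  have hη0 : η ≠ 0 := pow_ne_zero _ hη
  haveI := Fintype.ofFinite F
  have hk : 1 - c ^ 2 ≠ 0 := fun h => hc4 (by linear_combination -h - h3)
  obtain ⟨P, Q, hPQ⟩ := FiniteField.exists_root_sum_quadratic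
    (f := Polynomial.X ^ 2) (g := Polynomial.C (1 - c ^ 2) * Polynomial.X ^ 2 - Polynomial.C η⁻¹)
    (Polynomial.degree_X_pow 2)
    (by
      rw [Polynomial.degree_sub_eq_left_of_degree_lt] <;> rw [Polynomial.degree_C_mul_X_pow 2 hk]
      · rfl
      · exact lt_of_le_of_lt Polynomial.degree_C_le (by decide))
    (by
      refine FiniteField.odd_card_of_char_ne_two ?_
      rw [ringChar.eq F 3]
      decide)
  simp only [Polynomial.eval_pow, Polynomial.eval_X, Polynomial.eval_sub, Polynomial.eval_mul,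
    Polynomial.eval_C] at hPQ
  set α := P + c * Q with hα
  have hαQ : (α ^ 2 + c * α * Q + Q ^ 2) * η = 1 := by
    rw [hα]
    linear_combination η * hPQ + mul_inv_cancel₀ hη0 +
      (c * P * Q + c ^ 2 * Q ^ 2) * η * h3
  set X := α • w + Q • (S *ᵥ w) with hX
  have hX2 : S *ᵥ X = α • (S *ᵥ w) + Q • (c • (S *ᵥ w) - w) := by
    rw [hX, Matrix.mulVec_add, Matrix.mulVec_smul, Matrix.mulVec_smul, hS2]
  have hXX : stdForm 3 F X (U *ᵥ X) = 0 := by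
    simp only [hX, Matrix.mulVec_add, Matrix.mulVec_smul, map_add, map_smul, LinearMap.add_apply,
      LinearMap.smul_apply, smul_eq_mul, w0, wsu]
    rw [← hSU, hS, form_swap (S *ᵥ w), wus, w0]
    ring
  have hgU : ∀ z, toMat F g *ᵥ (U *ᵥ z) = U *ᵥ (toMat F g *ᵥ z) := fun z => by
    rw [hg, hg, hSU]
  refine conj_of_orbit hU hU3 h3 (x := X) (y := S *ᵥ X) (p := c) (q := 1) (r := -1) (s := 0)
    hgU ?_ ?_ hXX ?_ ?_ ?_ ?_
  · rw [hg, hSU, hS2, Matrix.mulVec_sub, Matrix.mulVec_smul, neg_smul, one_smul, sub_eq_add_neg]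
  · rw [hg, hSU, one_smul, zero_smul, add_zero]
  · rw [← hSU, hS, hXX]
  · rw [hX2]
    simp only [hX, map_add, map_sub, map_smul, LinearMap.add_apply,
      LinearMap.smul_apply, smul_eq_mul, form_self, ws, form_swap (S *ᵥ w) w]
    linear_combination hαQ
  · rw [hX2]
    simp only [hX, Matrix.mulVec_add, Matrix.mulVec_smul, map_add, map_sub, map_smul,
      LinearMap.add_apply, LinearMap.smul_apply, smul_eq_mul, wus, form_swap (U *ᵥ w) w, w0,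
      form_swap (U *ᵥ (S *ᵥ w)) w, wsu]
    rw [← hSU, hS, form_swap (U *ᵥ w) w, w0]
    ring
  · rw [hX2]
    simp only [hX, Matrix.mulVec_add, Matrix.mulVec_sub, Matrix.mulVec_smul, map_add, map_sub,
      map_smul, LinearMap.add_apply, LinearMap.smul_apply, smul_eq_mul, wsu, w0,
      form_swap (S *ᵥ w) (U *ᵥ w), wus]
    rw [← hSU, hS, w0]
    ring

end Orbit

end Cfsg.Agent.Lib.NormalCoverTwo.SympThree
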