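import Cfsg.Agent.Lib.NormalCoverTwo.Basic
import Cfsg.Agent.Lib.Unitary.Transvection
import Cfsg.Agent.Lib.Unitary.Witt

/-!
# Normal coverings by two subgroups: tools for unitary groups
-/

set_option autoImplicit false

namespace Cfsg.Agent.Lib.NormalCoverTwo.Unitary

open Polynomial Module Cfsg.Agent.Lib.Unitary
open scoped Matrix

variable {F : Type*} [Field F] [Fintype F] {q n : ℕ}

/-- The matrix of an element of `SU`. -/
def toMat (n : ℕ) (F : Type*) [Field F] (q : ℕ) : SU n F q →* Matrix (Fin n) (Fin n) F :=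
  (slToMat n F).comp (SU n F q).subtype

omit [Fintype F] in
theorem toMat_apply (g : SU n F q) : toMat n F q g = g.1.1 := rfl

omit [Fintype F] in
theorem toMat_herm (g : SU n F q) (u v : Fin n → F) :
    hermForm n F q (toMat n F q g *ᵥ u) (toMat n F q g *ᵥ v) = hermForm n F q u v := g.2 u v

omit [Fintype F] in
theorem toMat_inv (g : SU n F q) (v : Fin n → F) :
    toMat n F q g⁻¹ *ᵥ (toMat n F q g *ᵥ v) = v := by
  rw [Matrix.mulVec_mulVec, ← map_mul, inv_mul_cancel, map_one, Matrix.one_mulVec]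

omit [Fintype F] in
theorem exists_SU_of_GU (A : GU n F q) (h : A.1.1.det = 1) :
    ∃ T : SU n F q, toMat n F q T = A.1.1 :=
  ⟨⟨⟨A.1.1, h⟩, A.2⟩, rfl⟩

theorem center_le_subStab (hF : Fintype.card F = q ^ 2) (hn : 2 ≤ n)
    (W : Submodule F (Fin n → F)) :
    Subgroup.center (SU n F q) ≤ subStab (toMat n F q) W := fun z hz => by
  obtain ⟨l, hl⟩ := (mem_center_SU_iff hF hn z).1 hz
  exact scalar_mem_subStab _ _ hl

/-- `SU` is transitive on norm-one points, up to scalars. -/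
theorem exists_SU_norm_one (hF : Fintype.card F = q ^ 2) {x y : Fin n → F}
    (hx : hermForm n F q x x = 1) (hy : hermForm n F q y y = 1) :
    ∃ (T : SU n F q) (a : F), toMat n F q T *ᵥ x = a • y := by
  obtain ⟨A, hA⟩ := exists_GU_norm_one hF hx hy
  have hd := det_norm_one hF A
  obtain ⟨S, hS, hSy, -⟩ := exists_GU_scale hF hy (inv_norm_one hF hd)
  obtain ⟨T, hT⟩ := exists_SU_of_GU (S * A) (by
    show (S.1.1 * A.1.1).det = 1
    rw [Matrix.det_mul, hS, inv_mul_cancel₀ (left_ne_zero_of_mul_eq_one hd)])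
  refine ⟨T, A.1.1.det⁻¹, ?_⟩
  rw [hT, GU_mul_mulVec, hA, hSy]

theorem exists_unit_smul (hF : Fintype.card F = q ^ 2) {v : Fin n → F}
    (hv : hermForm n F q v v ≠ 0) : ∃ t : F, hermForm n F q (t • v) (t • v) = 1 := by
  obtain ⟨t, ht⟩ := norm_surj hF (y := (hermForm n F q v v)⁻¹)
    (by rw [inv_pow, herm_self_fixed v hF])
  refine ⟨t, ?_⟩
  rw [herm_smul_left, herm_smul_right, ← mul_assoc, ht, inv_mul_cancel₀ hv]

/-- An element with an anisotropic eigenvector is conjugate into a point stabiliser. -/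
theorem exists_conj_point (hF : Fintype.card F = q ^ 2) {g : SU n F q} {v : Fin n → F} {l : F}
    (hv : hermForm n F q v v ≠ 0) (hgv : toMat n F q g *ᵥ v = l • v) {y : Fin n → F}
    (hy : hermForm n F q y y = 1) :
    ∃ x : SU n F q, x * g * x⁻¹ ∈ subStab (toMat n F q) (F ∙ y) := by
  obtain ⟨t, ht⟩ := exists_unit_smul hF hv
  obtain ⟨T, a, hT⟩ := exists_SU_norm_one hF hy ht
  refine ⟨T⁻¹, (mem_subStab_span_singleton_iff _ _ _).2 ⟨l, ?_⟩⟩
  have h := congrArg (fun z => toMat n F q T⁻¹ *ᵥ z) hT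
  simp only [Matrix.mulVec_smul, toMat_inv] at h
  rw [inv_inv, map_mul, map_mul, ← Matrix.mulVec_mulVec, ← Matrix.mulVec_mulVec, hT]
  simp only [Matrix.mulVec_smul, hgv]
  rw [smul_comm t l, smul_comm a l, ← h]

/-- The point stabiliser is proper. -/
theorem subStab_point_ne_top (hF : Fintype.card F = q ^ 2) (hn : 2 ≤ n) :
    subStab (toMat n F q) (F ∙ (Pi.single ⟨0, by omega⟩ 1 : Fin n → F)) ≠ ⊤ := by
  intro h
  obtain ⟨T, a, hT⟩ := exists_SU_norm_one hF
    (x := (Pi.single ⟨0, by omega⟩ 1 : Fin n → F)) (y := Pi.single ⟨1, by omega⟩ 1)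
    (by simp [herm_std hF]) (by simp [herm_std hF])
  obtain ⟨l, hl⟩ := (mem_subStab_span_singleton_iff _ _ _).1 ((Subgroup.eq_top_iff' _).1 h T)
  rw [hT] at hl
  have ha : a = 0 := by simpa [Fin.ext_iff, Pi.single_apply] using congrFun hl ⟨1, by omega⟩
  have h2 := toMat_inv T (Pi.single ⟨0, by omega⟩ 1 : Fin n → F)
  rw [hT, ha, zero_smul, Matrix.mulVec_zero] at h2
  simpa using congrFun h2 ⟨0, by omega⟩

/-- The conjugate-reciprocal of a polynomial. -/
noncomputable def conjRec (q : ℕ) (r : F[X]) : F[X] :=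
  ∑ i ∈ Finset.range (r.natDegree + 1), C (r.coeff i ^ q) * X ^ (r.natDegree - i)

omit [Fintype F] in
theorem mulVec_sum_smul_pow {ι : Type*} [Fintype ι] [DecidableEq ι] (M : Matrix ι ι F)
    (s : Finset ℕ) (c : ℕ → F) (e : ℕ → ℕ) (v : ι → F) :
    (aeval M (∑ i ∈ s, C (c i) * X ^ e i)) *ᵥ v = ∑ i ∈ s, c i • (M ^ e i) *ᵥ v := by
  rw [map_sum, Matrix.sum_mulVec]
  refine Finset.sum_congr rfl fun i _ => ?_
  rw [map_mul, aeval_C, aeval_X_pow, ← Matrix.smul_mulVec, Algebra.smul_def]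

theorem herm_pow_pow {M : Matrix (Fin n) (Fin n) F}
    (hM : ∀ u v, hermForm n F q (M *ᵥ u) (M *ᵥ v) = hermForm n F q u v) (k : ℕ)
    (u v : Fin n → F) : hermForm n F q ((M ^ k) *ᵥ u) ((M ^ k) *ᵥ v) = hermForm n F q u v := by
  induction k generalizing u v with
  | zero => simp
  | succ k ih => rw [pow_succ, ← Matrix.mulVec_mulVec, ← Matrix.mulVec_mulVec, ih, hM]

/-- The kernel of `r(M)` is orthogonal to the image of the conjugate-reciprocal. -/
theorem herm_conjRec (hF : Fintype.card F = q ^ 2) {M : Matrix (Fin n) (Fin n) F}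
    (hM : ∀ u v, hermForm n F q (M *ᵥ u) (M *ᵥ v) = hermForm n F q u v) (r : F[X])
    {x : Fin n → F} (hx : aeval M r *ᵥ x = 0) (z : Fin n → F) :
    hermForm n F q x (aeval M (conjRec q r) *ᵥ z) = 0 := by
  have h1 : ∑ i ∈ Finset.range (r.natDegree + 1), r.coeff i • (M ^ i) *ᵥ x = 0 := by
    conv_rhs => rw [← hx, r.as_sum_range_C_mul_X_pow]
    rw [mulVec_sum_smul_pow]
  rw [conjRec, mulVec_sum_smul_pow, herm_sum_right _ hF]
  calc ∑ i ∈ Finset.range (r.natDegree + 1),
        hermForm n F q x (r.coeff i ^ q • (M ^ (r.natDegree - i)) *ᵥ z)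
      = ∑ i ∈ Finset.range (r.natDegree + 1),
          hermForm n F q (r.coeff i • (M ^ i) *ᵥ x) ((M ^ r.natDegree) *ᵥ z) := by
        refine Finset.sum_congr rfl fun i hi => ?_
        rw [herm_smul_right, pow_q_q hF, herm_smul_left,
          ← herm_pow_pow hM i x ((M ^ (r.natDegree - i)) *ᵥ z), Matrix.mulVec_mulVec, ← pow_add,
          Nat.add_sub_cancel' (Nat.lt_succ_iff.1 (Finset.mem_range.1 hi))]
    _ = 0 := by rw [← herm_sum_left, h1, herm_zero_left]

theorem herm_eq_zero_of_coprime (hF : Fintype.card F = q ^ 2) {M : Matrix (Fin n) (Fin n) F}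
    (hM : ∀ u v, hermForm n F q (M *ᵥ u) (M *ᵥ v) = hermForm n F q u v) (r r' : F[X])
    (hco : IsCoprime r' (conjRec q r)) {x y : Fin n → F} (hx : aeval M r *ᵥ x = 0)
    (hy : aeval M r' *ᵥ y = 0) : hermForm n F q x y = 0 := by
  obtain ⟨a, b, hab⟩ := hco
  have h : y = aeval M (conjRec q r) *ᵥ (aeval M b *ᵥ y) := by
    have h1 : aeval M (a * r' + b * conjRec q r) *ᵥ y = y := by
      rw [hab, map_one, Matrix.one_mulVec]
    rw [map_add, Matrix.add_mulVec, map_mul, ← Matrix.mulVec_mulVec, hy, Matrix.mulVec_zero,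
      zero_add, mul_comm b, map_mul, ← Matrix.mulVec_mulVec] at h1
    exact h1.symm
  rw [h]
  exact herm_conjRec hF hM r hx _

/-- An irreducible polynomial of even degree is prime to its conjugate-reciprocal. -/
theorem coprime_conjRec (hF : Fintype.card F = q ^ 2) {r : F[X]} (hm : r.Monic)
    (hr : Irreducible r) (heven : Even r.natDegree) : IsCoprime r (conjRec q r) := by
  rw [hr.coprime_iff_not_dvd]
  intro hdvd
  haveI : Fact (Irreducible r) := ⟨hr⟩
  haveI : Module.Finite F (AdjoinRoot r) := hm.finite_adjoinRoot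
  haveI : Finite (AdjoinRoot r) := Module.finite_of_finite F
  obtain ⟨p, k, hp, hchar, -, hq⟩ := q_eq_primePow hF
  haveI := hchar
  haveI := Fact.mk hp
  haveI : CharP (AdjoinRoot r) p := charP_of_injective_algebraMap' F p
  set θ := AdjoinRoot.root r with hθ
  have hadd : ∀ a b : AdjoinRoot r, (a + b) ^ q = a ^ q + b ^ q := fun a b => by
    rw [hq, add_pow_char_pow]
  have hq0 := q_ne_zero hF
  let φ : AdjoinRoot r →+* AdjoinRoot r :=
    { toFun := fun x => x ^ q
      map_one' := one_pow q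
      map_mul' := fun x y => mul_pow x y q
      map_zero' := zero_pow hq0
      map_add' := hadd }
  have hθ0 : θ ≠ 0 := fun h => by
    have h1 : AdjoinRoot.mk r X = 0 := by rw [AdjoinRoot.mk_X]; exact h
    rw [AdjoinRoot.mk_eq_zero] at h1
    have h2 := natDegree_le_of_dvd h1 X_ne_zero
    rw [natDegree_X] at h2
    have h3 := hr.natDegree_pos
    obtain ⟨j, hj⟩ := heven
    omega
  have hs : aeval θ (conjRec q r) = 0 := by
    rw [hθ, AdjoinRoot.aeval_eq, AdjoinRoot.mk_eq_zero]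
    exact hdvd
  -- hence `θ⁻ᵠ` is a root of `r`
  have hroot : aeval (θ⁻¹ ^ q) r = 0 := by
    have h1 : ∑ i ∈ Finset.range (r.natDegree + 1),
        algebraMap F (AdjoinRoot r) (r.coeff i ^ q) * θ⁻¹ ^ i = 0 := by
      have hp0 : θ ^ r.natDegree ≠ 0 := pow_ne_zero _ hθ0
      apply mul_left_cancel₀ hp0
      rw [mul_zero, ← hs, conjRec, map_sum, Finset.mul_sum]
      refine Finset.sum_congr rfl fun i hi => ?_
      rw [map_mul, aeval_C, aeval_X_pow, inv_pow,
        pow_sub₀ _ hθ0 (Nat.lt_succ_iff.1 (Finset.mem_range.1 hi))]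
      ring
    have h2 := congrArg φ h1
    rw [map_sum, map_zero] at h2
    refine (congrArg (aeval (θ⁻¹ ^ q)) r.as_sum_range_C_mul_X_pow).trans ?_
    rw [← h2, map_sum]
    refine Finset.sum_congr rfl fun i _ => ?_
    show _ = (algebraMap F (AdjoinRoot r) (r.coeff i ^ q) * θ⁻¹ ^ i) ^ q
    rw [map_mul, aeval_C, aeval_X_pow, mul_pow, ← map_pow, pow_q_q hF, ← pow_mul, ← pow_mul,
      mul_comm q i]
  obtain ⟨⟨j, hjlt⟩, hj⟩ := (FiniteField.bijective_frobeniusAlgHom_pow F (AdjoinRoot r)).2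
    (AdjoinRoot.liftAlgHom r (Algebra.ofId F _) (θ⁻¹ ^ q) hroot)
  have hfr : ∀ (i : ℕ) (y : AdjoinRoot r),
      (FiniteField.frobeniusAlgHom F (AdjoinRoot r) ^ i) y = y ^ q ^ (2 * i) := by
    intro i
    induction i with
    | zero => simp
    | succ i ih =>
      intro y
      rw [pow_succ', AlgHom.mul_apply, ih, FiniteField.coe_frobeniusAlgHom]
      simp only [hF]
      rw [← pow_mul, ← pow_add, mul_add, mul_one]
  have hθj : θ⁻¹ ^ q = θ ^ q ^ (2 * j) := by
    have h := DFunLike.congr_fun hj (AdjoinRoot.root r)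
    refine Eq.trans ?_ (h.symm.trans (hfr j θ))
    exact (AdjoinRoot.liftAlgHom_root r (Algebra.ofId F _) (θ⁻¹ ^ q) hroot).symm
  have key : ∀ i : ℕ, θ ^ q ^ (2 * i) = θ → r.natDegree ∣ i := by
    intro i hi
    have h1 : FiniteField.frobeniusAlgHom F (AdjoinRoot r) ^ i = 1 := by
      refine AdjoinRoot.algHom_ext ?_
      rw [hfr, AlgHom.one_apply]
      exact hi
    have h2 := orderOf_dvd_of_pow_eq_one h1
    rwa [FiniteField.orderOf_frobeniusAlgHom, (AdjoinRoot.powerBasis hr.ne_zero).finrank,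
      AdjoinRoot.powerBasis_dim] at h2
  have h2d : ¬ r.natDegree ∣ 1 := fun h => by
    have := Nat.dvd_one.1 h
    rw [this] at heven
    exact absurd heven (by decide)
  rcases Nat.eq_zero_or_pos j with rfl | hj0
  · rw [mul_zero, pow_zero, pow_one, inv_pow, inv_eq_iff_eq_inv] at hθj
    refine h2d (key 1 ?_)
    rw [mul_one, sq, pow_mul, hθj, inv_pow, hθj, inv_inv]
  · have hinj : θ⁻¹ = θ ^ q ^ (2 * j - 1) := by
      apply φ.injective
      show θ⁻¹ ^ q = (θ ^ q ^ (2 * j - 1)) ^ q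
      rw [hθj, ← pow_mul, ← pow_succ, Nat.sub_add_cancel (by omega)]
    have h := key (2 * j - 1) (by
      rw [two_mul (2 * j - 1), pow_add q, pow_mul θ, ← hinj, inv_pow, ← hinj, inv_inv])
    obtain ⟨e, he⟩ := heven
    obtain ⟨c, hc⟩ := h
    rw [he, add_mul] at hc
    omega

end Cfsg.Agent.Lib.NormalCoverTwo.Unitary
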