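import Cfsg.Agent.Lib.NormalCoverTwo.Unitary
import Cfsg.Agent.Lib.NormalCoverTwo.Linear
import Cfsg.Agent.Lib.NormalCoverTwo.CubicModel

/-!
# Normal coverings by two subgroups: `PSU₃(3^a)`
-/

set_option autoImplicit false

namespace Cfsg.Agent.Lib.NormalCoverTwo.Unitary

open Polynomial Module Cfsg.Agent.Lib.Unitary
open scoped Matrix

variable {F : Type*} [Field F] [Fintype F] {q : ℕ}

/-- An element conjugate in `GU` into the shift stabiliser is conjugate in `SU` into it. -/
theorem exists_SU_conj_shift (hF : Fintype.card F = q ^ 2) [CharP F 3] {g : SU 3 F q} (A : GU 3 F q)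
    (D G : Matrix (Fin 3) (Fin 3) F) (hG : ∀ z, toMat 3 F q g *ᵥ (A.1.1 *ᵥ z) = A.1.1 *ᵥ (G *ᵥ z))
    (i : ℤ) (hD : G * D = (D + (i : Matrix (Fin 3) (Fin 3) F)) * G) :
    ∃ x : SU 3 F q, x * g * x⁻¹ ∈ shiftStab (toMat 3 F q) D := by
  obtain ⟨l, hl⟩ := cube_surjective (F := F) A.1.1.det⁻¹
  have hl' : l ^ 3 = A.1.1.det⁻¹ := hl
  have hd := det_norm_one hF A
  have hln : l * l ^ q = 1 := by
    apply cube_injective (F := F)
    show (l * l ^ q) ^ 3 = 1 ^ 3
    rw [one_pow, mul_pow, ← pow_mul, mul_comm q, pow_mul, hl']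
    exact inv_norm_one hF hd
  let S : GU 3 F q := mkGU hF (l • 1) fun u v => by
    rw [Matrix.smul_mulVec, Matrix.smul_mulVec, Matrix.one_mulVec, Matrix.one_mulVec,
      herm_smul_left, herm_smul_right, ← mul_assoc, hln, one_mul]
  obtain ⟨T, hT⟩ := exists_SU_of_GU (A * S) (by
    show (A.1.1 * (l • (1 : Matrix (Fin 3) (Fin 3) F))).det = 1
    rw [Matrix.det_mul, Matrix.det_smul, Matrix.det_one, mul_one, Fintype.card_fin, hl',
      mul_inv_cancel₀ (left_ne_zero_of_mul_eq_one hd)])
  refine ⟨T⁻¹, i, ?_⟩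
  have hTG : toMat 3 F q (T⁻¹ * g * T⁻¹⁻¹) = G := by
    refine Matrix.mulVec_injective (funext fun z => ?_)
    have h1 : toMat 3 F q g *ᵥ (toMat 3 F q T *ᵥ z) = toMat 3 F q T *ᵥ (G *ᵥ z) := by
      rw [hT]
      show toMat 3 F q g *ᵥ ((A.1.1 * (l • (1 : Matrix (Fin 3) (Fin 3) F))) *ᵥ z) =
        (A.1.1 * (l • (1 : Matrix (Fin 3) (Fin 3) F))) *ᵥ (G *ᵥ z)
      simp only [← Matrix.mulVec_mulVec, Matrix.smul_mulVec, Matrix.one_mulVec,
        Matrix.mulVec_smul, hG]
    rw [inv_inv, map_mul, map_mul]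
    simp only [← Matrix.mulVec_mulVec, h1, toMat_inv]
  rw [hTG]
  exact hD

theorem covered_PSU_three (hF : Fintype.card F = q ^ 2) [CharP F 3] :
    Covered (Cfsg.PSU 3 F q) := by
  classical
  haveI : Fact (Nat.Prime 3) := ⟨Nat.prime_three⟩
  have h3 : (3 : F) = 0 := CharP.cast_eq_zero F 3
  obtain ⟨c, hcfix, hc⟩ := exists_cubic_param (conj hF) (fun x => by
    simp only [conj_apply]; exact pow_q_q hF x)
  rw [conj_apply] at hcfix
  have hc0 : c ≠ 0 := fun h => hc 0 (by rw [h]; ring)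
  set D := cubicM c with hDdef
  have hDfix : ∀ i j, D i j ^ q = D i j := by
    intro i j
    have h2 : (2 : F) ^ q = 2 := by
      rw [← one_add_one_eq_two, add_pow_q hF, one_pow]
    fin_cases i <;> fin_cases j <;> simp [D, cubicM, zero_pow_q hF, hcfix, h2]
  have hDsymm : ∀ i j, D i j = D j i := by
    intro i j
    fin_cases i <;> fin_cases j <;> simp [D, cubicM]
  have hDadj : ∀ u v, hermForm 3 F q (D *ᵥ u) v = hermForm 3 F q u (D *ᵥ v) := by
    intro u v
    simp only [hermForm, Matrix.mulVec, dotProduct, sum_pow_q hF, mul_pow, hDfix, Finset.sum_mul,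
      Finset.mul_sum]
    rw [Finset.sum_comm]
    refine Finset.sum_congr rfl fun i _ => Finset.sum_congr rfl fun j _ => ?_
    rw [hDsymm j i]; ring
  refine covered_quotient _ (subStab_point_ne_top hF (by norm_num))
    (K := shiftStab (toMat 3 F q) D) ?_ (center_le_subStab hF (by norm_num) _) ?_ fun g => ?_
  · intro h
    set G : Matrix (Fin 3) (Fin 3) F := !![0, 1, 0; 1, 0, 0; 0, 0, -1] with hG
    have hpres : ∀ u v, hermForm 3 F q (G *ᵥ u) (G *ᵥ v) = hermForm 3 F q u v := by
      intro u v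
      simp [hermForm, G, Matrix.mulVec, dotProduct, Fin.sum_univ_three, neg_pow_q hF]
      ring
    obtain ⟨T, hT⟩ := exists_SU_of_GU (mkGU hF G hpres) (by simp [G, Matrix.det_fin_three])
    obtain ⟨i, hi⟩ := (Subgroup.eq_top_iff' _).1 h T
    rw [hT, mkGU_val, ← zsmul_one, ← Int.cast_smul_eq_zsmul F] at hi
    have e1 := congrFun (congrFun hi 0) 1
    have e2 := congrFun (congrFun hi 2) 2
    simp [G, D, cubicM, Matrix.mul_apply, Fin.sum_univ_three, Matrix.smul_apply] at e1 e2
    exact one_ne_zero (by linear_combination h3 - e1 - e2 : (1 : F) = 0)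
  · intro z hz
    obtain ⟨l, hl⟩ := (mem_center_SU_iff hF (by norm_num) z).1 hz
    refine mem_shiftStab_of_commute _ _ (Matrix.mulVec_injective (funext fun v => ?_))
    rw [← Matrix.mulVec_mulVec, ← Matrix.mulVec_mulVec]
    show z.1.1 *ᵥ _ = _ *ᵥ (z.1.1 *ᵥ v)
    rw [hl, hl, Matrix.mulVec_smul]
  set M := toMat 3 F q g with hMdef
  have hM : ∀ u v, hermForm 3 F q (M *ᵥ u) (M *ᵥ v) = hermForm 3 F q u v := toMat_herm g
  have hadd : ∀ a b c : Fin 3 → F,
      hermForm 3 F q a (b + c) = hermForm 3 F q a b + hermForm 3 F q a c :=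
    fun a b c => herm_add_right a b c hF
  by_cases hani : ∃ (v : Fin 3 → F) (l : F), hermForm 3 F q v v ≠ 0 ∧ M *ᵥ v = l • v
  · obtain ⟨v, l, hv, hgv⟩ := hani
    obtain ⟨x, hx⟩ := exists_conj_point hF hv hgv (y := Pi.single ⟨0, by norm_num⟩ 1)
      (by simp [herm_std hF])
    exact ⟨x, Or.inl hx⟩
  suffices H : ∃ x : SU 3 F q, x * g * x⁻¹ ∈ shiftStab (toMat 3 F q) D from
    H.imp fun x hx => Or.inr hx
  by_cases heig : ∃ (v : Fin 3 → F) (l : F), v ≠ 0 ∧ M *ᵥ v = l • v
  · -- a regular unipotent element, up to scalar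
    obtain ⟨v, l, hv0, hv⟩ := heig
    have hviso : hermForm 3 F q v v = 0 := by
      by_contra h
      exact hani ⟨v, l, h, hv⟩
    have hl0 : l ≠ 0 := fun h0 => hv0 (by
      rw [← toMat_inv g v, ← hMdef, hv, h0, zero_smul, Matrix.mulVec_zero])
    set U := perp q (F ∙ v) with hUdef
    have hUrank : finrank F U = 2 := by
      have h := finrank_perp hF (F ∙ v)
      have h1 : finrank F (F ∙ v : Submodule F (Fin 3 → F)) = 1 := finrank_span_singleton hv0
      rw [← hUdef] at h
      omega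
    have hvU : v ∈ U := fun y hy => by
      obtain ⟨d, rfl⟩ := Submodule.mem_span_singleton.1 hy
      rw [herm_smul_right, hviso, mul_zero]
    obtain ⟨w, hwU, hwv⟩ : ∃ w, w ∈ U ∧ w ∉ F ∙ v := by
      by_contra! hall
      have := Submodule.finrank_mono (show U ≤ F ∙ v from hall)
      rw [finrank_span_singleton hv0, hUrank] at this
      omega
    have hperpv : ∀ z ∈ U, hermForm 3 F q z v = 0 := fun z hz =>
      hz v (Submodule.mem_span_singleton_self v)
    have hwv0 := hperpv w hwU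
    have hvw0 := herm_eq_zero_symm hF hwv0
    have hli : LinearIndependent F ![v, w] := by
      rw [linearIndependent_fin2]
      refine ⟨fun h => hwv ?_, fun a ha => ?_⟩
      · simp at h
        rw [h]
        exact Submodule.zero_mem _
      · simp at ha
        have ha0 : a ≠ 0 := fun h => hv0 (by rw [← ha, h, zero_smul])
        exact hwv (Submodule.mem_span_singleton.2 ⟨a⁻¹, by rw [← ha, inv_smul_smul₀ ha0]⟩)
    have hUspan : U = Submodule.span F {v, w} := by
      refine (Submodule.eq_of_le_of_finrank_eq (Submodule.span_le.2 ?_) ?_).symm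
      · rintro y (rfl | rfl)
        · exact hvU
        · exact hwU
      · have h := finrank_span_eq_card hli
        rw [Matrix.range_cons_cons_empty, Fintype.card_fin] at h
        rw [h, hUrank]
    have hww : hermForm 3 F q w w ≠ 0 := by
      intro h
      apply hwv
      rw [← perp_perp hF (F ∙ v), ← hUdef]
      intro z hz
      rw [hUspan] at hz
      obtain ⟨a, b, rfl⟩ := Submodule.mem_span_pair.1 hz
      rw [hadd, herm_smul_right, herm_smul_right, hwv0, h, mul_zero, mul_zero, add_zero]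
    have hMU : ∀ z, z ∈ U ↔ hermForm 3 F q z v = 0 := fun z => by
      refine ⟨hperpv z, fun hz y hy => ?_⟩
      obtain ⟨d, rfl⟩ := Submodule.mem_span_singleton.1 hy
      rw [herm_smul_right, hz, mul_zero]
    have hlq := pow_ne_zero q hl0
    have hMv : ∀ z, l ^ q * hermForm 3 F q (M *ᵥ z) v = hermForm 3 F q z v := fun z => by
      rw [← herm_smul_right, ← hv, hM]
    have hMw : M *ᵥ w ∈ Submodule.span F {v, w} := by
      rw [← hUspan, hMU]
      have h := hMv w
      rw [hwv0, mul_eq_zero] at h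
      exact h.resolve_left hlq
    obtain ⟨α, μ, hαμ⟩ := Submodule.mem_span_pair.1 hMw
    obtain rfl : μ = l := by
      by_contra hne
      have hne' : μ - l ≠ 0 := sub_ne_zero.2 hne
      refine hani ⟨w + (α / (μ - l)) • v, μ, ?_, ?_⟩
      · simp only [herm_add_left, hadd, herm_smul_left, herm_smul_right, hviso, hwv0, hvw0,
          mul_zero, add_zero]
        exact hww
      · have he : α + α / (μ - l) * l = μ * (α / (μ - l)) := by field_simp; ring
        rw [Matrix.mulVec_add, Matrix.mulVec_smul, hv, ← hαμ, smul_add, smul_smul, smul_smul,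
          ← he, add_smul]
        abel
    have hα : α ≠ 0 := fun h0 => by
      rw [h0, zero_smul, zero_add] at hαμ
      exact hani ⟨w, μ, hww, hαμ.symm⟩
    have hnorm : μ * μ ^ q = 1 := by
      have h := hM w w
      rw [← hαμ] at h
      simp only [herm_add_left, hadd, herm_smul_left, herm_smul_right, hviso, hwv0, hvw0,
        mul_zero, zero_add] at h
      exact mul_right_cancel₀ hww (by linear_combination h)
    -- the nilpotent part
    have hN : ∀ z, ∃ γ β : F, M *ᵥ z = μ • z + γ • v + β • w := by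
      intro z
      have h0 : M *ᵥ z - μ • z ∈ U := by
        rw [hMU, herm_sub_left, herm_smul_left, ← hMv z, ← mul_assoc, hnorm, one_mul, sub_self]
      rw [hUspan] at h0
      obtain ⟨γ, β, h⟩ := Submodule.mem_span_pair.1 h0
      exact ⟨γ, β, by rw [add_assoc, h]; abel⟩
    obtain ⟨f, -, -, hvf⟩ := exists_hyp hF hv0 hviso
    have hfv : hermForm 3 F q f v = 1 := by rw [← herm_conj v f hF, hvf, one_pow]
    obtain ⟨γ, β, hf⟩ := hN f
    have hβ : β ≠ 0 := by
      intro h0
      apply hα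
      rw [h0, zero_smul, add_zero] at hf
      have h := hM f w
      rw [hf, ← hαμ] at h
      simp only [herm_add_left, hadd, herm_smul_left, herm_smul_right, hviso, hvw0, hfv,
        mul_zero, add_zero, mul_one] at h
      have h' : μ * α ^ q = 0 := by
        linear_combination h - hermForm 3 F q f w * hnorm
      exact (pow_eq_zero_iff (q_ne_zero hF)).1 ((mul_eq_zero.1 h').resolve_left hl0)
    -- the unipotent part
    set u := μ⁻¹ • M with hu
    have hμi := inv_norm_one hF hnorm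
    have hupres : ∀ y z, hermForm 3 F q (u *ᵥ y) (u *ᵥ z) = hermForm 3 F q y z := by
      intro y z
      rw [hu, Matrix.smul_mulVec, Matrix.smul_mulVec, herm_smul_left, herm_smul_right,
        ← mul_assoc, hμi, one_mul, hM]
    have huv : u *ᵥ v = v := by rw [hu, Matrix.smul_mulVec, hv, inv_smul_smul₀ hl0]
    have huw : u *ᵥ w = w + (μ⁻¹ * α) • v := by
      rw [hu, Matrix.smul_mulVec, ← hαμ, smul_add, inv_smul_smul₀ hl0, smul_smul, add_comm]
    have huz : ∀ z, ∃ γ β : F, u *ᵥ z = z + γ • v + β • w := by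
      intro z
      obtain ⟨γ, β, h⟩ := hN z
      exact ⟨μ⁻¹ * γ, μ⁻¹ * β, by
        rw [hu, Matrix.smul_mulVec, h, smul_add, smul_add, inv_smul_smul₀ hl0, smul_smul,
          smul_smul]⟩
    have hu3 : ∀ z, u *ᵥ (u *ᵥ (u *ᵥ z)) = z := by
      intro z
      obtain ⟨γ, β, h⟩ := huz z
      simp only [h, Matrix.mulVec_add, Matrix.mulVec_smul, huv, huw]
      ext i
      simp only [Pi.add_apply, Pi.smul_apply, smul_eq_mul]
      linear_combination (γ * v i + β * w i + β * (μ⁻¹ * α) * v i) * h3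
    -- normalise
    have hε : hermForm 3 F q (f + u *ᵥ f + u *ᵥ (u *ᵥ f)) f = μ⁻¹ * β * (μ⁻¹ * α) := by
      have h : u *ᵥ f = f + (μ⁻¹ * γ) • v + (μ⁻¹ * β) • w := by
        rw [hu, Matrix.smul_mulVec, hf, smul_add, smul_add, inv_smul_smul₀ hl0, smul_smul,
          smul_smul]
      simp only [h, Matrix.mulVec_add, Matrix.mulVec_smul, huv, huw, herm_add_left, herm_smul_left,
        hvf]
      linear_combination (hermForm 3 F q f f + μ⁻¹ * γ + μ⁻¹ * β * hermForm 3 F q w f) * h3
    set ε := hermForm 3 F q (f + u *ᵥ f + u *ᵥ (u *ᵥ f)) f with hεdef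
    have hε0 : ε ≠ 0 := by
      rw [hε]
      simp [hl0, hα, hβ]
    have hc12 : ∀ x, hermForm 3 F q x (u *ᵥ x) = hermForm 3 F q (u *ᵥ (u *ᵥ x)) x := fun x => by
      rw [← hupres x (u *ᵥ x), ← hupres (u *ᵥ x) (u *ᵥ (u *ᵥ x)), hu3]
    have hc21 : ∀ x, hermForm 3 F q x (u *ᵥ (u *ᵥ x)) = hermForm 3 F q (u *ᵥ x) x := fun x => by
      rw [← hupres x (u *ᵥ (u *ᵥ x)), hu3]
    have hεfix : ε ^ q = ε := by
      rw [hεdef, herm_add_left, herm_add_left, add_pow_q hF, add_pow_q hF, herm_conj _ _ hF,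
        herm_conj _ _ hF, herm_conj _ _ hF, hc12, hc21]
      ring
    obtain ⟨s, hs⟩ := norm_surj hF (y := ε⁻¹) (by rw [inv_pow, hεfix])
    set x := s • f with hx
    set c₀ := hermForm 3 F q x x with hc₀
    set c₁ := hermForm 3 F q (u *ᵥ x) x with hc₁
    set c₂ := hermForm 3 F q (u *ᵥ (u *ᵥ x)) x with hc₂
    have hsum : c₀ + c₁ + c₂ = 1 := by
      rw [← inv_mul_cancel₀ hε0, ← hs]
      simp only [hc₀, hc₁, hc₂, hx, hεdef, Matrix.mulVec_smul, herm_add_left, herm_smul_left,
        herm_smul_right]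
      ring
    have hq0 : c₀ ^ q = c₀ := herm_self_fixed x hF
    have hq1 : c₁ ^ q = c₂ := by rw [hc₁, herm_conj _ _ hF, hc12]
    have hq2 : c₂ ^ q = c₁ := by rw [hc₂, herm_conj _ _ hF, hc21]
    set y := c₀ • x + c₂ • (u *ᵥ x) + c₁ • (u *ᵥ (u *ᵥ x)) with hy
    have hy0 : hermForm 3 F q y y = 1 := by
      simp only [hy, herm_add_left, hadd, herm_smul_left, herm_smul_right, hupres, hq0, hq1, hq2,
        hc12, hc21, ← hc₀, ← hc₁, ← hc₂]
      linear_combination ((c₀ + c₁ + c₂) ^ 2 + (c₀ + c₁ + c₂) + 1) * hsum -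
        (c₀ ^ 2 * c₁ + c₀ ^ 2 * c₂ + c₁ ^ 2 * c₀ + c₁ ^ 2 * c₂ + c₂ ^ 2 * c₀ + c₂ ^ 2 * c₁) * h3
    have hy1 : hermForm 3 F q (u *ᵥ y) y = 0 := by
      simp only [hy, Matrix.mulVec_add, Matrix.mulVec_smul, hu3, herm_add_left, hadd,
        herm_smul_left, herm_smul_right, hupres, hq0, hq1, hq2, hc12, hc21, ← hc₀, ← hc₁, ← hc₂]
      first
      | linear_combination (c₀ ^ 2 * c₁ + c₁ ^ 2 * c₂ + c₂ ^ 2 * c₀) * h3
      | linear_combination (c₀ ^ 2 * c₂ + c₂ ^ 2 * c₁ + c₁ ^ 2 * c₀) * h3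
    have hy1' : hermForm 3 F q y (u *ᵥ y) = 0 := herm_eq_zero_symm hF hy1
    have hy2' : hermForm 3 F q y (u *ᵥ (u *ᵥ y)) = 0 := by rw [hc21]; exact hy1
    have hy2 : hermForm 3 F q (u *ᵥ (u *ᵥ y)) y = 0 := herm_eq_zero_symm hF hy2'
    obtain ⟨A, hA⟩ := exists_GU_of_gram hF (b := fun i : Fin 3 => (Pi.single i 1 : Fin 3 → F))
      (c := ![y, u *ᵥ y, u *ᵥ (u *ᵥ y)]) (Pi.basisFun F (Fin 3) |>.linearIndependent |> fun h => by
        convert h using 1; ext i; simp) (by simp) (fun i j => by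
          fin_cases i <;> fin_cases j <;>
            simp [herm_std hF, hupres, hy0, hy1, hy2, hy1', hy2', -Matrix.mulVec_mulVec])
    have hrel : ∀ z, M *ᵥ (A.1.1 *ᵥ z) = A.1.1 *ᵥ ((μ • cycP F) *ᵥ z) := by
      have hM' : M = μ • u := by rw [hu, smul_inv_smul₀ hl0]
      have hAe : A.1.1 = (Matrix.of ![y, u *ᵥ y, u *ᵥ (u *ᵥ y)])ᵀ := by
        ext i j
        have := congrFun (hA j) i
        simpa [Matrix.mulVec_single_one] using this
      intro z
      have hz : z = z 0 • Pi.single 0 1 + z 1 • Pi.single 1 1 + z 2 • Pi.single 2 1 := by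
        ext i; fin_cases i <;> simp
      have k0 : A.1.1 *ᵥ Pi.single (0 : Fin 3) 1 = y := hA 0
      have k1 : A.1.1 *ᵥ Pi.single (1 : Fin 3) 1 = u *ᵥ y := hA 1
      have k2 : A.1.1 *ᵥ Pi.single (2 : Fin 3) 1 = u *ᵥ (u *ᵥ y) := hA 2
      have hP : cycP F *ᵥ z = z 2 • Pi.single 0 1 + z 0 • Pi.single 1 1 + z 1 • Pi.single 2 1 := by
        ext i; fin_cases i <;> simp [cycP, Matrix.mulVec, dotProduct, Fin.sum_univ_three]
      rw [Matrix.smul_mulVec, hP, Matrix.mulVec_smul]
      conv_lhs => rw [hz]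
      simp only [Matrix.mulVec_add, Matrix.mulVec_smul, k0, k1, k2, hM', Matrix.smul_mulVec,
        hu3]
      module
    refine exists_SU_conj_shift hF A D (μ • cycP F) hrel 1 ?_
    rw [Matrix.smul_mul, cycP_shift h3, Matrix.mul_smul, Int.cast_one]
  · -- irreducible characteristic polynomial
    push Not at heig
    have heig' : ∀ (v : Fin 3 → F) (l : F), M *ᵥ v = l • v → v = 0 := fun v l h => by
      by_contra h0
      exact heig v l h0 h
    set χ := M.charpoly with hχ
    have hχ3 : χ.natDegree = 3 := by rw [hχ, Matrix.charpoly_natDegree_eq_dim, Fintype.card_fin]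
    have hirr : Irreducible χ := by
      obtain ⟨r, hrm, hr, hrd⟩ := Polynomial.exists_monic_irreducible_factor χ
        (not_isUnit_of_natDegree_pos _ (by rw [hχ3]; norm_num))
      obtain ⟨h1, h2, h4⟩ := factor_degree heig' hr hrd
      have he : r = χ := eq_of_monic_of_associated hrm M.charpoly_monic
        (associated_of_dvd_of_natDegree_le hrd M.charpoly_monic.ne_zero (by rw [hχ3]; omega))
      exact he ▸ hr
    haveI : Fact (Irreducible χ) := ⟨hirr⟩
    haveI : Module.Finite F (AdjoinRoot χ) := M.charpoly_monic.finite_adjoinRoot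
    haveI : Finite (AdjoinRoot χ) := Module.finite_of_finite F
    haveI : Fact (Irreducible (cubicPoly c)) := ⟨cubicPoly_irreducible hc⟩
    haveI : Module.Finite F (AdjoinRoot (cubicPoly c)) := (cubicPoly_monic c).finite_adjoinRoot
    have hfin : finrank F (AdjoinRoot (cubicPoly c)) = finrank F (AdjoinRoot χ) := by
      rw [(AdjoinRoot.powerBasis (cubicPoly_monic c).ne_zero).finrank, AdjoinRoot.powerBasis_dim,
        (AdjoinRoot.powerBasis hirr.ne_zero).finrank, AdjoinRoot.powerBasis_dim, hχ3,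
        cubicPoly_natDegree]
    obtain ⟨φ⟩ := FiniteField.nonempty_algHom_of_finrank_dvd (dvd_of_eq hfin)
    set ω := φ (AdjoinRoot.root (cubicPoly c)) with hω
    have hωroot : ω * (ω * ω) = ω - algebraMap F (AdjoinRoot χ) (c ^ 3) := by
      have h : aeval ω (cubicPoly c) = 0 := by
        rw [hω, aeval_algHom_apply, AdjoinRoot.aeval_eq, AdjoinRoot.mk_self, map_zero]
      rw [aeval_cubicPoly, ← Algebra.algebraMap_eq_smul_one] at h
      linear_combination h
    let Φ : AdjoinRoot χ →ₐ[F] Matrix (Fin 3) (Fin 3) F :=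
      Ideal.Quotient.liftₐ (Ideal.span {χ}) (aeval M) fun a ha => by
        obtain ⟨b, rfl⟩ := Ideal.mem_span_singleton'.1 ha
        rw [map_mul, hχ, Matrix.aeval_self_charpoly, mul_zero]
    set θ := AdjoinRoot.root χ
    have hΦθ : Φ θ = M := aeval_X M
    have hΦinj : Function.Injective Φ := Φ.toRingHom.injective
    have hθ0 : θ ≠ 0 := fun h => by
      have h1 : M = 0 := by rw [← hΦθ, h, map_zero]
      obtain ⟨x, hx⟩ := exists_ne (0 : Fin 3 → F)
      exact hx (heig' x 0 (by rw [h1, Matrix.zero_mulVec, zero_smul]))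
    set M' := toMat 3 F q g⁻¹ with hM'
    have hΦθ' : Φ θ⁻¹ = M' := by
      have h1 : M * Φ θ⁻¹ = 1 := by rw [← hΦθ, ← map_mul, mul_inv_cancel₀ hθ0, map_one]
      have h2 : M' * M = 1 := by rw [hM', hMdef, ← map_mul, inv_mul_cancel, map_one]
      rw [← one_mul (Φ θ⁻¹), ← h2, mul_assoc, h1, mul_one]
    have hadj : ∀ u v, hermForm 3 F q (M *ᵥ u) v = hermForm 3 F q u (M' *ᵥ v) := fun u v => by
      rw [← hM u (M' *ᵥ v), hM', hMdef, Matrix.mulVec_mulVec _ (toMat 3 F q g), ← map_mul,
        mul_inv_cancel, map_one, Matrix.one_mulVec]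
    have hadjp : ∀ (i : ℕ) u v,
        hermForm 3 F q ((M ^ i) *ᵥ u) v = hermForm 3 F q u ((M' ^ i) *ᵥ v) := by
      intro i
      induction i with
      | zero => intro u v; simp
      | succ i ih =>
        intro u v
        rw [pow_succ, ← Matrix.mulVec_mulVec, ih, hadj, pow_succ', Matrix.mulVec_mulVec]
    have hsmul : ∀ (a : F) (y : AdjoinRoot χ) (v : Fin 3 → F),
        Φ (algebraMap F _ a * y) *ᵥ v = a • Φ y *ᵥ v := fun a y v => by
      rw [map_mul, AlgHom.commutes, ← Algebra.smul_def, Matrix.smul_mulVec]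
    have hzero : eval₂ ((algebraMap F (AdjoinRoot χ)).comp (conj hF)) θ⁻¹ χ = 0 := by
      apply hΦinj
      rw [map_zero]
      refine Matrix.mulVec_injective (funext fun v => ?_)
      rw [Matrix.zero_mulVec, eval₂_eq_sum_range, map_sum, Matrix.sum_mulVec]
      refine herm_nondeg_right hF fun u => ?_
      have h := Matrix.aeval_self_charpoly M
      rw [← hχ, aeval_eq_sum_range] at h
      calc hermForm 3 F q u (∑ i ∈ Finset.range (χ.natDegree + 1),
            Φ ((algebraMap F (AdjoinRoot χ)).comp (conj hF) (χ.coeff i) * θ⁻¹ ^ i) *ᵥ v)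
          = hermForm 3 F q ((∑ i ∈ Finset.range (χ.natDegree + 1), χ.coeff i • M ^ i) *ᵥ u) v := by
            rw [herm_sum_right _ hF, Matrix.sum_mulVec, herm_sum_left]
            refine Finset.sum_congr rfl fun i _ => ?_
            rw [RingHom.comp_apply, hsmul, herm_smul_right, conj_apply, pow_q_q hF, map_pow,
              hΦθ', Matrix.smul_mulVec, herm_smul_left, hadjp]
        _ = 0 := by rw [h, Matrix.zero_mulVec, herm_zero_left]
    set σ : AdjoinRoot χ →+* AdjoinRoot χ :=
      AdjoinRoot.lift ((algebraMap F (AdjoinRoot χ)).comp (conj hF)) θ⁻¹ hzero with hσdef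
    have hσadj : ∀ (y : AdjoinRoot χ) u v,
        hermForm 3 F q (Φ y *ᵥ u) v = hermForm 3 F q u (Φ (σ y) *ᵥ v) := by
      intro y
      induction y using AdjoinRoot.induction_on with
      | ih p =>
        induction p using Polynomial.induction_on with
        | C a =>
          intro u v
          rw [AdjoinRoot.mk_C, hσdef, AdjoinRoot.lift_of, RingHom.comp_apply,
            ← AdjoinRoot.algebraMap_eq, AlgHom.commutes, AlgHom.commutes,
            Algebra.algebraMap_eq_smul_one, Algebra.algebraMap_eq_smul_one, Matrix.smul_mulVec,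
            Matrix.smul_mulVec, Matrix.one_mulVec, Matrix.one_mulVec, herm_smul_left,
            herm_smul_right, conj_apply, pow_q_q hF]
        | add p₁ p₂ h₁ h₂ =>
          intro u v
          rw [map_add, map_add σ, map_add, map_add, Matrix.add_mulVec, Matrix.add_mulVec,
            herm_add_left, hadd, h₁, h₂]
        | monomial k a ih =>
          intro u v
          have hσθ : σ θ = θ⁻¹ := AdjoinRoot.lift_root hzero
          rw [pow_succ, ← mul_assoc, map_mul (AdjoinRoot.mk χ), AdjoinRoot.mk_X]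
          generalize (AdjoinRoot.mk χ) (C a * X ^ k) = p' at ih ⊢
          rw [map_mul Φ, hΦθ, ← Matrix.mulVec_mulVec, ih, hadj, map_mul σ, hσθ,
            mul_comm (σ p'), map_mul Φ, hΦθ', Matrix.mulVec_mulVec]
    have hσσ : ∀ y, σ (σ y) = y := by
      intro y
      apply hΦinj
      refine Matrix.mulVec_injective (funext fun v => sub_eq_zero.1 ?_)
      refine herm_nondeg_right hF fun u => ?_
      rw [herm_sub_right _ _ _ hF, ← hσadj, ← herm_conj v (Φ (σ y) *ᵥ u) hF, ← hσadj,
        herm_conj _ _ hF, sub_self]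
    have hσF : ∀ a : F, σ (algebraMap F _ a) = algebraMap F _ (a ^ q) := fun a => by
      exact (AdjoinRoot.lift_of hzero (x := a)).trans rfl
    haveI : CharP (AdjoinRoot χ) 3 := charP_of_injective_algebraMap' F 3
    have h3' : (3 : AdjoinRoot χ) = 0 := CharP.cast_eq_zero _ 3
    have hσω : σ ω = ω := by
      have h1 : σ ω * (σ ω * σ ω) = σ ω - algebraMap F (AdjoinRoot χ) (c ^ 3) := by
        rw [← map_mul, ← map_mul, hωroot, map_sub, hσF, ← pow_mul, mul_comm 3, pow_mul, hcfix]
      set t := σ ω - ω with ht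
      have ht3 : t * (t - 1) * (t + 1) = 0 := by
        rw [ht]
        linear_combination h1 - hωroot + (σ ω * ω * ω - σ ω * σ ω * ω) * h3'
      have htt : σ t = -t := by rw [ht, map_sub, hσσ]; ring
      have hfix : σ t = t := by
        rcases mul_eq_zero.1 ht3 with h | h
        · rcases mul_eq_zero.1 h with h | h
          · rw [h, map_zero]
          · rw [sub_eq_zero.1 h, map_one]
        · rw [eq_neg_of_add_eq_zero_left h, map_neg, map_one]
      refine sub_eq_zero.1 ?_
      linear_combination h3' * t - htt + hfix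
    obtain ⟨c', hc'0, hc'⟩ := exists_trace_zero_ne_zero hF
    have hσne : σ (algebraMap F _ c') ≠ algebraMap F _ c' := by
      rw [hσF]
      intro h
      have h2 := (algebraMap F (AdjoinRoot χ)).injective h
      exact hc'0 (by linear_combination c' * h3 - hc' + h2)
    set x₀ : Fin 3 → F := Pi.single 0 1 with hx₀
    have hli : LinearIndependent F fun i : Fin 3 => ω ^ (i : ℕ) := by
      have h := ((AdjoinRoot.powerBasis (cubicPoly_monic c).ne_zero).basis.linearIndependent.map'
        φ.toLinearMap (LinearMap.ker_eq_bot.2 φ.toRingHom.injective)).comp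
        (Fin.cast (cubicPoly_natDegree c).symm) (Fin.cast_injective _)
      have he : (fun i : Fin 3 => ω ^ (i : ℕ)) = (φ.toLinearMap ∘
          (AdjoinRoot.powerBasis (cubicPoly_monic c).ne_zero).basis) ∘
            Fin.cast (cubicPoly_natDegree c).symm := by
        funext i
        simp [hω, map_pow]
        rfl
      rw [he]
      exact h
    let T : AdjoinRoot χ →ₗ[F] (Fin 3 → F) :=
      { toFun := fun b i => hermForm 3 F q (Φ (ω ^ (i : ℕ) * b) *ᵥ x₀) x₀
        map_add' := fun b b' => funext fun i => by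
          rw [mul_add, map_add, Matrix.add_mulVec, herm_add_left]; rfl
        map_smul' := fun a b => funext fun i => by
          rw [Algebra.smul_def, mul_left_comm, hsmul, herm_smul_left]; rfl }
    have hx0 : x₀ ≠ 0 := fun h => by simpa [x₀] using congrFun h 0
    have hΦvec : ∀ b, Φ b *ᵥ x₀ = 0 → b = 0 := by
      intro b hb
      by_contra hb0
      apply hx0
      rw [← Matrix.one_mulVec x₀, ← map_one Φ, ← inv_mul_cancel₀ hb0, map_mul,
        ← Matrix.mulVec_mulVec, hb, Matrix.mulVec_zero]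
    have hbas : ⊤ ≤ Submodule.span F (Set.range fun i : Fin 3 => Φ (ω ^ (i : ℕ)) *ᵥ x₀) := by
      rw [LinearIndependent.span_eq_top_of_card_eq_finrank (b := fun i : Fin 3 => Φ (ω ^ (i : ℕ)) *ᵥ x₀)]
      · exact hli.map' { toFun := fun b => Φ b *ᵥ x₀
                         map_add' := fun b b' => by simp [Matrix.add_mulVec]
                         map_smul' := fun a b => by simp [Matrix.smul_mulVec] }
          (LinearMap.ker_eq_bot'.2 hΦvec)
      · simp
    have hTinj : Function.Injective T := by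
      rw [← LinearMap.ker_eq_bot, LinearMap.ker_eq_bot']
      intro b hb
      apply hΦvec
      refine herm_nondeg_left hF fun z => ?_
      obtain ⟨d, rfl⟩ := Submodule.mem_span_range_iff_exists_fun F |>.1 (hbas (Submodule.mem_top (x := z)))
      rw [herm_sum_right _ hF]
      refine Finset.sum_eq_zero fun i _ => ?_
      have h : hermForm 3 F q (Φ (ω ^ (i : ℕ) * b) *ᵥ x₀) x₀ = 0 := congrFun hb i
      rw [map_mul, ← Matrix.mulVec_mulVec, hσadj, map_pow σ, hσω] at h
      rw [herm_smul_right, h, mul_zero]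
    obtain ⟨b, hb⟩ := (LinearMap.injective_iff_surjective_of_finrank_eq_finrank (by
      rw [(AdjoinRoot.powerBasis hirr.ne_zero).finrank, AdjoinRoot.powerBasis_dim, hχ3,
        finrank_fin_fun])).1 hTinj (fun i => hermForm 3 F q ((D ^ (i : ℕ)) *ᵥ x₀) x₀)
    have hb' : ∀ i : Fin 3, hermForm 3 F q (Φ (ω ^ (i : ℕ) * b) *ᵥ x₀) x₀ =
        hermForm 3 F q ((D ^ (i : ℕ)) *ᵥ x₀) x₀ := fun i => congrFun hb i
    have hDpow : ∀ (k : ℕ) u v,
        hermForm 3 F q ((D ^ k) *ᵥ u) v = hermForm 3 F q u ((D ^ k) *ᵥ v) := by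
      intro k
      induction k with
      | zero => intro u v; simp
      | succ k ih =>
        intro u v
        rw [pow_succ, ← Matrix.mulVec_mulVec, ih, hDadj, Matrix.mulVec_mulVec, ← pow_succ', pow_succ]
    have hbfix : σ b = b := by
      apply hTinj
      ext i
      show hermForm 3 F q (Φ (ω ^ (i : ℕ) * σ b) *ᵥ x₀) x₀ = _
      rw [show ω ^ (i : ℕ) * σ b = σ (ω ^ (i : ℕ) * b) by rw [map_mul, map_pow, hσω],
        hσadj, hσσ, ← herm_conj (Φ (ω ^ (i : ℕ) * b) *ᵥ x₀) x₀ hF, hb', herm_conj _ _ hF,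
        ← hDpow, ← hb']
      rfl
    obtain ⟨a, ha⟩ := exists_norm_of_fixed σ hσσ hσne hbfix
    obtain ⟨y, hy⟩ : ∃ y, y = Φ a *ᵥ x₀ := ⟨_, rfl⟩
    have key : ∀ k : ℕ, hermForm 3 F q (Φ (ω ^ k) *ᵥ y) y =
        hermForm 3 F q ((D ^ k) *ᵥ x₀) x₀ := by
      intro k
      induction k using Nat.strong_induction_on with
      | _ k ih =>
        by_cases hk : k < 3
        · rw [← hb' ⟨k, hk⟩, hy, Matrix.mulVec_mulVec, ← map_mul, ← ha]
          show hermForm 3 F q _ (Φ a *ᵥ x₀) = hermForm 3 F q (Φ (ω ^ k * (σ a * a)) *ᵥ x₀) x₀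
          conv_rhs => rw [mul_left_comm, map_mul, ← Matrix.mulVec_mulVec, hσadj, hσσ]
        · obtain ⟨j, rfl⟩ : ∃ j, k = j + 3 := ⟨k - 3, by omega⟩
          have e1 : ω ^ (j + 3) = ω ^ (j + 1) - algebraMap F _ (c ^ 3) * ω ^ j := by
            linear_combination ω ^ j * hωroot
          have e2 : D ^ (j + 3) = D ^ (j + 1) - c ^ 3 • D ^ j := by
            rw [pow_add, pow_three D, cubicM_cube h3, mul_sub, mul_smul_comm, mul_one, ← pow_succ]
          rw [e1, e2, map_sub, Matrix.sub_mulVec, hsmul, herm_sub_left, herm_smul_left,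
            ih (j + 1) (by omega), ih j (by omega), Matrix.sub_mulVec, Matrix.smul_mulVec,
            herm_sub_left, herm_smul_left]
    have hDli : LinearIndependent F fun i : Fin 3 => (D ^ (i : ℕ)) *ᵥ x₀ := by
      rw [Fintype.linearIndependent_iff]
      intro d hd
      have e0 := congrFun hd 0
      have e1 := congrFun hd 1
      have e2 := congrFun hd 2
      simp [Fin.sum_univ_three, D, cubicM, x₀, pow_two, Matrix.mul_apply] at e0 e1 e2
      have d2 : d 2 = 0 := by
        have : d 2 * c = 0 := by linear_combination e1 - e2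
        exact (mul_eq_zero.1 this).resolve_right hc0
      rw [d2] at e0 e1
      simp at e0 e1
      intro i
      fin_cases i
      · exact e0
      · exact e1.resolve_right hc0
      · exact d2
    obtain ⟨A, hA⟩ := exists_GU_of_gram hF (b := fun i : Fin 3 => (D ^ (i : ℕ)) *ᵥ x₀)
      (c := fun i : Fin 3 => Φ (ω ^ (i : ℕ)) *ᵥ y) hDli (by simp) fun i j => by
        rw [hDpow, Matrix.mulVec_mulVec, ← pow_add, ← hDpow, ← key, hσadj (ω ^ (i : ℕ)),
          map_pow σ, hσω, Matrix.mulVec_mulVec _ (Φ (ω ^ (i : ℕ))), ← map_mul, ← pow_add,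
          hσadj, map_pow σ, hσω]
    have hspan : ⊤ ≤ Submodule.span F (Set.range fun i : Fin 3 => (D ^ (i : ℕ)) *ᵥ x₀) := by
      rw [hDli.span_eq_top_of_card_eq_finrank (by simp)]
    have hAω : ∀ z, Φ ω *ᵥ (A.1.1 *ᵥ z) = A.1.1 *ᵥ (D *ᵥ z) := by
      intro z
      obtain ⟨d, rfl⟩ := Submodule.mem_span_range_iff_exists_fun F |>.1 (hspan (Submodule.mem_top (x := z)))
      simp only [Matrix.mulVec_sum, Matrix.mulVec_smul]
      refine Finset.sum_congr rfl fun i _ => ?_
      congr 1
      rw [hA, Matrix.mulVec_mulVec _ (Φ ω), ← map_mul, ← pow_succ', Matrix.mulVec_mulVec _ D,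
        ← pow_succ']
      by_cases hi : (i : ℕ) + 1 < 3
      · exact (hA ⟨(i : ℕ) + 1, hi⟩).symm
      · have hi2 : (i : ℕ) + 1 = 3 := by omega
        have a0 : A.1.1 *ᵥ x₀ = y := by simpa using hA 0
        have a1 : A.1.1 *ᵥ (D *ᵥ x₀) = Φ ω *ᵥ y := by simpa using hA 1
        rw [hi2, pow_three ω, hωroot, pow_three D, cubicM_cube h3, map_sub, AlgHom.commutes,
          Algebra.algebraMap_eq_smul_one, Matrix.sub_mulVec, Matrix.smul_mulVec, Matrix.one_mulVec,
          Matrix.sub_mulVec, Matrix.smul_mulVec, Matrix.one_mulVec, Matrix.mulVec_sub,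
          Matrix.mulVec_smul, a0, a1]
    refine exists_SU_conj_shift hF A D ((A⁻¹).1.1 * M * A.1.1) (fun z => ?_) 0 ?_
    · rw [← Matrix.mulVec_mulVec, ← Matrix.mulVec_mulVec, GU_mulVec_inv]
    · rw [Int.cast_zero, add_zero]
      refine Matrix.mulVec_injective (funext fun z => ?_)
      simp only [← Matrix.mulVec_mulVec]
      apply GU_mulVec_injective A
      show A.1.1 *ᵥ ((A⁻¹).1.1 *ᵥ (M *ᵥ (A.1.1 *ᵥ (D *ᵥ z)))) =
        A.1.1 *ᵥ (D *ᵥ ((A⁻¹).1.1 *ᵥ (M *ᵥ (A.1.1 *ᵥ z))))
      rw [GU_mulVec_inv, ← hAω, ← hAω, GU_mulVec_inv, ← hΦθ,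
        Matrix.mulVec_mulVec _ (Φ θ) (Φ ω), Matrix.mulVec_mulVec _ (Φ ω) (Φ θ),
        ((Commute.all θ ω).map Φ).eq]

end Cfsg.Agent.Lib.NormalCoverTwo.Unitary
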