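import Cfsg.Agent.Lib.NormalCoverTwo.Unitary
import Cfsg.Agent.Lib.NormalCoverTwo.Linear

/-!
# Normal coverings by two subgroups: `PSU₄`
-/

set_option autoImplicit false

namespace Cfsg.Agent.Lib.NormalCoverTwo.Unitary

open Polynomial Module Cfsg.Agent.Lib.Unitary
open scoped Matrix

variable {F : Type*} [Field F] [Fintype F] {q : ℕ}

omit [Fintype F] in
theorem aeval_mem {n : ℕ} {M : Matrix (Fin n) (Fin n) F} {U : Submodule F (Fin n → F)}
    (hU : ∀ x ∈ U, M *ᵥ x ∈ U) (p : F[X]) {x : Fin n → F} (hx : x ∈ U) :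
    aeval M p *ᵥ x ∈ U := by
  induction p using Polynomial.induction_on' generalizing x with
  | add a b ha hb =>
    rw [map_add, Matrix.add_mulVec]
    exact U.add_mem (ha hx) (hb hx)
  | monomial k a =>
    rw [← C_mul_X_pow_eq_monomial, map_mul, aeval_C, aeval_X_pow, ← Algebra.smul_def,
      Matrix.smul_mulVec]
    refine U.smul_mem _ ?_
    induction k generalizing x with
    | zero => simpa using hx
    | succ k ih => rw [pow_succ, ← Matrix.mulVec_mulVec]; exact ih (hU x hx)

omit [Fintype F] in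
theorem exists_step {n : ℕ} {M : Matrix (Fin n) (Fin n) F} {S U : Submodule F (Fin n → F)}
    (hU : ∀ x ∈ U, M *ᵥ x ∈ U)
    (hsplit : ∀ r : F[X], r.Monic → Irreducible r → r ∣ M.charpoly → r.natDegree = 1)
    {u : Fin n → F} (huU : u ∈ U) (huS : u ∉ S) :
    ∃ (μ : F) (w : Fin n → F), w ∈ U ∧ w ∉ S ∧ M *ᵥ w - μ • w ∈ S := by
  suffices H : ∀ d : ℕ, ∀ p : F[X], p.natDegree = d → p ≠ 0 → p ∣ M.charpoly →
      aeval M p *ᵥ u ∈ S → ∃ (μ : F) (w : Fin n → F), w ∈ U ∧ w ∉ S ∧ M *ᵥ w - μ • w ∈ S from
    H _ M.charpoly rfl M.charpoly_monic.ne_zero dvd_rfl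
      (by rw [Matrix.aeval_self_charpoly, Matrix.zero_mulVec]; exact S.zero_mem)
  intro d
  induction d using Nat.strong_induction_on with
  | _ d ih =>
    intro p hd hp0 hp hmem
    have hnu : ¬ IsUnit p := by
      intro hunit
      obtain ⟨c, hc, rfl⟩ := Polynomial.isUnit_iff.1 hunit
      rw [aeval_C] at hmem
      exact huS (by
        have h2 : (c • u) ∈ S := by
          simpa [Algebra.algebraMap_eq_smul_one, Matrix.smul_mulVec] using hmem
        exact (S.smul_mem_iff hc.ne_zero).1 h2)
    obtain ⟨r, hrm, hr, hrp⟩ := Polynomial.exists_monic_irreducible_factor p hnu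
    obtain ⟨μ, rfl⟩ : ∃ μ, r = X - C μ := by
      refine ⟨-r.coeff 0, ?_⟩
      rw [map_neg, sub_neg_eq_add]
      exact hrm.eq_X_add_C (hsplit r hrm hr (hrp.trans hp))
    obtain ⟨p', rfl⟩ := hrp
    by_cases h : aeval M p' *ᵥ u ∈ S
    · refine ih p'.natDegree ?_ p' rfl (right_ne_zero_of_mul hp0)
        ((dvd_mul_left p' _).trans hp) h
      rw [natDegree_mul (X_sub_C_ne_zero μ) (right_ne_zero_of_mul hp0), natDegree_X_sub_C] at hd
      omega
    · refine ⟨μ, aeval M p' *ᵥ u, aeval_mem hU p' huU, h, ?_⟩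
      rw [map_mul, ← Matrix.mulVec_mulVec, map_sub, aeval_X, aeval_C, Matrix.sub_mulVec] at hmem
      simpa [Algebra.algebraMap_eq_smul_one, Matrix.smul_mulVec] using hmem

theorem covered_PSU_four (hF : Fintype.card F = q ^ 2) : Covered (Cfsg.PSU 4 F q) := by
  classical
  obtain ⟨t, ht⟩ := norm_surj hF (y := -1) (by rw [neg_pow_q hF, one_pow])
  set e' : Fin 4 → F := ![1, t, 0, 0] with he'
  set s' : Fin 4 → F := ![0, 0, 1, t] with hs'
  have hee : hermForm 4 F q e' e' = 0 := by
    simp [hermForm, e', Fin.sum_univ_four, ht, zero_pow_q hF]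
  have hss : hermForm 4 F q s' s' = 0 := by
    simp [hermForm, s', Fin.sum_univ_four, ht, zero_pow_q hF]
  have hes : hermForm 4 F q e' s' = 0 := by
    simp [hermForm, e', s', Fin.sum_univ_four, zero_pow_q hF]
  have hli' : LinearIndependent F ![e', s'] := by
    rw [LinearIndependent.pair_iff]
    intro a b h
    exact ⟨by simpa [e', s'] using congrFun h 0, by simpa [e', s'] using congrFun h 2⟩
  set L : Submodule F (Fin 4 → F) := Submodule.span F {e', s'} with hL
  refine covered_quotient _ (subStab_point_ne_top hF (by norm_num)) (K := subStab (toMat 4 F q) L)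
    ?_ (center_le_subStab hF (by norm_num) _) (center_le_subStab hF (by norm_num) _) fun g => ?_
  · intro h
    have hp : t ≠ 0 := fun h0 => by simp [h0] at ht
    -- an element moving `L`
    have hx : hermForm 4 F q (![0, 1, 0, 0] : Fin 4 → F) ![0, 1, 0, 0] = 1 := by
      simp [hermForm, Fin.sum_univ_four, zero_pow_q hF]
    have hf2 : hermForm 4 F q (![1, 0, t, 0] : Fin 4 → F) ![1, 0, t, 0] = 0 := by
      simp [hermForm, Fin.sum_univ_four, ht, zero_pow_q hF]
    have hg2 : hermForm 4 F q (![0, 1, 0, t] : Fin 4 → F) ![0, 1, 0, t] = 0 := by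
      simp [hermForm, Fin.sum_univ_four, ht, zero_pow_q hF]
    have hfg : hermForm 4 F q (![1, 0, t, 0] : Fin 4 → F) ![0, 1, 0, t] = 0 := by
      simp [hermForm, Fin.sum_univ_four, zero_pow_q hF]
    have hli2 : LinearIndependent F ![(![1, 0, t, 0] : Fin 4 → F), ![0, 1, 0, t]] := by
      rw [LinearIndependent.pair_iff]
      intro a b hab
      exact ⟨by simpa using congrFun hab 0, by simpa using congrFun hab 1⟩
    obtain ⟨A, a, ha, hdet, hA, -⟩ := exists_SU_isotropic_pair hF hli' hee hss hes hli2 hf2 hg2 hfg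
    obtain ⟨T, hT⟩ := exists_SU_of_GU A hdet
    have h1 := (mem_subStab_iff _ _ _).1 ((Subgroup.eq_top_iff' _).1 h T) e'
      (Submodule.subset_span (by simp))
    rw [hT, hA, hL, Submodule.mem_span_pair] at h1
    obtain ⟨c, d, hcd⟩ := h1
    have h0 := congrFun hcd 0
    have h3 := congrFun hcd 1
    simp [e', s'] at h0 h3
    exact ha (h0.symm.trans (h3.resolve_right hp))
  set M := toMat 4 F q g with hMdef
  have hM : ∀ u v, hermForm 4 F q (M *ᵥ u) (M *ᵥ v) = hermForm 4 F q u v := toMat_herm g
  have hadd : ∀ a b c : Fin 4 → F,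
      hermForm 4 F q a (b + c) = hermForm 4 F q a b + hermForm 4 F q a c :=
    fun a b c => herm_add_right a b c hF
  by_cases hani : ∃ (v : Fin 4 → F) (l : F), hermForm 4 F q v v ≠ 0 ∧ M *ᵥ v = l • v
  · obtain ⟨v, l, hv, hgv⟩ := hani
    obtain ⟨x, hx⟩ := exists_conj_point hF hv hgv (y := Pi.single ⟨0, by norm_num⟩ 1)
      (by simp [herm_std hF])
    exact ⟨x, Or.inl hx⟩
  -- a totally isotropic invariant plane suffices
  have done : ∀ v w : Fin 4 → F, LinearIndependent F ![v, w] → hermForm 4 F q v v = 0 →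
      hermForm 4 F q w w = 0 → hermForm 4 F q v w = 0 →
      M *ᵥ v ∈ Submodule.span F {v, w} → M *ᵥ w ∈ Submodule.span F {v, w} →
      ∃ x : SU 4 F q, x * g * x⁻¹ ∈ subStab (toMat 4 F q) (F ∙ (Pi.single ⟨0, by norm_num⟩ 1 :
        Fin 4 → F)) ∨ x * g * x⁻¹ ∈ subStab (toMat 4 F q) L := by
    intro v w hli hv hw hvw hMv hMw
    obtain ⟨A, a, ha, hdet, hAv, hAw⟩ := exists_SU_isotropic_pair hF hli hv hw hvw hli' hee hss hes
    obtain ⟨T, hT⟩ := exists_SU_of_GU A hdet
    rw [← hT] at hAv hAw
    have hmap : ∀ z ∈ Submodule.span F ({v, w} : Set (Fin 4 → F)), toMat 4 F q T *ᵥ z ∈ L := by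
      intro z hz
      obtain ⟨c, d, rfl⟩ := Submodule.mem_span_pair.1 hz
      rw [Matrix.mulVec_add, Matrix.mulVec_smul, Matrix.mulVec_smul, hAv, hAw, smul_smul]
      exact Submodule.mem_span_pair.2 ⟨_, _, rfl⟩
    refine ⟨T, Or.inr ((mem_subStab_iff _ _ _).2 fun z hz => ?_)⟩
    obtain ⟨c, d, rfl⟩ := Submodule.mem_span_pair.1 hz
    have h1 : toMat 4 F q T⁻¹ *ᵥ e' = a⁻¹ • v := by
      rw [← toMat_inv T v, hAv, Matrix.mulVec_smul, inv_smul_smul₀ ha]
    have h2 : toMat 4 F q T⁻¹ *ᵥ s' = w := by rw [← toMat_inv T w, hAw]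
    rw [map_mul, map_mul, ← Matrix.mulVec_mulVec, ← Matrix.mulVec_mulVec, Matrix.mulVec_add,
      Matrix.mulVec_smul, Matrix.mulVec_smul, h1, h2, Matrix.mulVec_add, Matrix.mulVec_smul,
      Matrix.mulVec_smul, Matrix.mulVec_smul]
    exact hmap _ (Submodule.add_mem _ (Submodule.smul_mem _ _ (Submodule.smul_mem _ _ hMv))
      (Submodule.smul_mem _ _ hMw))
  -- totally isotropic kernels of irreducible factors
  have hker : ∀ r : F[X], r.Monic → Irreducible r → r ∣ M.charpoly → 2 ≤ r.natDegree →
      ∃ x : Fin 4 → F, x ≠ 0 ∧ aeval M r *ᵥ x = 0 := by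
    intro r hrm hr hrd h2
    by_contra! hcon
    have hdet : (aeval M r).det ≠ 0 := fun h0 => by
      obtain ⟨x, hx, hx'⟩ := Matrix.exists_mulVec_eq_zero_iff.2 h0
      exact hcon x hx hx'
    haveI : Fact (Irreducible r) := ⟨hr⟩
    obtain ⟨s, hs⟩ := hrd
    -- the root of `r` is an eigenvalue over `AdjoinRoot r`
    have h1 : ((M.map (algebraMap F (AdjoinRoot r))).charpoly).eval (AdjoinRoot.root r) = 0 := by
      rw [Matrix.charpoly_map, eval_map, ← aeval_def, hs, map_mul, AdjoinRoot.aeval_eq,
        AdjoinRoot.mk_self, zero_mul]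
    rw [Matrix.eval_charpoly] at h1
    obtain ⟨z, hz, hz'⟩ := Matrix.exists_mulVec_eq_zero_iff.2 h1
    rw [Matrix.sub_mulVec, sub_eq_zero] at hz'
    have heig : ∀ p : F[X], ((aeval M p).map (algebraMap F (AdjoinRoot r))) *ᵥ z =
        aeval (AdjoinRoot.root r) p • z := by
      intro p
      induction p using Polynomial.induction_on with
      | C c =>
        rw [aeval_C, aeval_C, Matrix.algebraMap_eq_diagonal, Matrix.diagonal_map (map_zero _)]
        ext i
        simp [Matrix.mulVec_diagonal]
      | add a b ha hb =>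
        rw [map_add, map_add, Matrix.map_add _ (map_add _), Matrix.add_mulVec, ha, hb, add_smul]
      | monomial k c ih =>
        simp only [pow_succ, ← mul_assoc, map_mul, aeval_X] at ih ⊢
        rw [Matrix.map_mul, ← Matrix.mulVec_mulVec, ← hz']
        have : Matrix.scalar (Fin 4) (AdjoinRoot.root r) *ᵥ z = AdjoinRoot.root r • z := by
          ext i; simp [Matrix.mulVec_diagonal]
        rw [this, Matrix.mulVec_smul, ih, smul_comm, mul_smul _ (AdjoinRoot.root r)]
    have h3 := heig r
    rw [AdjoinRoot.aeval_eq, AdjoinRoot.mk_self, zero_smul] at h3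
    have h4 : ((aeval M r).map (algebraMap F (AdjoinRoot r))).det = 0 :=
      Matrix.exists_mulVec_eq_zero_iff.1 ⟨z, hz, h3⟩
    rw [← RingHom.mapMatrix_apply, ← RingHom.map_det, map_eq_zero] at h4
    exact hdet h4
  by_cases h2 : ∃ r : F[X], r.Monic ∧ Irreducible r ∧ r ∣ M.charpoly ∧ r.natDegree = 2
  · obtain ⟨r, hrm, hr, hrd, hr2⟩ := h2
    obtain ⟨x, hx0, hx⟩ := hker r hrm hr hrd hr2.ge
    have hco := coprime_conjRec hF hrm hr (by rw [hr2]; decide)
    have hMx : aeval M r *ᵥ (M *ᵥ x) = 0 := by
      rw [Matrix.mulVec_mulVec, show aeval M r * M = M * aeval M r by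
        have := ((Commute.all r X).map (aeval M)).eq
        rwa [aeval_X] at this, ← Matrix.mulVec_mulVec, hx,
        Matrix.mulVec_zero]
    refine done x (M *ᵥ x) ?_ (herm_eq_zero_of_coprime hF hM r r hco hx hx)
      (herm_eq_zero_of_coprime hF hM r r hco hMx hMx)
      (herm_eq_zero_of_coprime hF hM r r hco hx hMx)
      (Submodule.subset_span (by simp)) ?_
    · rw [LinearIndependent.pair_iff]
      intro a b hab
      by_cases hb : b = 0
      · subst hb
        simp only [zero_smul, add_zero, smul_eq_zero] at hab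
        exact ⟨hab.resolve_right hx0, rfl⟩
      · exfalso
        refine hani ⟨x, -(a / b), fun h0 => ?_, ?_⟩
        · -- an isotropic eigenvector in the kernel
          have h1 : M *ᵥ x = (-(a / b)) • x := by
            rw [← inv_smul_smul₀ hb (M *ᵥ x), eq_neg_of_add_eq_zero_right hab, smul_neg, smul_smul,
              neg_smul, inv_mul_eq_div]
          have h3 := hx
          have h4 : aeval M r *ᵥ x = r.eval (-(a / b)) • x := by
            rw [r.eval_eq_sum_range]
            conv_lhs => rw [r.as_sum_range_C_mul_X_pow]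
            rw [mulVec_sum_smul_pow, Finset.sum_smul]
            refine Finset.sum_congr rfl fun i hi => ?_
            rw [mul_smul]
            congr 1
            clear hi
            induction i with
            | zero => simp
            | succ i ih =>
              rw [pow_succ, ← Matrix.mulVec_mulVec, h1, Matrix.mulVec_smul, ih, smul_smul,
                pow_succ']
          rw [h4, smul_eq_zero] at h3
          have h5 := h3.resolve_right hx0
          have := hr.natDegree_pos
          exact absurd (degree_eq_one_of_irreducible_of_root hr h5)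
            (by rw [degree_eq_natDegree hr.ne_zero, hr2]; decide)
        · rw [← inv_smul_smul₀ hb (M *ᵥ x), eq_neg_of_add_eq_zero_right hab, smul_neg, smul_smul,
            neg_smul, inv_mul_eq_div]
    · have h3 := hx
      have hrsum : r = C (r.coeff 0) + C (r.coeff 1) * X + X ^ 2 := by
        conv_lhs => rw [r.as_sum_range_C_mul_X_pow, hr2]
        rw [Finset.sum_range_succ, Finset.sum_range_succ, Finset.sum_range_one,
          show r.coeff 2 = 1 by rw [← hr2]; exact hrm.coeff_natDegree]
        simp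
      rw [hrsum] at h3
      simp only [map_add, map_mul, aeval_C, aeval_X, map_pow, Algebra.algebraMap_eq_smul_one,
        smul_mul_assoc, one_mul, Matrix.add_mulVec, Matrix.smul_mulVec, Matrix.one_mulVec,
        sq, ← Matrix.mulVec_mulVec] at h3
      refine Submodule.mem_span_pair.2 ⟨-r.coeff 0, -r.coeff 1, ?_⟩
      rw [neg_smul, neg_smul]
      linear_combination (norm := module) -h3
  -- all irreducible factors are linear
  have hn : M.charpoly.natDegree = 4 := by
    rw [Matrix.charpoly_natDegree_eq_dim, Fintype.card_fin]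
  have hsplit : ∀ r : F[X], r.Monic → Irreducible r → r ∣ M.charpoly → r.natDegree = 1 := by
    intro r hrm hr hrd
    by_contra h1
    have hge : 2 ≤ r.natDegree := by have := hr.natDegree_pos; omega
    have hle : r.natDegree ≤ 4 := hn ▸ natDegree_le_of_dvd hrd M.charpoly_monic.ne_zero
    have hne2 : r.natDegree ≠ 2 := fun h => h2 ⟨r, hrm, hr, hrd, h⟩
    obtain ⟨x, hx0, hx⟩ := hker r hrm hr hrd hge
    obtain h4 | h3 : r.natDegree = 4 ∨ r.natDegree = 3 := by omega
    · -- the whole space would be totally isotropic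
      have hreq : r = M.charpoly := eq_of_monic_of_associated hrm M.charpoly_monic
        (associated_of_dvd_of_natDegree_le hrd M.charpoly_monic.ne_zero (by omega))
      have hall : ∀ y, aeval M r *ᵥ y = 0 := fun y => by
        rw [hreq, Matrix.aeval_self_charpoly, Matrix.zero_mulVec]
      exact hx0 (herm_nondeg_left hF fun y => herm_eq_zero_of_coprime hF hM r r
        (coprime_conjRec hF hrm hr (by rw [h4]; decide)) hx (hall y))
    · obtain ⟨s, hs⟩ := hrd
      have hs0 : s ≠ 0 := fun h => M.charpoly_monic.ne_zero (by rw [hs, h, mul_zero])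
      have hsd : s.natDegree = 1 := by
        have := natDegree_mul hr.ne_zero hs0
        rw [← hs, hn] at this
        omega
      have hsm : s.Monic := hrm.of_mul_monic_left (hs ▸ M.charpoly_monic)
      obtain ⟨l, rfl⟩ : ∃ l, s = X - C l := ⟨-s.coeff 0, by
        rw [map_neg, sub_neg_eq_add]; exact hsm.eq_X_add_C hsd⟩
      obtain ⟨v, hv0, hv⟩ := exists_eigvec_of_isRoot (A := M) (x := l) (by
        rw [hs, IsRoot.def, eval_mul, eval_sub, eval_X, eval_C, sub_self, mul_zero])
      have hviso : hermForm 4 F q v v = 0 := by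
        by_contra h
        exact hani ⟨v, l, h, hv⟩
      have hvker : aeval M (X - C l) *ᵥ v = 0 := by
        rw [map_sub, aeval_X, aeval_C, Matrix.sub_mulVec, hv,
          Algebra.algebraMap_eq_smul_one, Matrix.smul_mulVec, Matrix.one_mulVec, sub_self]
      have hcoL : IsCoprime r (conjRec q (X - C l)) := by
        rw [hr.coprime_iff_not_dvd]
        intro hd
        have hne : conjRec q (X - C l) ≠ 0 := fun h0 => by
          have := congrArg (fun p : F[X] => p.coeff 0) h0
          simp [conjRec, natDegree_X_sub_C, Finset.sum_range_succ] at this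
        have h5 := natDegree_le_of_dvd hd hne
        have h6 : (conjRec q (X - C l)).natDegree ≤ 1 := by
          refine natDegree_sum_le_of_forall_le _ _ fun i _ => (natDegree_C_mul_X_pow_le _ _).trans ?_
          rw [natDegree_X_sub_C]
          omega
        omega
      have hco : IsCoprime r (X - C l) := by
        rw [hr.coprime_iff_not_dvd]
        intro hd
        have := natDegree_le_of_dvd hd (X_sub_C_ne_zero l)
        rw [natDegree_X_sub_C] at this
        omega
      obtain ⟨a, b, hab⟩ := hco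
      refine hv0 (herm_nondeg_left hF fun y => ?_)
      have hy : y = aeval M (a * r) *ᵥ y + aeval M (b * (X - C l)) *ᵥ y := by
        rw [← Matrix.add_mulVec, ← map_add, hab, map_one, Matrix.one_mulVec]
      have hy1 : aeval M r *ᵥ (aeval M (b * (X - C l)) *ᵥ y) = 0 := by
        rw [Matrix.mulVec_mulVec, ← map_mul, ← mul_assoc, mul_comm r b, mul_assoc, ← hs, map_mul,
          Matrix.aeval_self_charpoly, mul_zero, Matrix.zero_mulVec]
      have hy2 : aeval M (X - C l) *ᵥ (aeval M (a * r) *ᵥ y) = 0 := by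
        rw [Matrix.mulVec_mulVec, ← map_mul, mul_comm a r, ← mul_assoc, mul_comm _ r, ← hs, map_mul,
          Matrix.aeval_self_charpoly, zero_mul, Matrix.zero_mulVec]
      rw [hy, hadd, herm_eq_zero_of_coprime hF hM _ r hcoL hvker hy1, add_zero]
      -- eigenvectors of `l` are mutually orthogonal
      set y1 := aeval M (a * r) *ᵥ y
      have hy1' : M *ᵥ y1 = l • y1 := by
        rw [map_sub, aeval_X, aeval_C, Matrix.sub_mulVec, Algebra.algebraMap_eq_smul_one,
          Matrix.smul_mulVec, Matrix.one_mulVec, sub_eq_zero] at hy2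
        exact hy2
      have hiso : ∀ z : Fin 4 → F, M *ᵥ z = l • z → hermForm 4 F q z z = 0 := fun z hz => by
        by_contra h
        exact hani ⟨z, l, h, hz⟩
      refine eq_zero_of_trace_mul_eq_zero hF fun c => ?_
      have h7 := hiso (c • v + y1)
        (by rw [Matrix.mulVec_add, Matrix.mulVec_smul, hv, hy1', smul_add, smul_comm])
      simp only [herm_add_left, hadd, herm_smul_left, herm_smul_right, hviso, hiso y1 hy1',
        mul_zero, add_zero, zero_add] at h7
      rw [mul_pow, herm_conj v y1 hF]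
      linear_combination h7
  -- a split element
  obtain ⟨r, hrm, hr, hrd⟩ := Polynomial.exists_monic_irreducible_factor M.charpoly
    (not_isUnit_of_natDegree_pos _ (by rw [hn]; norm_num))
  obtain ⟨v, hv0, hv⟩ := exists_eigvec_of_isRoot (A := M) (x := -r.coeff 0) (by
    refine IsRoot.dvd ?_ hrd
    rw [hrm.eq_X_add_C (hsplit r hrm hr hrd), IsRoot.def]
    simp)
  set l := -r.coeff 0
  have hviso : hermForm 4 F q v v = 0 := by
    by_contra h
    exact hani ⟨v, l, h, hv⟩
  have hinj : ∀ z, M *ᵥ z = 0 → z = 0 := fun z hz => by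
    rw [← toMat_inv g z, ← hMdef, hz, Matrix.mulVec_zero]
  have hl0 : l ≠ 0 := fun h0 => hv0 (hinj v (by rw [hv, h0, zero_smul]))
  -- an adapted eigenvalue lemma
  have key : ∀ (μ : F) (w : Fin 4 → F), hermForm 4 F q w v = 0 → w ∉ F ∙ v →
      M *ᵥ w - μ • w ∈ F ∙ v →
      (hermForm 4 F q w w ≠ 0 ∧ μ = l) ∨
        ∃ x : SU 4 F q, x * g * x⁻¹ ∈ subStab (toMat 4 F q) (F ∙ (Pi.single ⟨0, by norm_num⟩ 1 :
          Fin 4 → F)) ∨ x * g * x⁻¹ ∈ subStab (toMat 4 F q) L := by
    intro μ w hwv hw hMw
    obtain ⟨α, hα⟩ := Submodule.mem_span_singleton.1 hMw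
    have hMw' : M *ᵥ w = μ • w + α • v := by rw [hα]; abel
    have hvw := herm_eq_zero_symm hF hwv
    by_cases hww : hermForm 4 F q w w = 0
    · refine Or.inr (done v w ?_ hviso hww hvw ?_ ?_)
      · rw [LinearIndependent.pair_iff]
        intro c d hcd
        have hd : d = 0 := by
          by_contra hd
          refine hw (Submodule.mem_span_singleton.2 ⟨-(c / d), ?_⟩)
          rw [← inv_smul_smul₀ hd w, eq_neg_of_add_eq_zero_right hcd, smul_neg, smul_smul,
            neg_smul, inv_mul_eq_div]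
        subst hd
        simp only [zero_smul, add_zero, smul_eq_zero] at hcd
        exact ⟨hcd.resolve_right hv0, rfl⟩
      · exact Submodule.mem_span_pair.2 ⟨l, 0, by rw [hv, zero_smul, add_zero]⟩
      · exact Submodule.mem_span_pair.2 ⟨α, μ, by rw [hMw', add_comm]⟩
    · refine Or.inl ⟨hww, ?_⟩
      by_contra hne
      have hne' : μ - l ≠ 0 := sub_ne_zero.2 hne
      refine hani ⟨w + (α / (μ - l)) • v, μ, ?_, ?_⟩
      · simp only [herm_add_left, hadd, herm_smul_left, herm_smul_right, hviso, hwv, hvw,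
          mul_zero, add_zero]
        exact hww
      · have he : α + α / (μ - l) * l = μ * (α / (μ - l)) := by field_simp; ring
        rw [Matrix.mulVec_add, Matrix.mulVec_smul, hv, hMw', smul_add, smul_smul, smul_smul,
          add_assoc, ← add_smul, he]
  have hperp : ∀ (W : Submodule F (Fin 4 → F)) (k : ℕ), finrank F W ≤ k → k + 1 < 4 →
      ∃ u, u ∈ perp q W ∧ u ∉ F ∙ v := by
    intro W k hk hk4
    by_contra! hall
    have h3 := Submodule.finrank_mono (show perp q W ≤ F ∙ v from hall)
    have h4 := finrank_perp hF W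
    rw [finrank_span_singleton hv0] at h3
    omega
  have hU1 : ∀ x ∈ perp q (F ∙ v), M *ᵥ x ∈ perp q (F ∙ v) := by
    intro x hx y hy
    obtain ⟨c, rfl⟩ := Submodule.mem_span_singleton.1 hy
    have h7 := hM x v
    rw [hv, herm_smul_right, hx v (Submodule.mem_span_singleton_self v), mul_eq_zero] at h7
    rw [herm_smul_right, h7.resolve_left (pow_ne_zero _ hl0), mul_zero]
  obtain ⟨u, huU, huS⟩ := hperp (F ∙ v) 1 (finrank_span_singleton hv0).le (by norm_num)
  obtain ⟨μ, w, hwU, hwS, hMw⟩ := exists_step hU1 hsplit huU huS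
  have hwv := hwU v (Submodule.mem_span_singleton_self v)
  rcases key μ w hwv hwS hMw with ⟨hww, rfl⟩ | h
  swap
  · exact h
  obtain ⟨α, hα⟩ := Submodule.mem_span_singleton.1 hMw
  have hMw' : M *ᵥ w = l • w + α • v := by rw [hα]; abel
  set U := perp q (Submodule.span F ({v, w} : Set (Fin 4 → F)))
  have hU : ∀ x ∈ U, M *ᵥ x ∈ U := by
    intro x hx
    have hxv := (mem_perp_span hF).1 hx v (by simp)
    have hxw := (mem_perp_span hF).1 hx w (by simp)
    have hlq := pow_ne_zero q hl0
    have h7 := hM x v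
    rw [hv, herm_smul_right, hxv, mul_eq_zero] at h7
    have h7' := h7.resolve_left hlq
    have h8 := hM x w
    rw [hMw', hadd, herm_smul_right, herm_smul_right, h7', hxw, mul_zero, add_zero,
      mul_eq_zero] at h8
    refine (mem_perp_span hF).2 fun y hy => ?_
    rcases hy with rfl | rfl
    · exact h7'
    · exact h8.resolve_left hlq
  obtain ⟨u', hu'U, hu'S⟩ := hperp (Submodule.span F ({v, w} : Set (Fin 4 → F))) 2 (by
    have h9 := finrank_span_le_card ({v, w} : Set (Fin 4 → F)) (R := F)
    exact h9.trans (by simpa using (Finset.card_le_two (a := v) (b := w)))) (by norm_num)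
  obtain ⟨ν, z, hzU, hzS, hMz⟩ := exists_step hU hsplit hu'U hu'S
  have hzv := (mem_perp_span hF).1 hzU v (by simp)
  have hzw := (mem_perp_span hF).1 hzU w (by simp)
  rcases key ν z hzv hzS hMz with ⟨hzz, rfl⟩ | h
  swap
  · exact h
  obtain ⟨t', ht'⟩ := norm_surj hF (y := -(hermForm 4 F q z z / hermForm 4 F q w w))
    (by rw [neg_pow_q hF, div_pow, herm_self_fixed z hF, herm_self_fixed w hF])
  have hiso : hermForm 4 F q (z + t' • w) (z + t' • w) = 0 := by
    simp only [herm_add_left, hadd, herm_smul_left, herm_smul_right, hzw,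
      herm_eq_zero_symm hF hzw, mul_zero, add_zero, zero_add]
    linear_combination hermForm 4 F q w w * ht' -
      div_mul_cancel₀ (hermForm 4 F q z z) hww
  have hb1 : hermForm 4 F q (z + t' • w) v = 0 := by
    rw [herm_add_left, herm_smul_left, hzv, hwv, mul_zero, add_zero]
  have hb2 : z + t' • w ∉ F ∙ v := by
    intro hmem
    obtain ⟨c, hc⟩ := Submodule.mem_span_singleton.1 hmem
    have h9 := congrArg (fun x => hermForm 4 F q x w) hc
    simp only [herm_smul_left, herm_add_left, hzw, herm_eq_zero_symm hF hwv, mul_zero,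
      zero_add] at h9
    have ht0 : t' = 0 := (mul_eq_zero.1 h9.symm).resolve_right hww
    rw [ht0, zero_smul, add_zero] at hc
    exact hzS (hc ▸ Submodule.mem_span_singleton.2 ⟨c, rfl⟩)
  have hb3 : M *ᵥ (z + t' • w) - l • (z + t' • w) ∈ F ∙ v := by
    have : M *ᵥ (z + t' • w) - l • (z + t' • w) =
        (M *ᵥ z - l • z) + t' • (M *ᵥ w - l • w) := by
      rw [Matrix.mulVec_add, Matrix.mulVec_smul]; module
    rw [this]
    exact Submodule.add_mem _ hMz (Submodule.smul_mem _ _ hMw)
  rcases key l (z + t' • w) hb1 hb2 hb3 with ⟨h, -⟩ | h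
  · exact absurd hiso h
  · exact h

end Cfsg.Agent.Lib.NormalCoverTwo.Unitary
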